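import Mathlib.RingTheory.Etale.Weakly
import Mathlib.RingTheory.Valuation.LocalSubring
import Mathlib.RingTheory.Flat.TorsionFree
import Mathlib.RingTheory.Flat.EquationalCriterion
import Mathlib.RingTheory.Flat.FaithfullyFlat.Algebra
import Mathlib.FieldTheory.IsAlgClosed.AlgebraicClosure
import Mathlib.FieldTheory.IsSepClosed
import Groth.Agent.Lib.WEtaleH7.Field
import Groth.Agent.Lib.HensH7.Integral

/-!
Olivier's theorem: a weakly étale local algebra over a strictly henselian local ring is the ring itself.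

The key step is that, for a subring of a field which is integrally closed, idempotents of the generic
fibre of a weakly étale algebra are already defined over the subring (reduction to valuation rings,
where weakly étale algebras have flat ideals).
-/

open TensorProduct Polynomial

universe u

namespace Groth.Agent.Olivier

set_option linter.style.haveILetI false

section Lift

variable {A L : Type u} [CommRing A] [Field L] [Algebra A L]
variable (B : Type u) [CommRing B] [Algebra A B]

/-- The comparison map of a subalgebra. -/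
noncomputable def subMap (R : Subalgebra A L) : R ⊗[A] B →ₐ[A] L ⊗[A] B :=
  Algebra.TensorProduct.map R.val (AlgHom.id A B)

lemma subMap_eq (R : Subalgebra A L) (z : R ⊗[A] B) :
    subMap B R z = R.val.toLinearMap.rTensor B z := by
  induction z with
  | zero => simp
  | add x y hx hy => simp [hx, hy]
  | tmul r b => rfl

lemma subMap_injective [Module.Flat A B] (R : Subalgebra A L) : Function.Injective (subMap B R) := by
  intro x y h
  rw [subMap_eq, subMap_eq] at h
  exact Module.Flat.rTensor_preserves_injective_linearMap (M := B) R.val.toLinearMap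
    Subtype.val_injective h

lemma range_subMap_mono {R R' : Subalgebra A L} (h : R ≤ R') {e : L ⊗[A] B}
    (he : e ∈ (subMap B R).range) : e ∈ (subMap B R').range := by
  obtain ⟨z, rfl⟩ := he
  refine ⟨Algebra.TensorProduct.map (Subalgebra.inclusion h) (AlgHom.id A B) z, ?_⟩
  induction z with
  | zero => simp
  | add x y hx hy =>
    change subMap B R' _ = _ at hx hy ⊢
    change subMap B R' _ = subMap B R (x + y)
    rw [map_add, map_add, map_add, hx, hy]
    rfl
  | tmul r b => rfl

lemma mem_range_inf [Module.Flat A B] {R R' : Subalgebra A L} {e : L ⊗[A] B}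
    (h : e ∈ (subMap B R).range) (h' : e ∈ (subMap B R').range) :
    e ∈ (subMap B (R ⊓ R')).range := by
  let q₁ := R.toSubmodule.mkQ
  let q₂ := R'.toSubmodule.mkQ
  have hex : Function.Exact (R ⊓ R').val.toLinearMap (q₁.prod q₂) := by
    intro x
    constructor
    · intro hx
      simp only [LinearMap.prod_apply, Function.prod, Prod.mk_eq_zero, q₁, q₂,
        Submodule.mkQ_apply, Submodule.Quotient.mk_eq_zero] at hx
      exact ⟨⟨x, hx.1, hx.2⟩, rfl⟩
    · rintro ⟨⟨y, hy⟩, rfl⟩
      simp only [LinearMap.prod_apply, Function.prod, Prod.mk_eq_zero, q₁, q₂,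
        Submodule.mkQ_apply, Submodule.Quotient.mk_eq_zero]
      exact hy
  have key : ∀ (S : Subalgebra A L), e ∈ (subMap B S).range → S.toSubmodule.mkQ.rTensor B e = 0 := by
    rintro S ⟨z, hz⟩
    change subMap B S z = e at hz
    rw [← hz]
    clear hz
    induction z with
    | zero => simp
    | add x y hx hy => simp [hx, hy]
    | tmul r b =>
      change S.toSubmodule.mkQ (r : L) ⊗ₜ[A] b = 0
      rw [Submodule.mkQ_apply, (Submodule.Quotient.mk_eq_zero _).2
        (show (r : L) ∈ S.toSubmodule from r.2), zero_tmul]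
  have h0 : (q₁.prod q₂).rTensor B e = 0 := by
    have : q₁.prod q₂ = (LinearMap.inl A _ _) ∘ₗ q₁ + (LinearMap.inr A _ _) ∘ₗ q₂ := by
      ext x <;> simp
    rw [this, LinearMap.rTensor_add, LinearMap.add_apply, LinearMap.rTensor_comp,
      LinearMap.rTensor_comp, LinearMap.comp_apply, LinearMap.comp_apply, key R h, key R' h']
    simp
  obtain ⟨z, hz⟩ := (Module.Flat.rTensor_exact B hex e).1 h0
  exact ⟨z, (subMap_eq B _ z).trans hz⟩

/-- Integrally closed in the ambient field. -/
def IC (R : Subalgebra A L) : Prop :=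
  ∀ (p : L[X]), p.Monic → (∀ i, p.coeff i ∈ R) → ∀ x, p.IsRoot x → x ∈ R

lemma isIntegrallyClosedIn_of_IC {R : Subalgebra A L} (h : IC R) :
    IsIntegrallyClosedIn R.toSubring L := by
  refine isIntegrallyClosedIn_iff.2 ⟨Subtype.val_injective, fun {x} hx ↦ ?_⟩
  obtain ⟨p, hp, hpx⟩ := hx
  refine ⟨⟨x, h (p.map (algebraMap R.toSubring L)) (hp.map _) (fun i ↦ ?_) x ?_⟩, rfl⟩
  · rw [coeff_map]
    exact (p.coeff i).2
  · rw [IsRoot.def, eval_map]
    exact hpx

lemma mem_of_forall_valuationSubring {R : Subalgebra A L} (h : IC R) {x : L}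
    (hx : ∀ V : ValuationSubring L, R.toSubring ≤ V.toSubring → x ∈ V) : x ∈ R := by
  haveI := isIntegrallyClosedIn_of_IC h
  rw [← Subalgebra.mem_toSubring, Subring.eq_iInf_of_isIntegrallyClosedIn (R := R.toSubring),
    Subring.mem_iInf]
  exact fun V ↦ hx V.1 V.2

/-- The intersection of the valuation subrings containing a given set and the base. -/
def cl (A : Type u) [CommRing A] [Algebra A L] (s : Set L) : Subalgebra A L where
  carrier := {x | ∀ V : ValuationSubring L, s ⊆ V → (∀ a : A, algebraMap A L a ∈ V) → x ∈ V}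
  mul_mem' hx hy V h h' := mul_mem (hx V h h') (hy V h h')
  add_mem' hx hy V h h' := add_mem (hx V h h') (hy V h h')
  algebraMap_mem' r V _ h' := h' r

lemma subset_cl (s : Set L) : s ⊆ (cl A s : Set L) := fun _ hx _ h _ ↦ h hx

lemma IC_cl (s : Set L) : IC (cl A s) := by
  intro p hp hc x hx V h h'
  have hint : IsIntegral V x := by
    refine ⟨p.toSubring V.toSubring ?_, (monic_toSubring _ _ _).2 hp, ?_⟩
    · intro y hy
      obtain ⟨i, -, rfl⟩ := mem_coeffs_iff.1 hy
      exact hc i V h h'
    · change (p.toSubring V.toSubring _).eval₂ V.toSubring.subtype x = 0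
      rw [← eval_map, map_toSubring]
      exact hx
  obtain ⟨y, hy⟩ := IsIntegrallyClosed.isIntegral_iff.1 hint
  rw [← hy]
  exact y.2

end Lift

section Valuation

variable (V : Type u) [CommRing V] [IsDomain V] [ValuationRing V]
  {W : Type u} [CommRing W] [Algebra V W] [Algebra.WeaklyEtale V W]

include V in
lemma exists_kill_of_mul_eq_zero {x y : W} (h : y * x = 0) (n : Ideal W) [n.IsPrime] :
    ∃ u ∉ n, u * x = 0 ∨ u * y = 0 := by
  haveI : Module.Flat W (Ideal.span {x}) := by
    haveI : Module.IsTorsionFree V (Ideal.span {x}) :=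
      Subtype.val_injective.moduleIsTorsionFree _ (fun r m ↦ Submodule.coe_smul_of_tower r m)
    haveI : Module.Flat V (Ideal.span {x}) := by
      rw [Module.Flat.flat_iff_torsion_eq_bot_of_isBezout, ← Submodule.isTorsionFree_iff_torsion_eq_bot]
      infer_instance
    exact WEtaleH7.flat_of_flat_lmul V _ (Algebra.WeaklyEtale.flat_lmul' V W)
  let x' : Ideal.span {x} := ⟨x, Ideal.mem_span_singleton_self x⟩
  obtain ⟨k, a, m, hm, ha⟩ := Module.Flat.isTrivialRelation_of_sum_smul_eq_zero
    (ι := Unit) (f := fun _ ↦ y) (x := fun _ ↦ x') (by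
      simp only [Finset.univ_unique, Finset.sum_singleton]
      exact Subtype.ext h)
  have hc : ∀ j, ∃ c, c * x = (m j : W) := fun j ↦ Ideal.mem_span_singleton'.1 (m j).2
  choose c hc using hc
  let v := ∑ j, a () j * c j
  have hv : (1 - v) * x = 0 := by
    have h1 := congrArg Subtype.val (hm ())
    simp only [x', Submodule.coe_sum, Submodule.coe_smul_of_tower, smul_eq_mul] at h1
    rw [sub_mul, one_mul, Finset.sum_mul, sub_eq_zero]
    conv_lhs => rw [h1]
    exact Finset.sum_congr rfl fun j _ ↦ by rw [mul_assoc, hc]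
  have hvy : v * y = 0 := by
    rw [Finset.sum_mul]
    refine Finset.sum_eq_zero fun j _ ↦ ?_
    have := ha j
    simp only [Finset.univ_unique, Finset.sum_singleton] at this
    calc a () j * c j * y = c j * (y * a () j) := by ring
      _ = 0 := by rw [show y * a () j = 0 from this, mul_zero]
  by_cases hvn : v ∈ n
  · exact ⟨1 - v, fun h1 ↦ Ideal.IsPrime.ne_top ‹_›
      ((Ideal.eq_top_iff_one _).2 (by simpa using n.add_mem h1 hvn)), .inl hv⟩
  · exact ⟨v, hvn, .inr hvy⟩

include V in
lemma dvd_of_mul_self_eq {b s : W} (h : b * b = s * b) : s ∣ b := by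
  by_contra hne
  have hI : Submodule.colon (Ideal.span {s}) ({b} : Set W) ≠ ⊤ := fun htop ↦ hne
    (Ideal.mem_span_singleton.1
      (by simpa using Submodule.mem_colon_singleton.1 ((Ideal.eq_top_iff_one _).1 htop)))
  obtain ⟨n, hn, hle⟩ := Ideal.exists_le_maximal _ hI
  obtain ⟨u, hu, h1 | h1⟩ :=
    exists_kill_of_mul_eq_zero V (x := b) (y := b - s) (by rw [sub_mul, h, sub_self]) n
  · exact hu (hle (Submodule.mem_colon_singleton.2 (by rw [smul_eq_mul, h1]; exact Ideal.zero_mem _)))
  · refine hu (hle (Submodule.mem_colon_singleton.2 ?_))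
    rw [smul_eq_mul, Ideal.mem_span_singleton]
    exact ⟨u, by linear_combination h1⟩

end Valuation

section Main

variable {A L : Type u} [CommRing A] [Field L] [Algebra A L]
variable {B : Type u} [CommRing B] [Algebra A B]

lemma mem_range_of_valuation [Algebra.WeaklyEtale A B] (R : Subalgebra A L)
    (hR : ∀ x : L, x ∈ R ∨ x⁻¹ ∈ R) {e : L ⊗[A] B} (he : IsIdempotentElem e) :
    e ∈ (subMap B R).range := by
  let V : ValuationSubring L := { R.toSubring with mem_or_inv_mem' := hR }
  haveI : ValuationRing R := inferInstanceAs (ValuationRing V)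
  haveI := Algebra.WeaklyEtale.flat (R := A) (S := B)
  have hspec : ∀ z : L ⊗[A] B, ∃ (s : R) (w : R ⊗[A] B), (s : L) ≠ 0 ∧
      (s : L) • z = subMap B R w := by
    intro z
    induction z with
    | zero => exact ⟨1, 0, one_ne_zero, by simp⟩
    | add x y hx hy =>
      obtain ⟨s, w, hs, hw⟩ := hx
      obtain ⟨t, v, ht, hv⟩ := hy
      refine ⟨s * t, t • w + s • v, mul_ne_zero hs ht, ?_⟩
      have hsm : ∀ (r : R) (w : R ⊗[A] B), subMap B R (r • w) = (r : L) • subMap B R w := by
        intro r w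
        induction w with
        | zero => simp
        | add x y hx hy => simp [smul_add, hx, hy]
        | tmul a b => simp [subMap, smul_tmul']
      rw [map_add, hsm, hsm, ← hw, ← hv, smul_smul, smul_smul, MulMemClass.coe_mul, smul_add,
        mul_comm (t : L) (s : L)]
    | tmul l b =>
      rcases hR l with hl | hl
      · exact ⟨1, ⟨l, hl⟩ ⊗ₜ b, one_ne_zero, by simp [subMap]⟩
      · by_cases h0 : l = 0
        · subst h0
          exact ⟨1, 0, one_ne_zero, by simp⟩
        · refine ⟨⟨l⁻¹, hl⟩, 1 ⊗ₜ b, inv_ne_zero h0, ?_⟩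
          simp [subMap, smul_tmul', h0]
  obtain ⟨s, w, hs, hw⟩ := hspec e
  have hsmul : ∀ (r : R) (w : R ⊗[A] B), subMap B R (algebraMap R (R ⊗[A] B) r * w) =
      (r : L) • subMap B R w := by
    intro r w
    induction w with
    | zero => simp
    | add x y hx hy => rw [mul_add, map_add, hx, hy, map_add, smul_add]
    | tmul a b => simp [subMap, smul_tmul']
  have hw2 : w * w = algebraMap R (R ⊗[A] B) s * w := by
    apply subMap_injective B R
    rw [map_mul, hsmul, ← hw, smul_mul_smul_comm, he.eq, smul_smul]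
  obtain ⟨c, hc⟩ := dvd_of_mul_self_eq R hw2
  refine ⟨c, ?_⟩
  have h2 := hw
  rw [hc, hsmul] at h2
  change subMap B R c = e
  exact (smul_right_injective (M := L ⊗[A] B) hs h2).symm

lemma mem_range_of_IC [Algebra.WeaklyEtale A B] (R₀ : Subalgebra A L) (hR₀ : IC R₀)
    {e : L ⊗[A] B} (he : IsIdempotentElem e) : e ∈ (subMap B R₀).range := by
  haveI := Algebra.WeaklyEtale.flat (R := A) (S := B)
  by_contra hne
  let S : Set (Subalgebra A L) := {R | IC R ∧ e ∉ (subMap B R).range}
  obtain ⟨R, -, hR⟩ := zorn_le_nonempty₀ S (fun c hcS hc R₁ hR₁ ↦ by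
    haveI : Nonempty c := ⟨⟨R₁, hR₁⟩⟩
    have hdir : Directed (· ≤ ·) (fun R : c ↦ (R : Subalgebra A L)) :=
      hc.directed
    refine ⟨⨆ R : c, (R : Subalgebra A L), ⟨fun p hp hcoeff x hx ↦ ?_, fun hmem ↦ ?_⟩,
      fun R hR ↦ le_iSup (fun R : c ↦ (R : Subalgebra A L)) ⟨R, hR⟩⟩
    · have : ∀ i, ∃ R : c, p.coeff i ∈ (R : Subalgebra A L) := fun i ↦ by
        have := hcoeff i
        rw [← SetLike.mem_coe, Subalgebra.coe_iSup_of_directed hdir, Set.mem_iUnion] at this
        exact this
      choose f hf using this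
      classical
      obtain ⟨R', hR'⟩ := hdir.finset_le ((Finset.range (p.natDegree + 1)).image f)
      refine (le_iSup (fun R : c ↦ (R : Subalgebra A L)) R')
        ((hcS R'.2).1 p hp (fun i ↦ ?_) x hx)
      by_cases hi : i ≤ p.natDegree
      · exact hR' (f i) (Finset.mem_image_of_mem _ (Finset.mem_range.2 (by omega))) (hf i)
      · rw [coeff_eq_zero_of_natDegree_lt (by omega)]
        exact zero_mem _
    · obtain ⟨z, hz⟩ := hmem
      have : ∀ z : (⨆ R : c, (R : Subalgebra A L) : Subalgebra A L) ⊗[A] B,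
          ∃ R : c, subMap B (⨆ R : c, (R : Subalgebra A L)) z ∈
            (subMap B (R : Subalgebra A L)).range := by
        intro z
        induction z with
        | zero => exact ⟨⟨R₁, hR₁⟩, by rw [map_zero]; exact zero_mem _⟩
        | add x y hx hy =>
          obtain ⟨Rx, hx⟩ := hx
          obtain ⟨Ry, hy⟩ := hy
          obtain ⟨R', h1, h2⟩ := hdir Rx Ry
          refine ⟨R', ?_⟩
          rw [map_add]
          exact add_mem (range_subMap_mono B h1 hx) (range_subMap_mono B h2 hy)
        | tmul r b =>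
          have hr := r.2
          rw [← SetLike.mem_coe, Subalgebra.coe_iSup_of_directed hdir, Set.mem_iUnion] at hr
          obtain ⟨R', hr⟩ := hr
          exact ⟨R', ⟨r, hr⟩ ⊗ₜ b, rfl⟩
      obtain ⟨R', hR'⟩ := this z
      exact (hcS R'.2).2 (hz ▸ hR')) R₀ ⟨hR₀, hne⟩
  obtain ⟨⟨hRIC, hRe⟩, hmax⟩ := hR
  refine hRe (mem_range_of_valuation R (fun x ↦ ?_) he)
  by_contra hx
  push Not at hx
  have key : ∀ y : L, y ∉ R → e ∈ (subMap B (cl A (insert y (R : Set L)))).range := by
    intro y hy
    by_contra h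
    exact hy (hmax (y := cl A (insert y (R : Set L))) ⟨IC_cl _, h⟩
      (fun z hz ↦ subset_cl _ (Set.mem_insert_of_mem _ hz)) (subset_cl _ (Set.mem_insert _ _)))
  refine hRe (range_subMap_mono B (fun z hz ↦ ?_)
    (mem_range_inf B (key x hx.1) (key x⁻¹ hx.2)))
  refine mem_of_forall_valuationSubring hRIC fun V hV ↦ ?_
  have hA : ∀ a : A, algebraMap A L a ∈ V := fun a ↦ hV (R.algebraMap_mem a)
  rcases V.mem_or_inv_mem x with hxV | hxV
  · exact hz.1 V (Set.insert_subset hxV hV) hA
  · exact hz.2 V (Set.insert_subset hxV hV) hA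

end Main

section Olivier

lemma mem_range_of_separable {k K : Type u} [Field k] [Field K] [Algebra k K] [IsSepClosed k]
    (P : k[X]) (hP : P.Separable) {x : K} (hx : aeval x P = 0) :
    ∃ a, algebraMap k K a = x := by
  have hint : IsIntegral k x := ⟨P * C P.leadingCoeff⁻¹, monic_mul_leadingCoeff_inv hP.ne_zero, by
    rw [← aeval_def, map_mul, hx, zero_mul]⟩
  have hsep : IsSeparable k x := hP.of_dvd (minpoly.dvd k x hx)
  exact minpoly.degree_eq_one_iff.1
    (IsSepClosed.degree_eq_one_of_irreducible (k := k) (minpoly.irreducible hint) hsep)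


variable {A B : Type u} [CommRing A] [HenselianLocalRing A] [CommRing B] [IsLocalRing B]
  [IsSepClosed (IsLocalRing.ResidueField A)] [Algebra A B] [IsLocalHom (algebraMap A B)]
  [Algebra.WeaklyEtale A B]

lemma exists_sub_mem_maximalIdeal (b : B) :
    ∃ a : A, b - algebraMap A B a ∈ IsLocalRing.maximalIdeal B := by
  let kA := IsLocalRing.ResidueField A
  let kB := IsLocalRing.ResidueField B
  letI : Algebra kA kB := (IsLocalRing.ResidueField.map (algebraMap A B)).toAlgebra
  haveI : IsScalarTower A kA kB := IsScalarTower.of_algebraMap_eq fun _ ↦ rfl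
  let θ : kA ⊗[A] B →ₐ[kA] kB :=
    Algebra.TensorProduct.lift (Algebra.ofId kA kB) (IsScalarTower.toAlgHom A B kB)
      fun _ _ ↦ Commute.all _ _
  obtain ⟨P, hP, hPb⟩ := WEtaleH7.exists_separable_of_weaklyEtale (K := kA) ((1 : kA) ⊗ₜ[A] b)
  have hroot : aeval (algebraMap B kB b) P = 0 := by
    rw [show algebraMap B kB b = θ (1 ⊗ₜ b) by simp [θ], aeval_algHom_apply, hPb, map_zero]
  obtain ⟨a, ha⟩ := mem_range_of_separable P hP hroot
  obtain ⟨a, rfl⟩ := IsLocalRing.residue_surjective a
  refine ⟨a, (IsLocalRing.residue_eq_zero_iff _).1 ?_⟩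
  rw [map_sub, sub_eq_zero]
  exact ha.symm
lemma isLocalRing_tensor {L' : Type u} [Field L'] [Algebra A L'] (R : Subalgebra A L') [IsLocalRing R] [Algebra.IsIntegral A R]
    [Nontrivial (R ⊗[A] B)] : IsLocalRing (R ⊗[A] B) := by
  letI : Algebra B (R ⊗[A] B) := Algebra.TensorProduct.rightAlgebra
  haveI : Algebra.IsIntegral B (R ⊗[A] B) := ⟨fun z ↦ by
    induction z with
    | zero => exact isIntegral_zero
    | add x y hx hy => exact hx.add hy
    | tmul r b =>
      have h1 : IsIntegral B (r ⊗ₜ[A] (1 : B)) :=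
        ((Algebra.IsIntegral.isIntegral (R := A) r).map
          (Algebra.TensorProduct.includeLeft : R →ₐ[A] R ⊗[A] B)).tower_top
      rw [show r ⊗ₜ[A] b = (r ⊗ₜ[A] (1 : B)) * algebraMap B (R ⊗[A] B) b by
        rw [show algebraMap B (R ⊗[A] B) b = (1 : R) ⊗ₜ[A] b from rfl,
          Algebra.TensorProduct.tmul_mul_tmul, mul_one, one_mul]]
      exact h1.mul isIntegral_algebraMap⟩
  have hNB : ∀ N : Ideal (R ⊗[A] B), N.IsMaximal →
      ∀ b ∈ IsLocalRing.maximalIdeal B, (1 : R) ⊗ₜ[A] b ∈ N := by
    intro N hN b hb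
    haveI := Ideal.isMaximal_comap_of_isIntegral_of_isMaximal (R := B) N
    rw [← IsLocalRing.eq_maximalIdeal this] at hb
    exact hb
  have key : ∀ z : R ⊗[A] B, ∃ r : R, ∀ N : Ideal (R ⊗[A] B), N.IsMaximal → z - r ⊗ₜ 1 ∈ N := by
    intro z
    induction z with
    | zero => exact ⟨0, fun N _ ↦ by simp⟩
    | add x y hx hy =>
      obtain ⟨r, hr⟩ := hx
      obtain ⟨r', hr'⟩ := hy
      exact ⟨r + r', fun N hN ↦ by simpa [add_tmul, add_sub_add_comm] using N.add_mem (hr N hN) (hr' N hN)⟩
    | tmul r b =>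
      obtain ⟨a, ha⟩ := exists_sub_mem_maximalIdeal (A := A) b
      refine ⟨r * algebraMap A R a, fun N hN ↦ ?_⟩
      have := N.mul_mem_left (r ⊗ₜ[A] (1 : B)) (hNB N hN _ ha)
      rw [Algebra.TensorProduct.tmul_mul_tmul, mul_one, one_mul, tmul_sub] at this
      rwa [Algebra.algebraMap_eq_smul_one, mul_smul_comm, mul_one, smul_tmul,
        ← Algebra.algebraMap_eq_smul_one]
  have hcomap : ∀ N : Ideal (R ⊗[A] B), N.IsMaximal →
      N.comap (Algebra.TensorProduct.includeLeft (S := A) : R →ₐ[A] R ⊗[A] B) =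
        IsLocalRing.maximalIdeal R := by
    intro N hN
    haveI := Ideal.comap_isPrime (Algebra.TensorProduct.includeLeft (S := A) : R →ₐ[A] R ⊗[A] B) N
    refine IsLocalRing.eq_maximalIdeal (Ideal.isMaximal_of_isIntegral_of_isMaximal_comap (R := A) _ ?_)
    letI : Algebra B (R ⊗[A] B) := Algebra.TensorProduct.rightAlgebra
    have hB := IsLocalRing.eq_maximalIdeal
      (Ideal.isMaximal_comap_of_isIntegral_of_isMaximal (R := B) N)
    rw [show (N.comap (Algebra.TensorProduct.includeLeft (S := A) : R →ₐ[A] R ⊗[A] B)).comap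
        (algebraMap A R) = (N.comap (algebraMap B (R ⊗[A] B))).comap (algebraMap A B) from by
      ext a
      simp only [Ideal.mem_comap]
      exact iff_of_eq (congrArg (· ∈ N) (by
        rw [Algebra.TensorProduct.includeLeft_apply,
          show algebraMap B (R ⊗[A] B) (algebraMap A B a) = (1 : R) ⊗ₜ[A] algebraMap A B a from rfl,
          Algebra.algebraMap_eq_smul_one, Algebra.algebraMap_eq_smul_one, smul_tmul])), hB]
    rw [show (IsLocalRing.maximalIdeal B).comap (algebraMap A B) = IsLocalRing.maximalIdeal A from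
      IsLocalRing.maximalIdeal_comap (algebraMap A B)]
    exact IsLocalRing.maximalIdeal.isMaximal A
  obtain ⟨N₁, hN₁⟩ := Ideal.exists_maximal (R ⊗[A] B)
  refine IsLocalRing.of_unique_max_ideal ⟨N₁, hN₁, fun N₂ hN₂ ↦ (hN₂.eq_of_le hN₁.ne_top fun z hz ↦ ?_)⟩
  obtain ⟨r, hr⟩ := key z
  have h2 : r ⊗ₜ[A] (1 : B) ∈ N₂ := by simpa using N₂.sub_mem hz (hr N₂ hN₂)
  have h3 : r ∈ N₁.comap (Algebra.TensorProduct.includeLeft (S := A) : R →ₐ[A] R ⊗[A] B) := by
    rw [hcomap N₁ hN₁, ← hcomap N₂ hN₂]
    exact h2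
  simpa using N₁.add_mem (hr N₁ hN₁) h3

lemma algHom_eq_algHom (L : Type u) [Field L] [Algebra A L] [IsAlgClosed L]
    (f g : B →ₐ[A] L) : f = g := by
  haveI := Algebra.WeaklyEtale.flat (R := A) (S := B)
  let R₀ : Subalgebra A L := integralClosure A L
  haveI : Algebra.IsIntegral A R₀ := inferInstance
  haveI : IsLocalRing R₀ := HensH7.isLocalRing_of_integral_domain A
  have hIC : IC R₀ := by
    intro p hp hc x hx
    have hint : IsIntegral R₀ x := by
      refine ⟨p.toSubring R₀.toSubring ?_, (monic_toSubring _ _ _).2 hp, ?_⟩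
      · intro y hy
        obtain ⟨i, -, rfl⟩ := mem_coeffs_iff.1 hy
        exact hc i
      · change (p.toSubring R₀.toSubring _).eval₂ R₀.toSubring.subtype x = 0
        rw [← eval_map, map_toSubring]
        exact hx
    exact isIntegral_trans (R := A) (A := R₀) x hint
  let φ (f : B →ₐ[A] L) : L ⊗[A] B →ₐ[L] L :=
    Algebra.TensorProduct.lift (AlgHom.id L L) f fun _ _ ↦ Commute.all _ _
  haveI : Nontrivial (L ⊗[A] B) := (φ f).toRingHom.domain_nontrivial
  haveI : Nontrivial (R₀ ⊗[A] B) := (subMap B R₀).toRingHom.domain_nontrivial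
  haveI := isLocalRing_tensor (A := A) (B := B) R₀
  have hidem : ∀ e : L ⊗[A] B, IsIdempotentElem e → e = 0 ∨ e = 1 := by
    intro e he
    obtain ⟨z, hz⟩ := mem_range_of_IC R₀ hIC he
    change subMap B R₀ z = e at hz
    have hz' : IsIdempotentElem z := by
      apply subMap_injective B R₀
      rw [map_mul, hz, he.eq]
    rcases IsLocalRing.isUnit_or_isUnit_one_sub_self z with h | h
    · exact .inr (by rw [← hz, (IsIdempotentElem.iff_eq_one_of_isUnit h).1 hz', map_one])
    · have h0 : z = 0 := by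
        simpa using (IsIdempotentElem.iff_eq_one_of_isUnit h).1 hz'.one_sub
      exact .inl (by rw [← hz, h0, map_zero])
  have hVNR := WEtaleH7.vnr_of_weaklyEtale_field (K := L) (B := L ⊗[A] B)
  haveI : IsDomain (L ⊗[A] B) := by
    haveI : NoZeroDivisors (L ⊗[A] B) := ⟨fun {a b} hab ↦ by
      obtain ⟨t, ht⟩ := hVNR a
      rcases hidem (a * t) (show (a * t) * (a * t) = a * t by linear_combination t * ht) with h | h
      · exact .inl (by rw [← ht, mul_assoc, h, mul_zero])
      · exact .inr (by linear_combination t * hab - b * h)⟩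
    exact NoZeroDivisors.to_isDomain _
  haveI : Algebra.IsIntegral L (L ⊗[A] B) := ⟨fun x ↦ by
    obtain ⟨P, hP, hx⟩ := WEtaleH7.exists_separable_of_weaklyEtale (K := L) x
    exact ⟨P * C P.leadingCoeff⁻¹, monic_mul_leadingCoeff_inv hP.ne_zero, by
      rw [← aeval_def, map_mul, hx, zero_mul]⟩⟩
  have hsurj := (IsAlgClosed.algebraMap_bijective_of_isIntegral (k := L) (K := L ⊗[A] B)).2
  ext b
  obtain ⟨l, hl⟩ := hsurj (1 ⊗ₜ b)
  have h1 : ∀ f : B →ₐ[A] L, f b = l := fun f ↦ by
    have := congrArg (φ f) hl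
    rw [AlgHom.commutes] at this
    simpa [φ] using this.symm
  rw [h1 f, h1 g]

theorem bijective_algebraMap : Function.Bijective (algebraMap A B) := by
  haveI := Algebra.WeaklyEtale.flat (R := A) (S := B)
  haveI : Module.FaithfullyFlat A B := Module.FaithfullyFlat.of_flat_of_isLocalHom
  let μ := Algebra.TensorProduct.lmul' A (S := B)
  haveI hpure := WEtaleH7.pure_ker_of_lmul_flat (Algebra.WeaklyEtale.flat_lmul' A B)
  have hker : RingHom.ker μ = ⊥ := by
    refine eq_bot_iff.2 fun x hx ↦ ?_
    obtain ⟨y, hy, hxy⟩ := Ideal.exists_eq_mul_of_pure hx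
    have hnil : IsNilpotent y := by
      rw [← mem_nilradical, nilradical_eq_sInf, Ideal.mem_sInf]
      intro P hP
      haveI : P.IsPrime := hP
      let L := AlgebraicClosure P.ResidueField
      let ι : B ⊗[A] B →ₐ[A] L :=
        (IsScalarTower.toAlgHom A P.ResidueField L).comp
          (IsScalarTower.toAlgHom A (B ⊗[A] B) P.ResidueField)
      have heq := algHom_eq_algHom L (ι.comp Algebra.TensorProduct.includeLeft)
        (ι.comp Algebra.TensorProduct.includeRight)
      have hfac : ι = (ι.comp Algebra.TensorProduct.includeLeft).comp μ := by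
        ext b
        · simp [μ]
        · have := AlgHom.congr_fun heq b
          simpa [μ] using this.symm
      have h0 : ι y = 0 := by
        rw [hfac, AlgHom.comp_apply, show μ y = 0 from hy, map_zero]
      have h1 : algebraMap (B ⊗[A] B) P.ResidueField y = 0 :=
        (algebraMap P.ResidueField L).injective (h0.trans (map_zero _).symm)
      rwa [Ideal.algebraMap_residueField_eq_zero] at h1
    have h1 : x * (1 - y) = 0 := by rw [mul_sub, mul_one, ← hxy, sub_self]
    exact (IsUnit.mul_left_eq_zero hnil.isUnit_one_sub).1 h1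
  refine ⟨FaithfulSMul.algebraMap_injective A B, fun b ↦ ?_⟩
  have h1 : (b ⊗ₜ[A] (1 : B)) = 1 ⊗ₜ[A] b := by
    rw [← sub_eq_zero, ← Ideal.mem_bot, ← hker, RingHom.mem_ker, map_sub]
    simp [μ]
  let M := LinearMap.range (Algebra.linearMap A B)
  have h2 := congrArg (M.mkQ.lTensor B) h1
  simp only [LinearMap.lTensor_tmul, Submodule.mkQ_apply] at h2
  rw [(Submodule.Quotient.mk_eq_zero M (x := (1 : B))).2 ⟨1, (algebraMap A B).map_one⟩, tmul_zero] at h2
  have h3 : Submodule.Quotient.mk (p := M) b = 0 :=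
    Module.FaithfullyFlat.tensorProduct_mk_injective (A := A) (B := B) (B ⧸ M)
      (show (1 : B) ⊗ₜ[A] Submodule.Quotient.mk (p := M) b = 1 ⊗ₜ[A] 0 by rw [← h2, tmul_zero])
  exact (Submodule.Quotient.mk_eq_zero M).1 h3

end Olivier

end Groth.Agent.Olivier
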