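import Groth.Agent.Lib.WLocal.Top
import Mathlib.RingTheory.Spectrum.Prime.Topology
import Mathlib.RingTheory.Spectrum.Prime.ConstructibleSet
import Mathlib.RingTheory.Ideal.GoingUp

/-!
Prime spectra: profinite spectra, localizations onto specializing sets, stratifications.
-/

open Set Topology PrimeSpectrum

set_option linter.style.haveILetI false

universe u

namespace Groth.Agent.WLocal

/-- A T1 spectral space is profinite. -/
lemma isProfinite_of_t1 {X : Type u} [TopologicalSpace X] [SpectralSpace X] [T1Space X] :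
    ProEtW.IsProfinite X := by
  have hcl : ∀ U : Set X, IsOpen U → IsCompact U → IsClopen U := fun U hU hUc ↦
    ⟨PtSet.isClosed_of_toPatch (PtSet.isClopen_toPatch hU hUc).1
      (fun a b hab ha ↦ hab.eq ▸ ha), hU⟩
  have : ∀ x y : X, x ≠ y → ∃ U : Set X, IsClopen U ∧ x ∈ U ∧ y ∉ U := by
    intro x y h
    obtain ⟨U, hU, hUc, hxy⟩ := PtSet.exists_compactOpen_separating h
    by_cases hx : x ∈ U
    · exact ⟨U, hcl U hU hUc, hx, hxy.1 hx⟩
    · exact ⟨Uᶜ, (hcl U hU hUc).compl, hx, fun hy ↦ hy (not_not.1 fun h' ↦ hx (hxy.2 h'))⟩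
  refine ⟨inferInstance, ⟨fun x y h ↦ ?_⟩, ⟨fun s _ hs x hx y hy ↦ by_contra fun hne ↦ ?_⟩⟩
  · obtain ⟨U, hU, hx, hy⟩ := this x y h
    exact ⟨U, Uᶜ, hU.2, hU.compl.2, hx, hy, disjoint_compl_right⟩
  · obtain ⟨U, hU, hxU, hyU⟩ := this x y hne
    exact hyU (hs.subset_isClopen hU ⟨x, hx, hxU⟩ hy)

variable {A B : Type u} [CommRing A] [CommRing B] [Algebra A B]

lemma profinite_of_incomparable [T2Space (PrimeSpectrum A)]
    (h : ∀ q q' : PrimeSpectrum B,
      q.asIdeal.comap (algebraMap A B) = q'.asIdeal.comap (algebraMap A B) →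
      q.asIdeal ≤ q'.asIdeal → q = q') :
    ProEtW.IsProfinite (PrimeSpectrum B) := by
  haveI : T1Space (PrimeSpectrum B) := by
    refine t1Space_iff_specializes_imp_eq.2 fun q q' hsp ↦ ?_
    have hle := (PrimeSpectrum.le_iff_specializes q q').2 hsp
    have heq := ((hsp.map (PrimeSpectrum.continuous_comap (algebraMap A B))).eq)
    exact h q q' (by simpa [PrimeSpectrum.ext_iff] using congrArg PrimeSpectrum.asIdeal heq) hle
  exact isProfinite_of_t1

lemma profinite_of_algebraic [T2Space (PrimeSpectrum A)]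
    (h : ProEtW.AlgebraicResidueExtensions A B) :
    ProEtW.IsProfinite (PrimeSpectrum B) := by
  refine profinite_of_incomparable (A := A) fun q q' hc hle ↦ ?_
  haveI := h q.asIdeal
  refine PrimeSpectrum.ext (le_antisymm hle fun b hb ↦ ?_)
  by_contra hbq
  obtain ⟨r, hr, hr'⟩ :=
    (Algebra.IsAlgebraic.isAlgebraic (R := A ⧸ q.asIdeal.comap (algebraMap A B))
      (Ideal.Quotient.mk q.asIdeal b)).exists_nonzero_dvd
      (mem_nonZeroDivisors_of_ne_zero (mt Ideal.Quotient.eq_zero_iff_mem.1 hbq))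
  obtain ⟨a, rfl⟩ := Ideal.Quotient.mk_surjective r
  obtain ⟨c, hc'⟩ := hr'
  obtain ⟨c, rfl⟩ := Ideal.Quotient.mk_surjective c
  have : algebraMap A B a - b * c ∈ q.asIdeal := by
    rw [← Ideal.Quotient.eq_zero_iff_mem, map_sub, map_mul, ← hc']
    exact sub_self _
  refine hr (Ideal.Quotient.eq_zero_iff_mem.2 ?_)
  rw [hc]
  change algebraMap A B a ∈ q'.asIdeal
  have := q'.asIdeal.add_mem (hle this) (q'.asIdeal.mul_mem_right c hb)
  simpa using this

lemma exists_localization_onto (f : A) (I : Ideal A) :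
    ∃ S : Submonoid A, Set.range (PrimeSpectrum.comap (algebraMap A (Localization S))) =
      {x | ∃ z : PrimeSpectrum A,
        z ∈ (PrimeSpectrum.basicOpen f : Set (PrimeSpectrum A)) ∩ PrimeSpectrum.zeroLocus I ∧
          x ⤳ z} := by
  let S : Submonoid A :=
    { carrier := {g | ∀ z : PrimeSpectrum A,
        z ∈ (PrimeSpectrum.basicOpen f : Set (PrimeSpectrum A)) ∩ PrimeSpectrum.zeroLocus I →
          g ∉ z.asIdeal}
      one_mem' := fun z _ ↦ z.asIdeal.ne_top_iff_one.1 z.isPrime.ne_top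
      mul_mem' := fun ha hb z hz hab ↦
        (z.isPrime.mem_or_mem hab).elim (ha z hz) (hb z hz) }
  refine ⟨S, ?_⟩
  rw [PrimeSpectrum.localization_comap_range (Localization S) S]
  ext x
  simp only [mem_ofPred_eq]
  constructor
  · intro hx
    have hdisj : Disjoint ((x.asIdeal ⊔ I : Ideal A) : Set A) (Submonoid.powers f : Set A) := by
      rw [disjoint_left]
      rintro _ hmem ⟨n, rfl⟩
      obtain ⟨g, hg, i, hi, hgi⟩ := Submodule.mem_sup.1 hmem
      refine disjoint_left.1 hx (show g ∈ S from ?_) hg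
      intro z hz hgz
      refine hz.1 (z.isPrime.mem_of_pow_mem n ?_)
      rw [← show g + i = f ^ n from hgi]
      exact z.asIdeal.add_mem hgz (hz.2 hi)
    obtain ⟨p, hp, hle, hpd⟩ := Ideal.exists_le_prime_disjoint _ _ hdisj
    refine ⟨⟨p, hp⟩, ⟨fun hfp ↦ disjoint_left.1 hpd hfp ⟨1, pow_one f⟩, ?_⟩, ?_⟩
    · exact fun i hi ↦ hle (Submodule.mem_sup_right hi)
    · exact (PrimeSpectrum.le_iff_specializes x ⟨p, hp⟩).1 fun a ha ↦ hle (Submodule.mem_sup_left ha)
  · rintro ⟨z, hz, hxz⟩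
    rw [disjoint_left]
    exact fun g hg hgx ↦ hg z hz ((PrimeSpectrum.le_iff_specializes x z).2 hxz hgx)

lemma exists_finset_stratification {ι : Type u} [Finite ι]
    (T : ι → Set (PrimeSpectrum A)) (hT : ∀ i, Topology.IsConstructible (T i))
    (hcov : ⋃ i, T i = Set.univ) :
    ∃ E : Finset A, ∀ E'' : Finset A, E'' ⊆ E →
      ∀ x : PrimeSpectrum A, (∀ f ∈ E, f ∈ x.asIdeal ↔ f ∈ E'') →
        ∃ i, {y : PrimeSpectrum A | ∀ f ∈ E, f ∈ y.asIdeal ↔ f ∈ E''} ⊆ T i := by
  classical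
  haveI := Fintype.ofFinite ι
  choose S hS using fun i ↦ PrimeSpectrum.exists_constructibleSetData_iff.2 (hT i)
  refine ⟨Finset.univ.biUnion fun i ↦ (S i).biUnion fun C ↦
    insert C.f (Finset.univ.image C.g), fun E'' _ x hx ↦ ?_⟩
  obtain ⟨i, hi⟩ := mem_iUnion.1 (hcov.ge (mem_univ x))
  refine ⟨i, fun y hy ↦ ?_⟩
  rw [← hS i] at hi ⊢
  simp only [ConstructibleSetData.toSet, mem_iUnion] at hi ⊢
  obtain ⟨C, hC, hxC⟩ := hi
  refine ⟨C, hC, ?_⟩
  have key : ∀ a ∈ insert C.f (Finset.univ.image C.g), (a ∈ y.asIdeal ↔ a ∈ x.asIdeal) := by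
    intro a ha
    have : a ∈ Finset.univ.biUnion fun i ↦ (S i).biUnion fun C ↦
        insert C.f (Finset.univ.image C.g) :=
      Finset.mem_biUnion.2 ⟨i, Finset.mem_univ _, Finset.mem_biUnion.2 ⟨C, hC, ha⟩⟩
    rw [hy a this, hx a this]
  simp only [BasicConstructibleSetData.toSet, Set.mem_sdiff, PrimeSpectrum.mem_zeroLocus,
    Set.range_subset_iff, singleton_subset_iff, SetLike.mem_coe] at hxC ⊢
  refine ⟨fun j ↦ (key _ (by simp)).2 (hxC.1 j), fun h ↦ hxC.2 ((key _ (by simp)).1 h)⟩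

end Groth.Agent.WLocal
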