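import Groth.Agent.Lib.WLocal.RetractLoc
import Groth.Agent.Lib.Hens.FiniteType
import Groth.Agent.Lib.WLocal.Spec
import Mathlib.RingTheory.Etale.StandardEtale
import Mathlib.FieldTheory.IsSepClosed

/-!
Local rings with etale retractions are strictly henselian; ind-Zariski localizations.
-/

open CategoryTheory Limits Set Polynomial

universe u

namespace Groth.Agent.WLocal

set_option linter.style.haveILetI false

variable {A : Type u} [CommRing A]

lemma hasEtaleRetractions_atPrime (h : ProEtW.HasEtaleRetractions A) (m : Ideal A) [m.IsMaximal] :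
    ProEtW.HasEtaleRetractions (Localization.AtPrime m) := by
  refine hasEtaleRetractions_localization m.primeCompl m ?_ h
  rw [PrimeSpectrum.localization_comap_range (Localization.AtPrime m) m.primeCompl]
  ext x
  simp only [mem_ofPred_eq]
  constructor
  · intro hx
    refine ⟨⟨m, inferInstance⟩, fun a ha ↦ ha, (PrimeSpectrum.le_iff_specializes _ _).1 ?_⟩
    exact fun a ha ↦ not_not.1 fun ham ↦ disjoint_left.1 hx ham ha
  · rintro ⟨z, hz, hxz⟩
    rw [disjoint_left]
    intro a ha hax
    exact ha ((Ideal.IsMaximal.eq_of_le ‹m.IsMaximal› z.isPrime.ne_top hz).ge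
      ((PrimeSpectrum.le_iff_specializes _ _).2 hxz hax))

lemma retraction_of_closedPoint {R : Type u} [CommRing R] [IsLocalRing R]
    (h : ProEtW.HasEtaleRetractions R) (E : Type u) [CommRing E] [Algebra R E] [Algebra.Etale R E]
    (q : PrimeSpectrum E)
    (hq : PrimeSpectrum.comap (algebraMap R E) q = IsLocalRing.closedPoint R) :
    Nonempty (E →ₐ[R] R) := by
  refine h E (Module.FaithfullyFlat.of_comap_surjective fun x ↦ ?_) inferInstance
  have ho : IsOpen (range (PrimeSpectrum.comap (algebraMap R E))) := by
    rw [← image_univ]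
    exact PrimeSpectrum.isOpenMap_comap_of_hasGoingDown_of_finitePresentation _ isOpen_univ
  exact (IsLocalRing.specializes_closedPoint x).mem_open ho ⟨q, hq⟩

lemma isStrictlyHenselian_of_retractions {R : Type u} [CommRing R] [IsLocalRing R]
    (h : ProEtW.HasEtaleRetractions R) : EtCoh.IsStrictlyHenselianLocalRing R := by
  have hH : HenselianLocalRing R := Hens.henselianLocalRing_of_etale_retraction R
    fun S _ _ _ q _ hq _ ↦ retraction_of_closedPoint h S ⟨q, inferInstance⟩
      (PrimeSpectrum.ext hq.over.symm)
  refine ⟨hH, IsSepClosed.of_exists_root _ fun p hp hirr hsep ↦ ?_⟩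
  obtain ⟨f, hf, -, hfm⟩ := Polynomial.lifts_and_natDegree_eq_and_monic
    ((Polynomial.lifts_iff_coeff_lifts p).2 fun n ↦ IsLocalRing.residue_surjective _) hp
  let P : StandardEtalePair R := ⟨f, hfm, derivative f, 1, 0, 1, by ring⟩
  let K := AlgebraicClosure (IsLocalRing.ResidueField R)
  obtain ⟨x, hx⟩ := IsAlgClosed.exists_aeval_eq_zero K p hirr.degree_pos.ne'
  have hmap : ∀ g : R[X], aeval x g = aeval x (g.map (IsLocalRing.residue R)) := fun g ↦ by
    rw [show IsLocalRing.residue R = algebraMap R (IsLocalRing.ResidueField R) from rfl,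
      aeval_map_algebraMap]
  have hP : P.HasMap x := by
    refine ⟨by rw [hmap, hf]; exact hx, ?_⟩
    rw [hmap, ← derivative_map, hf]
    exact (hsep.aeval_derivative_ne_zero hx).isUnit
  let φ := P.lift x hP
  haveI : (RingHom.ker φ).IsPrime := RingHom.ker_isPrime _
  obtain ⟨r⟩ := retraction_of_closedPoint h P.Ring ⟨RingHom.ker φ, inferInstance⟩ (by
    refine PrimeSpectrum.ext ?_
    ext a
    rw [PrimeSpectrum.comap_asIdeal, Ideal.mem_comap, RingHom.mem_ker, φ.commutes,
      IsScalarTower.algebraMap_apply R (IsLocalRing.ResidueField R) K, map_eq_zero]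
    exact IsLocalRing.residue_eq_zero_iff a)
  refine ⟨IsLocalRing.residue R (r P.X), ?_⟩
  rw [← hf, Polynomial.eval_map, show f.eval₂ (IsLocalRing.residue R) (IsLocalRing.residue R (r P.X)) =
      IsLocalRing.residue R (aeval (r P.X) f) by rw [aeval_def, hom_eval₂]; rfl,
    show aeval (r P.X) f = r (aeval P.X P.f) from aeval_algHom_apply r P.X f, P.hasMap_X.1,
    map_zero, map_zero]

lemma isIndZariski_of_isLocalization (S : Submonoid A) (B : Type u) [CommRing B] [Algebra A B]
    [IsLocalization S B] : EtPBC.IsIndZariski A B := by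
  refine ⟨LocIdx S, inferInstance, inferInstance, locDiag S, locCocone S B, locIsColimit S B,
    fun g ↦ ?_, ⟨Iso.refl _⟩⟩
  have h : Algebra.IsLocalIso A (Localization.Away (el g).1) := inferInstance
  show @Algebra.IsLocalIso A (Localization.Away (el g).1) _ _
    (algebraMap A (Localization.Away (el g).1)).toAlgebra
  convert h
  exact Algebra.algebra_ext _ _ fun r ↦ rfl

lemma exists_indZariski_quotient_onto
    (T : Set (_root_.ConnectedComponents (PrimeSpectrum A))) (hT : IsClosed T) :
    ∃ (B : Type u) (_ : CommRing B) (_ : Algebra A B),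
      EtPBC.IsIndZariski A B ∧ Function.Surjective (algebraMap A B) ∧
      Topology.IsEmbedding (PrimeSpectrum.comap (algebraMap A B)) ∧
      range (PrimeSpectrum.comap (algebraMap A B)) = _root_.ConnectedComponents.mk ⁻¹' T := by
  let S : Submonoid A :=
    { carrier := {e | IsIdempotentElem e ∧ _root_.ConnectedComponents.mk ⁻¹' T ⊆
        (PrimeSpectrum.basicOpen e : Set (PrimeSpectrum A))}
      one_mem' := ⟨IsIdempotentElem.one, by simp⟩
      mul_mem' := fun ha hb ↦ ⟨ha.1.mul hb.1, by
        rw [PrimeSpectrum.basicOpen_mul]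
        exact subset_inter ha.2 hb.2⟩ }
  have hsurj : Function.Surjective (algebraMap A (Localization S)) := by
    intro b
    obtain ⟨⟨a, s⟩, rfl⟩ := IsLocalization.mk'_surjective S b
    refine ⟨a, (IsLocalization.eq_mk'_iff_mul_eq).2 ?_⟩
    have hs : algebraMap A (Localization S) s = 1 := by
      have h := (IsLocalization.map_units (Localization S) s)
      exact (IsIdempotentElem.iff_eq_one_of_isUnit h).1 (s.2.1.map _)
    rw [hs, mul_one]
  refine ⟨Localization S, inferInstance, inferInstance, isIndZariski_of_isLocalization S _, hsurj,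
    (PrimeSpectrum.localization_comap_isEmbedding (Localization S) S), ?_⟩
  rw [PrimeSpectrum.localization_comap_range (Localization S) S]
  ext x
  simp only [mem_ofPred_eq, mem_preimage]
  constructor
  · intro hx
    by_contra hxT
    obtain ⟨V, hV, hTV, hVx⟩ := exists_clopen_of_closed_subset_open hT
      (isClosed_singleton (x := _root_.ConnectedComponents.mk x)).isOpen_compl
      (fun t ht (h : t = _) ↦ hxT (h ▸ ht))
    obtain ⟨e, he, hVe⟩ := PrimeSpectrum.isClopen_iff.1
      (hV.preimage _root_.ConnectedComponents.continuous_coe)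
    refine disjoint_left.1 hx (show e ∈ S from ⟨he, (preimage_mono hTV).trans hVe.le⟩) ?_
    by_contra hex
    exact hVx (hVe.ge hex) rfl
  · intro hx
    rw [disjoint_left]
    exact fun e he hex ↦ he.2 hx hex

end Groth.Agent.WLocal
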