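import Groth.Agent.Lib.WLocal.IndZarIdent
import Groth.Agent.Lib.WLocal.Olivier
import Groth.Agent.Lib.WLocal.SH
import Groth.Agent.Lib.WEtaleH7.IndEtale15
import Groth.Agent.S7127
import Mathlib.Topology.ExtremallyDisconnected
import Mathlib.RingTheory.RingHom.Etale

/-!
Retractions over w-local rings with extremally disconnected components; w-contractible rings.
-/

open CategoryTheory Limits Set Topology

universe u

namespace Groth.Agent.WLocal

set_option linter.style.haveILetI false
set_option linter.unusedSectionVars false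

variable {A B : Type u} [CommRing A] [CommRing B] [Algebra A B]

/-- The local map at a point is bijective. -/
abbrev BijAt (A : Type u) {B : Type u} [CommRing A] [CommRing B] [Algebra A B]
    (q : PrimeSpectrum B) : Prop :=
  Function.Bijective
    (Localization.localRingHom (q.asIdeal.comap (algebraMap A B)) q.asIdeal (algebraMap A B) rfl)

lemma bijAt_tower {C : Type u} [CommRing C] [Algebra B C] [Algebra A C] [IsScalarTower A B C]
    {q : PrimeSpectrum C} (hAB : BijAt A (PrimeSpectrum.comap (algebraMap B C) q))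
    (hBC : BijAt B q) : BijAt A q := by
  refine bijective_lrh (fun a t ht h0 ↦ ?_) fun c ↦ ?_
  · rw [IsScalarTower.algebraMap_apply A B C] at h0
    obtain ⟨u, hu, hua⟩ := lrh_inj hBC.1 ht h0
    obtain ⟨v, hv, hva⟩ := lrh_inj (q := PrimeSpectrum.comap (algebraMap B C) q) hAB.1 hu hua
    exact ⟨v, by rw [IsScalarTower.algebraMap_apply A B C]; exact hv, hva⟩
  · obtain ⟨b, s, t, hs, ht, e⟩ := lrh_surj hBC.2 c
    obtain ⟨a₁, s₁, t₁, hs₁, ht₁, e₁⟩ :=
      lrh_surj (q := PrimeSpectrum.comap (algebraMap B C) q) hAB.2 b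
    obtain ⟨a₂, s₂, t₂, hs₂, ht₂, e₂⟩ :=
      lrh_surj (q := PrimeSpectrum.comap (algebraMap B C) q) hAB.2 s
    have ha₂ : algebraMap B C (algebraMap A B a₂) ∉ q.asIdeal :=
      notMem_of_identity (q := PrimeSpectrum.comap (algebraMap B C) q) hs₂ ht₂ hs e₂
    refine ⟨a₁ * s₂, s₁ * a₂, t * algebraMap B C (t₁ * t₂), ?_, ?_, ?_⟩
    · rw [IsScalarTower.algebraMap_apply A B C, map_mul, map_mul]
      exact fun h ↦ (q.isPrime.mem_or_mem h).elim hs₁ ha₂
    · rw [map_mul]
      exact fun h ↦ (q.isPrime.mem_or_mem h).elim ht fun h ↦ (q.isPrime.mem_or_mem h).elim ht₁ ht₂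
    · simp only [IsScalarTower.algebraMap_apply A B C, map_mul]
      have E1 := congrArg (algebraMap B C) e₁
      have E2 := congrArg (algebraMap B C) e₂
      simp only [map_mul, map_sub, map_zero] at E1 E2
      linear_combination (algebraMap B C t₁ * algebraMap B C t₂ * algebraMap B C (algebraMap A B s₁)
          * algebraMap B C (algebraMap A B s₂)) * e
        + (t * algebraMap B C t₂ * algebraMap B C (algebraMap A B s₂)) * E1
        - (t * algebraMap B C t₁ * algebraMap B C (algebraMap A B s₁) * c) * E2

lemma bijAt_of_le {q z : PrimeSpectrum B} (hle : q.asIdeal ≤ z.asIdeal) (h : BijAt A z) :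
    BijAt A q := by
  refine bijective_lrh (fun a t ht h0 ↦ ?_) fun b ↦ ?_
  · obtain ⟨a₀, s, t', hs, ht', e⟩ := lrh_surj h.2 t
    have ha₀ : algebraMap A B a₀ ∉ q.asIdeal :=
      notMem_of_identity (fun hh ↦ hs (hle hh)) (fun hh ↦ ht' (hle hh)) ht e
    have h1 : t' * algebraMap A B (a₀ * a) = 0 := by
      rw [map_mul]
      linear_combination (-algebraMap A B a) * e + (t' * algebraMap A B s) * h0
    obtain ⟨u, hu, hua⟩ := lrh_inj h.1 ht' h1
    refine ⟨u * a₀, ?_, by rw [mul_assoc]; exact hua⟩
    rw [map_mul]
    exact fun hh ↦ (q.isPrime.mem_or_mem hh).elim (fun h' ↦ hu (hle h')) ha₀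
  · obtain ⟨a, s, t, hs, ht, e⟩ := lrh_surj h.2 b
    exact ⟨a, s, t, fun hh ↦ hs (hle hh), fun hh ↦ ht (hle hh), e⟩

lemma exists_wLocal_piece (W : Type u) [CommRing W] (hW : ProEtW.IsWLocal (PrimeSpectrum W))
    (T : Set (_root_.ConnectedComponents (PrimeSpectrum W))) (hT : IsClosed T) :
    ∃ (C : Type u) (_ : CommRing C) (_ : Algebra W C), EtPBC.IdentifiesLocalRings W C ∧
      ProEtW.IsWLocal (PrimeSpectrum C) ∧
      IsClosedEmbedding (PrimeSpectrum.comap (algebraMap W C)) ∧
      range (PrimeSpectrum.comap (algebraMap W C)) = _root_.ConnectedComponents.mk ⁻¹' T ∧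
      (∀ y, IsClosed ({y} : Set (PrimeSpectrum C)) ↔
        IsClosed ({PrimeSpectrum.comap (algebraMap W C) y} : Set (PrimeSpectrum W))) := by
  obtain ⟨S, hS⟩ := exists_localization_onto_closed _ _ hT
  have hemb : IsClosedEmbedding (PrimeSpectrum.comap (algebraMap W (Localization S))) :=
    ⟨PrimeSpectrum.localization_comap_isEmbedding _ S, by
      rw [hS]; exact hT.preimage _root_.ConnectedComponents.continuous_coe⟩
  refine ⟨Localization S, inferInstance, inferInstance, identifiesLocalRings_localization S,
    isWLocal_of_homeomorph (hemb.isEmbedding.toHomeomorph.trans (Homeomorph.setCongr hS))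
      (isWLocal_of_isClosed hW (hT.preimage _root_.ConnectedComponents.continuous_coe)),
    hemb, hS, fun y ↦ ?_⟩
  rw [hemb.isClosed_iff_image_isClosed, image_singleton]

lemma t2Components (hA : ProEtW.IsWLocal (PrimeSpectrum A)) :
    T2Space (_root_.ConnectedComponents (PrimeSpectrum A)) := by
  obtain ⟨_, _, _⟩ := isProfinite_closedPoints hA
  exact (closedPointsEquiv hA).t2Space

/-- Retraction from bijectivity of local rings over closed points. -/
theorem retraction_of_localRings (hA : ProEtW.IsWLocal (PrimeSpectrum A))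
    [ExtremallyDisconnected (_root_.ConnectedComponents (PrimeSpectrum A))]
    [Module.FaithfullyFlat A B]
    (hloc : ∀ q : PrimeSpectrum B,
      IsClosed ({PrimeSpectrum.comap (algebraMap A B) q} : Set (PrimeSpectrum A)) → BijAt A q) :
    Nonempty (B →ₐ[A] A) := by
  letI : Algebra A (WLoc B) := ((algebraMap B (WLoc B)).comp (algebraMap A B)).toAlgebra
  haveI : IsScalarTower A B (WLoc B) := IsScalarTower.of_algebraMap_eq fun _ ↦ rfl
  have hW := isWLocal_wLoc (A := B)
  haveI := t2Components hW
  haveI := t2Components hA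
  let Z : Set (PrimeSpectrum (WLoc B)) := ProEtW.closedPoints (PrimeSpectrum (WLoc B)) ∩
    PrimeSpectrum.comap (algebraMap A (WLoc B)) ⁻¹' ProEtW.closedPoints (PrimeSpectrum A)
  have hZ : IsClosed Z := IsClosed.inter hW.2.1 (hA.2.1.preimage (PrimeSpectrum.continuous_comap _))
  obtain ⟨C, _, _, hWC, hC, hemb, hr, hcl⟩ := exists_wLocal_piece (WLoc B) hW
    (_root_.ConnectedComponents.mk '' Z)
    (hZ.isCompact.image _root_.ConnectedComponents.continuous_coe).isClosed
  letI : Algebra A C := ((algebraMap (WLoc B) C).comp (algebraMap A (WLoc B))).toAlgebra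
  haveI : IsScalarTower A (WLoc B) C := IsScalarTower.of_algebraMap_eq fun _ ↦ rfl
  have hclosed : ∀ y : PrimeSpectrum C, IsClosed ({y} : Set (PrimeSpectrum C)) →
      IsClosed ({PrimeSpectrum.comap (algebraMap A C) y} : Set (PrimeSpectrum A)) := by
    intro y hy
    obtain ⟨z, ⟨hz, hzA⟩, hzy⟩ : _root_.ConnectedComponents.mk
        (PrimeSpectrum.comap (algebraMap (WLoc B) C) y) ∈ _root_.ConnectedComponents.mk '' Z := by
      have := mem_range_self (f := PrimeSpectrum.comap (algebraMap (WLoc B) C)) y
      rw [hr] at this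
      exact this
    have := retr_eq_of_mk_eq hW hzy
    rw [retr_eq_self hW hz, retr_eq_self hW ((hcl y).1 hy)] at this
    rw [IsScalarTower.algebraMap_eq A (WLoc B) C, PrimeSpectrum.comap_comp_apply, ← this]
    exact hzA
  have hAC : EtPBC.IdentifiesLocalRings A C := by
    intro q
    have hy := isClosed_retr hC q
    set y := retr hC q
    refine bijAt_of_le ((PrimeSpectrum.le_iff_specializes _ _).2 (specializes_retr hC q)) ?_
    refine bijAt_tower (B := WLoc B) (bijAt_tower (B := B) (hloc _ ?_)
      (identifiesLocalRings_of_isIndZariski isIndZariski_wLoc _)) (hWC _)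
    have h1 := hclosed y hy
    rw [IsScalarTower.algebraMap_eq A (WLoc B) C, PrimeSpectrum.comap_comp_apply,
      IsScalarTower.algebraMap_eq A B (WLoc B), PrimeSpectrum.comap_comp_apply] at h1
    exact h1
  let p := (PrimeSpectrum.continuous_comap (algebraMap A C)).connectedComponentsMap
  have hp : Function.Surjective p := by
    intro a
    obtain ⟨x₀, rfl⟩ := _root_.ConnectedComponents.surjective_coe a
    obtain ⟨q, hq⟩ := PrimeSpectrum.comap_surjective_of_faithfullyFlat (A := A) (B := B) (retr hA x₀)
    haveI := faithfullyFlat_wLoc (A := B)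
    obtain ⟨q', hq'⟩ := PrimeSpectrum.comap_surjective_of_faithfullyFlat (A := B) (B := WLoc B) q
    have h0 : PrimeSpectrum.comap (algebraMap A (WLoc B)) q' = retr hA x₀ := by
      rw [IsScalarTower.algebraMap_eq A B (WLoc B), PrimeSpectrum.comap_comp_apply, hq', hq]
    have h1 : PrimeSpectrum.comap (algebraMap A (WLoc B)) (retr hW q') = retr hA x₀ := by
      have h2 := ((specializes_retr hW q').map
        (PrimeSpectrum.continuous_comap (algebraMap A (WLoc B)))).mem_closed (isClosed_retr hA x₀) h0
      exact h2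
    have hz : retr hW q' ∈ Z := ⟨isClosed_retr hW q', by
      change IsClosed _
      rw [h1]; exact isClosed_retr hA x₀⟩
    obtain ⟨y, hy⟩ : retr hW q' ∈ range (PrimeSpectrum.comap (algebraMap (WLoc B) C)) := by
      rw [hr]; exact mem_image_of_mem _ hz
    refine ⟨_root_.ConnectedComponents.mk y, ?_⟩
    change _root_.ConnectedComponents.mk (PrimeSpectrum.comap (algebraMap A C) y) = _
    rw [IsScalarTower.algebraMap_eq A (WLoc B) C, PrimeSpectrum.comap_comp_apply, hy, h1,
      ← mk_eq_mk_retr hA]
  haveI := t2Components hC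
  obtain ⟨σ, hσ, hσp⟩ := (CompactT2.ExtremallyDisconnected.projective
    (A := _root_.ConnectedComponents (PrimeSpectrum A))) continuous_id
      (PrimeSpectrum.continuous_comap (algebraMap A C)).connectedComponentsMap_continuous hp
  obtain ⟨C', _, _, hCC', hC', hemb', hr', hcl'⟩ := exists_wLocal_piece C hC (range σ)
    (isCompact_range hσ).isClosed
  letI : Algebra A C' := ((algebraMap C C').comp (algebraMap A C)).toAlgebra
  haveI : IsScalarTower A C C' := IsScalarTower.of_algebraMap_eq fun _ ↦ rfl
  have hbij : Function.Bijective (algebraMap A C') := by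
    refine bijective_of_identifies_wLocal (identifiesLocalRings_of_tower hAC hCC') hA hC'
      ⟨isSpectralMap_comap _, fun y hy ↦ ?_⟩ ⟨fun u v huv ↦ ?_, fun a ↦ ?_⟩
    · rw [IsScalarTower.algebraMap_eq A C C', PrimeSpectrum.comap_comp_apply]
      exact hclosed _ ((hcl' y).1 hy)
    · obtain ⟨y₁, rfl⟩ := _root_.ConnectedComponents.surjective_coe u
      obtain ⟨y₂, rfl⟩ := _root_.ConnectedComponents.surjective_coe v
      have hmem : ∀ y, ∃ a, σ a = _root_.ConnectedComponents.mk
          (PrimeSpectrum.comap (algebraMap C C') y) ∧ a = _root_.ConnectedComponents.mk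
            (PrimeSpectrum.comap (algebraMap A C') y) := by
        intro y
        obtain ⟨a, ha⟩ : _root_.ConnectedComponents.mk (PrimeSpectrum.comap (algebraMap C C') y) ∈
            range σ := by
          have := mem_range_self (f := PrimeSpectrum.comap (algebraMap C C')) y
          rw [hr'] at this
          exact this
        refine ⟨a, ha, ?_⟩
        rw [IsScalarTower.algebraMap_eq A C C', PrimeSpectrum.comap_comp_apply]
        exact (congrFun hσp a).symm.trans (congrArg p ha)
      obtain ⟨a₁, h₁, h₁'⟩ := hmem y₁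
      obtain ⟨a₂, h₂, h₂'⟩ := hmem y₂
      have ha : a₁ = a₂ := h₁'.trans (huv.trans h₂'.symm)
      have hmk := h₁.symm.trans ((congrArg σ ha).trans h₂)
      have hc : ∀ y, retr hC (PrimeSpectrum.comap (algebraMap C C') y) =
          PrimeSpectrum.comap (algebraMap C C') (retr hC' y) := fun y ↦
        retr_unique hC ((hcl' _).1 (isClosed_retr hC' y))
          ((specializes_retr hC' y).map (PrimeSpectrum.continuous_comap _))
      have h3 := retr_eq_of_mk_eq hC hmk
      rw [hc, hc] at h3
      rw [mk_eq_mk_retr hC' y₁, mk_eq_mk_retr hC' y₂, hemb'.injective h3]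
    · obtain ⟨u, hu⟩ := _root_.ConnectedComponents.surjective_coe (σ a)
      obtain ⟨y, rfl⟩ : u ∈ range (PrimeSpectrum.comap (algebraMap C C')) := by
        rw [hr']; exact ⟨a, hu.symm⟩
      refine ⟨_root_.ConnectedComponents.mk y, ?_⟩
      change _root_.ConnectedComponents.mk (PrimeSpectrum.comap (algebraMap A C') y) = _
      rw [IsScalarTower.algebraMap_eq A C C', PrimeSpectrum.comap_comp_apply]
      exact (congrArg p hu).trans (congrFun hσp a)
  exact ⟨(AlgEquiv.ofBijective (Algebra.ofId A C') hbij).symm.toAlgHom.comp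
    (((IsScalarTower.toAlgHom A C C').comp ((IsScalarTower.toAlgHom A (WLoc B) C).comp
      (IsScalarTower.toAlgHom A B (WLoc B)))))⟩

lemma etale_of_isLocalIso (A B : Type u) [CommRing A] [CommRing B] [Algebra A B]
    [Algebra.IsLocalIso A B] : Algebra.Etale A B := by
  rw [← RingHom.etale_algebraMap]
  refine RingHom.Etale.ofLocalizationSpanTarget (algebraMap A B)
    {g : B | Algebra.IsStandardOpenImmersion A (Localization.Away g)}
    (Algebra.IsLocalIso.span_isStandardOpenImmersion_eq_top A B) fun g ↦ ?_
  haveI : Algebra.IsStandardOpenImmersion A (Localization.Away g.1) := g.2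
  obtain ⟨r, hr⟩ := Algebra.IsStandardOpenImmersion.exists_away A (Localization.Away g.1)
  rw [← IsScalarTower.algebraMap_eq A B (Localization.Away g.1)]
  apply RingHom.etale_algebraMap.2
  exact Algebra.Etale.of_isLocalizationAway r

lemma isIndEtale_of_isIndZariski (h : EtPBC.IsIndZariski A B) : EtPBC.IsIndEtale A B := by
  obtain ⟨J, _, _, D, c, hc, hD, e⟩ := h
  refine ⟨J, inferInstance, inferInstance, D, c, hc, fun j ↦ ?_, e⟩
  letI := (D.obj j).hom.hom.toAlgebra
  haveI : Algebra.IsLocalIso A (D.obj j).right := hD j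
  exact etale_of_isLocalIso A (D.obj j).right

lemma isIndEtale_of_etale [Algebra.Etale A B] : EtPBC.IsIndEtale A B := by
  rw [isIndEtale_iff]
  exact MorphismProperty.le_ind _ _ (RingHom.etale_algebraMap.2 inferInstance)

lemma bijAt_of_weaklyEtale [Algebra.WeaklyEtale A B] (q : PrimeSpectrum B)
    (h : EtCoh.IsStrictlyHenselianLocalRing
      (Localization.AtPrime (q.asIdeal.comap (algebraMap A B)))) : BijAt A q := by
  obtain ⟨_, hsep⟩ := h
  let P := q.asIdeal.comap (algebraMap A B)
  letI : Algebra (Localization.AtPrime P) (Localization.AtPrime q.asIdeal) :=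
    (Localization.localRingHom P q.asIdeal (algebraMap A B) rfl).toAlgebra
  haveI : IsScalarTower A (Localization.AtPrime P) (Localization.AtPrime q.asIdeal) :=
    IsScalarTower.of_algebraMap_eq fun r ↦ by
      rw [IsScalarTower.algebraMap_apply A B (Localization.AtPrime q.asIdeal)]
      exact (Localization.localRingHom_to_map _ _ _ rfl r).symm
  haveI : IsLocalHom (algebraMap (Localization.AtPrime P) (Localization.AtPrime q.asIdeal)) :=
    Localization.isLocalHom_localRingHom P q.asIdeal (algebraMap A B) rfl
  haveI : Algebra.WeaklyEtale B (Localization.AtPrime q.asIdeal) :=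
    WEtaleH7.weaklyEtale_of_isIndEtale
      (isIndEtale_of_isIndZariski (isIndZariski_of_isLocalization q.asIdeal.primeCompl _))
  haveI : Algebra.WeaklyEtale A (Localization.AtPrime P) :=
    WEtaleH7.weaklyEtale_of_isIndEtale
      (isIndEtale_of_isIndZariski (isIndZariski_of_isLocalization P.primeCompl _))
  haveI : Algebra.WeaklyEtale A (Localization.AtPrime q.asIdeal) :=
    Algebra.WeaklyEtale.trans A B _
  haveI : Algebra.WeaklyEtale (Localization.AtPrime P) (Localization.AtPrime q.asIdeal) :=
    Groth.Agent.S7127.result A _ _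
  haveI : IsSepClosed (IsLocalRing.ResidueField (Localization.AtPrime P)) := hsep
  exact Olivier.bijective_algebraMap (A := Localization.AtPrime P)
    (B := Localization.AtPrime q.asIdeal)

theorem hasIndZariskiRetractions_iff (A : Type u) [CommRing A] :
    ProEtW.HasIndZariskiRetractions A ↔
      (ProEtW.IsWLocal (PrimeSpectrum A) ∧
        ExtremallyDisconnected (_root_.ConnectedComponents (PrimeSpectrum A))) := by
  constructor
  · intro h
    obtain ⟨r⟩ := h (WLoc A) faithfullyFlat_wLoc isIndZariski_wLoc
    have hs : Function.Surjective r := fun a ↦ ⟨algebraMap A _ a, r.commutes a⟩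
    have hemb := PrimeSpectrum.isClosedEmbedding_comap_of_surjective A r.toRingHom hs
    have hA : ProEtW.IsWLocal (PrimeSpectrum A) :=
      isWLocal_of_homeomorph hemb.isEmbedding.toHomeomorph
        (isWLocal_of_isClosed isWLocal_wLoc hemb.isClosed_range)
    haveI := t2Components hA
    refine ⟨hA, CompactT2.Projective.extremallyDisconnected ?_⟩
    let P := _root_.ConnectedComponents (PrimeSpectrum A)
    letI : TopologicalSpace (Discrete P) := ⊥
    haveI : DiscreteTopology (Discrete P) := ⟨rfl⟩
    let T := StoneCech (Discrete P)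
    have hid : Continuous (fun p : Discrete P ↦ p.as) := continuous_of_discreteTopology
    let g : C(T, P) := ⟨stoneCechExtend hid, continuous_stoneCechExtend hid⟩
    haveI hed : ExtremallyDisconnected T := StoneCech.projective.extremallyDisconnected
    obtain ⟨B, _, _, e, hB, hge, -, hr⟩ := exists_realization_profinite A T g
    haveI := flat_of_isIndZariski hB
    haveI : Module.FaithfullyFlat A B := by
      refine Module.FaithfullyFlat.of_comap_surjective fun x ↦ ?_
      have : (x, (stoneCechUnit (⟨_root_.ConnectedComponents.mk x⟩ : Discrete P) : T)) ∈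
          {p : PrimeSpectrum A × T | _root_.ConnectedComponents.mk p.1 = g p.2} :=
        (stoneCechExtend_stoneCechUnit hid _).symm
      rw [← hr] at this
      obtain ⟨y, hy⟩ := this
      exact ⟨y, congrArg Prod.fst hy⟩
    obtain ⟨s⟩ := h B inferInstance hB
    intro Y Z _ _ _ _ _ _ f q hf hq hqs
    obtain ⟨lift, hl, hl'⟩ := StoneCech.projective (hf.comp g.continuous) hq hqs
    let σ := (PrimeSpectrum.continuous_comap s.toRingHom).connectedComponentsMap
    refine ⟨lift ∘ e ∘ σ, hl.comp (e.continuous.comp
      (PrimeSpectrum.continuous_comap s.toRingHom).connectedComponentsMap_continuous), ?_⟩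
    funext a
    obtain ⟨x, rfl⟩ := _root_.ConnectedComponents.surjective_coe a
    change (q ∘ lift) (e (_root_.ConnectedComponents.mk (PrimeSpectrum.comap s.toRingHom x))) = _
    rw [hl', Function.comp_apply, hge, ← PrimeSpectrum.comap_comp_apply]
    have : s.toRingHom.comp (algebraMap A B) = RingHom.id A := RingHom.ext fun a ↦ s.commutes a
    rw [this]
    rfl
  · rintro ⟨hA, hed⟩ B _ _ hff hB
    haveI := hed
    haveI := hff
    exact retraction_of_localRings hA fun q _ ↦ identifiesLocalRings_of_isIndZariski hB q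

lemma isWContractible_of_conditions (hA : ProEtW.IsWLocal (PrimeSpectrum A))
    [ExtremallyDisconnected (_root_.ConnectedComponents (PrimeSpectrum A))]
    (hsh : ∀ (m : Ideal A) [m.IsMaximal],
      EtCoh.IsStrictlyHenselianLocalRing (Localization.AtPrime m)) :
    EtPBC.IsWContractible A := by
  intro B _ _ hff hwe
  haveI := hff
  haveI := hwe
  refine retraction_of_localRings hA fun q hq ↦ bijAt_of_weaklyEtale q ?_
  haveI : (q.asIdeal.comap (algebraMap A B)).IsMaximal :=
    (PrimeSpectrum.isClosed_singleton_iff_isMaximal _).1 hq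
  exact hsh _

lemma conditions_of_hasIndEtaleRetractions (h : ProEtW.HasIndEtaleRetractions A) :
    ProEtW.IsWLocal (PrimeSpectrum A) ∧
      ExtremallyDisconnected (_root_.ConnectedComponents (PrimeSpectrum A)) ∧
      ∀ (m : Ideal A) [m.IsMaximal],
        EtCoh.IsStrictlyHenselianLocalRing (Localization.AtPrime m) := by
  obtain ⟨h1, h2⟩ := (hasIndZariskiRetractions_iff A).1 fun B _ _ hff hB ↦
    h B hff (isIndEtale_of_isIndZariski hB)
  refine ⟨h1, h2, fun m _ ↦ isStrictlyHenselian_of_retractions
    (hasEtaleRetractions_atPrime (fun B _ _ hff hB ↦ ?_) m)⟩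
  haveI := hB
  exact h B hff isIndEtale_of_etale

lemma hasIndEtaleRetractions_of_isWContractible (h : EtPBC.IsWContractible A) :
    ProEtW.HasIndEtaleRetractions A :=
  fun B _ _ hff hB ↦ h B hff (WEtaleH7.weaklyEtale_of_isIndEtale hB)

theorem isWContractible_iff (A : Type u) [CommRing A] :
    EtPBC.IsWContractible A ↔
      (ProEtW.IsWLocal (PrimeSpectrum A) ∧
        ExtremallyDisconnected (_root_.ConnectedComponents (PrimeSpectrum A)) ∧
        ∀ (m : Ideal A) [m.IsMaximal],
          EtCoh.IsStrictlyHenselianLocalRing (Localization.AtPrime m)) :=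
  ⟨fun h ↦ conditions_of_hasIndEtaleRetractions (hasIndEtaleRetractions_of_isWContractible h),
    fun ⟨h1, h2, h3⟩ ↦ haveI := h2; isWContractible_of_conditions h1 h3⟩

theorem isWContractible_iff_indEtale (A : Type u) [CommRing A] :
    EtPBC.IsWContractible A ↔ ProEtW.HasIndEtaleRetractions A :=
  ⟨hasIndEtaleRetractions_of_isWContractible, fun h ↦
    (isWContractible_iff A).2 (conditions_of_hasIndEtaleRetractions h)⟩

end Groth.Agent.WLocal
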