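import Groth.Agent.Lib.WLocal.Top
import Groth.Agent.Lib.WLocal.Spec

/-!
The retraction of a w-local space onto its closed points, and the homeomorphism with the space of
connected components; spectral maps between prime spectra.
-/

open Set Topology TopologicalSpace

universe u

set_option linter.style.haveILetI false
set_option linter.unusedSectionVars false

namespace Groth.Agent.WLocal

variable {X : Type u} [TopologicalSpace X] (hX : ProEtW.IsWLocal X)

/-- The unique closed specialization. -/
noncomputable def retr (x : X) : X := (hX.2.2 x).choose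

lemma isClosed_retr (x : X) : IsClosed ({retr hX x} : Set X) := (hX.2.2 x).choose_spec.1.1

lemma specializes_retr (x : X) : x ⤳ retr hX x := (hX.2.2 x).choose_spec.1.2

lemma retr_unique {x c : X} (hc : IsClosed ({c} : Set X)) (h : x ⤳ c) : retr hX x = c :=
  ((hX.2.2 x).choose_spec.2 c ⟨hc, h⟩).symm

lemma retr_eq_self {c : X} (hc : IsClosed ({c} : Set X)) : retr hX c = c :=
  retr_unique hX hc specializes_rfl

lemma retr_eq_of_specializes {x y : X} (h : x ⤳ y) : retr hX x = retr hX y :=
  retr_unique hX (isClosed_retr hX y) (h.trans (specializes_retr hX y))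

include hX in
lemma t1Space_closedPoints : T1Space (ProEtW.closedPoints X) :=
  ⟨fun c ↦ (isClosed_singleton_subtype hX.2.1 c).2 c.2⟩

include hX in
lemma isProfinite_closedPoints : ProEtW.IsProfinite (ProEtW.closedPoints X) := by
  have := hX.1
  have : SpectralSpace (ProEtW.closedPoints X) := spectralSpace_of_isClosed hX.2.1
  have := t1Space_closedPoints hX
  exact isProfinite_of_t1

include hX in
lemma isClosed_patch_generalizations {K : Set X} (hK : IsCompact K) :
    IsClosed (PtSet.toPatch {x | ∃ k ∈ K, x ⤳ k}) := by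
  have := hX.1
  have h : {x | ∃ k ∈ K, x ⤳ k} = ⋂ U ∈ {U : Set X | IsOpen U ∧ IsCompact U ∧ K ⊆ U}, U := by
    ext x
    simp only [mem_ofPred_eq, mem_iInter]
    refine ⟨fun ⟨k, hk, hxk⟩ U hU ↦ hxk.mem_open hU.1 (hU.2.2 hk), fun hx ↦ ?_⟩
    by_contra hne
    simp only [not_exists, not_and] at hne
    have : ∀ k ∈ K, ∃ U : Set X, (IsOpen U ∧ IsCompact U) ∧ k ∈ U ∧ x ∉ U := by
      intro k hk
      obtain ⟨W, hW, hkW, hxW⟩ := not_specializes_iff_exists_open.1 (hne k hk)
      obtain ⟨U, hU, hkU, hUW⟩ :=
        PrespectralSpace.isTopologicalBasis.exists_subset_of_mem_open hkW hW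
      exact ⟨U, hU, hkU, fun h ↦ hxW (hUW h)⟩
    choose U hU hkU hxU using this
    obtain ⟨t, ht⟩ := hK.elim_finite_subcover (fun k : K ↦ U k.1 k.2) (fun k ↦ (hU k.1 k.2).1)
      fun k hk ↦ mem_iUnion.2 ⟨⟨k, hk⟩, hkU k hk⟩
    have := hx _ ⟨isOpen_biUnion fun k _ ↦ (hU k.1 k.2).1,
      t.finite_toSet.isCompact_biUnion fun k _ ↦ (hU k.1 k.2).2, ht⟩
    simp only [mem_iUnion] at this
    obtain ⟨k, -, hk⟩ := this
    exact hxU _ _ hk
  rw [h]
  simp only [PtSet.toPatch, preimage_iInter]
  exact isClosed_biInter fun U hU ↦ (PtSet.isClopen_toPatch hU.1 hU.2.1).1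

lemma isClopen_retr_preimage {U : Set (ProEtW.closedPoints X)} (hU : IsClopen U) :
    IsClopen ((fun x ↦ (⟨retr hX x, isClosed_retr hX x⟩ : ProEtW.closedPoints X)) ⁻¹' U) := by
  have := hX.1
  have key : ∀ V : Set (ProEtW.closedPoints X), IsClopen V →
      IsClosed (PtSet.toPatch
        ((fun x ↦ (⟨retr hX x, isClosed_retr hX x⟩ : ProEtW.closedPoints X)) ⁻¹' V)) := by
    intro V hV
    haveI := (isProfinite_closedPoints hX).1
    have hVc : IsCompact (Subtype.val '' V) := hV.1.isCompact.image continuous_subtype_val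
    convert isClosed_patch_generalizations hX hVc using 2
    ext x
    simp only [mem_preimage, mem_ofPred_eq]
    constructor
    · intro h
      exact ⟨_, ⟨_, h, rfl⟩, specializes_retr hX x⟩
    · rintro ⟨_, ⟨c, hc, rfl⟩, hxc⟩
      show (⟨retr hX x, isClosed_retr hX x⟩ : ProEtW.closedPoints X) ∈ V
      have e : (⟨retr hX x, isClosed_retr hX x⟩ : ProEtW.closedPoints X) = c := Subtype.ext (@retr_unique X _ hX x c.1 c.2 hxc)
      rw [e]
      exact hc
  refine ⟨PtSet.isClosed_of_toPatch (key U hU) ?_, PtSet.isOpen_of_toPatch ?_ ?_⟩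
  · intro x y hxy hx
    simpa [retr_eq_of_specializes hX hxy] using hx
  · rw [← isClosed_compl_iff]
    exact key _ hU.compl
  · intro y x hxy hy
    simpa [retr_eq_of_specializes hX hxy] using hy

lemma continuous_retr :
    Continuous fun x ↦ (⟨retr hX x, isClosed_retr hX x⟩ : ProEtW.closedPoints X) := by
  obtain ⟨_, _, _⟩ := isProfinite_closedPoints hX
  exact (isTopologicalBasis_isClopen (X := ProEtW.closedPoints X)).continuous_iff.2
    fun U hU ↦ (isClopen_retr_preimage hX hU).2

lemma mk_eq_mk_retr (x : X) :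
    ConnectedComponents.mk x = ConnectedComponents.mk (retr hX x) :=
  mk_eq_of_specializes (specializes_retr hX x)

lemma retr_eq_of_mk_eq {x y : X} (h : ConnectedComponents.mk x = ConnectedComponents.mk y) :
    retr hX x = retr hX y := by
  have := (isProfinite_closedPoints hX).2.2
  exact congrArg Subtype.val
    ((continuous_retr hX).image_eq_of_connectedComponent_eq x y
      (connectedComponent_eq (ConnectedComponents.coe_eq_coe'.1 h)).symm)

/-- Closed points of a w-local space are its components. -/
noncomputable def closedPointsEquiv : ProEtW.closedPoints X ≃ₜ ConnectedComponents X := by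
  have := hX.1
  haveI := (isProfinite_closedPoints hX).1
  refine Continuous.homeoOfEquivCompactToT2
    (f := Equiv.ofBijective (fun c : ProEtW.closedPoints X ↦ ConnectedComponents.mk c.1) ⟨?_, ?_⟩)
    (ConnectedComponents.continuous_coe.comp continuous_subtype_val)
  · intro c d h
    have := retr_eq_of_mk_eq hX h
    rw [retr_eq_self hX c.2, retr_eq_self hX d.2] at this
    exact Subtype.ext this
  · intro a
    obtain ⟨x, rfl⟩ := ConnectedComponents.surjective_coe a
    exact ⟨⟨retr hX x, isClosed_retr hX x⟩, (mk_eq_mk_retr hX x).symm⟩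

lemma isSpectralMap_comap {A B : Type u} [CommRing A] [CommRing B] (f : A →+* B) :
    IsSpectralMap (PrimeSpectrum.comap f) := by
  refine ⟨PrimeSpectrum.continuous_comap f, fun s hs hsc ↦ ?_⟩
  obtain ⟨t, rfl⟩ := PrimeSpectrum.isCompact_isOpen_iff.1 ⟨hsc, hs⟩
  rw [preimage_compl, PrimeSpectrum.preimage_comap_zeroLocus]
  exact (PrimeSpectrum.isCompact_isOpen_iff (s := (PrimeSpectrum.zeroLocus (f '' (t : Set A)))ᶜ)).2
    ⟨by classical exact t.image f, by simp⟩ |>.1

end Groth.Agent.WLocal
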