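import Groth.Agent.Lib.WLocal.Realize
import Groth.Agent.Lib.WLocal.Retraction
import Mathlib.Topology.ExtremallyDisconnected
import Mathlib.RingTheory.Flat.Localization

/-!
Covers by w-local rings with extremally disconnected components.
-/

open CategoryTheory Limits Set Topology

universe u

namespace Groth.Agent.WLocal


set_option linter.style.haveILetI false

lemma flat_of_isLocalIso (A B : Type u) [CommRing A] [CommRing B] [Algebra A B]
    [Algebra.IsLocalIso A B] : Module.Flat A B := by
  let s : Set B := {g | Algebra.IsStandardOpenImmersion A (Localization.Away g)}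
  refine Module.flat_of_isLocalized_span (R := A) (S := B) (M := B) s
    (Algebra.IsLocalIso.span_isStandardOpenImmersion_eq_top A B)
    (fun r : s ↦ Localization.Away r.1) (fun r ↦ Algebra.linearMap B (Localization.Away r.1))
    fun r ↦ ?_
  haveI : Algebra.IsStandardOpenImmersion A (Localization.Away r.1) := r.2
  obtain ⟨a, ha⟩ := Algebra.IsStandardOpenImmersion.exists_away A (Localization.Away r.1)
  exact IsLocalization.flat (Localization.Away r.1) (Submonoid.powers a)

lemma flat_of_isIndZariski {A B : Type u} [CommRing A] [CommRing B] [Algebra A B]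
    (h : EtPBC.IsIndZariski A B) : Module.Flat A B := by
  obtain ⟨J, _, _, pres, hD⟩ := (isIndZariski_iff_objectProperty B).1 h
  have hflat := flat_of_isColimit pres.isColimit fun j ↦ by
    letI := (pres.diag.obj j).hom.hom.toAlgebra
    haveI : Algebra.IsLocalIso A (pres.diag.obj j).right := hD j
    exact flat_of_isLocalIso A (pres.diag.obj j).right
  exact RingHom.flat_algebraMap_iff.1 (show (algebraMap A B).Flat from hflat)

lemma isWLocal_of_homeomorph {X Y : Type u} [TopologicalSpace X] [TopologicalSpace Y]
    [SpectralSpace Y] (h : Y ≃ₜ X) (hX : ProEtW.IsWLocal X) : ProEtW.IsWLocal Y := by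
  have hc : ∀ y : Y, IsClosed ({y} : Set Y) ↔ IsClosed ({h y} : Set X) := fun y ↦ by
    rw [← h.isClosed_image, image_singleton]
  refine ⟨inferInstance, ?_, fun y ↦ ?_⟩
  · simp only [hc]
    exact hX.2.1.preimage h.continuous
  · obtain ⟨x, ⟨hx, hyx⟩, hu⟩ := hX.2.2 (h y)
    refine ⟨h.symm x, ⟨(hc _).2 (by rwa [h.apply_symm_apply]), ?_⟩, fun z hz ↦ ?_⟩
    · simpa using hyx.map h.symm.continuous
    · rw [← hu (h z) ⟨(hc z).1 hz.1, hz.2.map h.continuous⟩, h.symm_apply_apply]

lemma exists_wLocal_extrDisc (A : Type u) [CommRing A] :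
    ∃ (B : Type u) (_ : CommRing B) (_ : Algebra A B),
      Module.FaithfullyFlat A B ∧ EtPBC.IsIndZariski A B ∧ ProEtW.IsWLocal (PrimeSpectrum B) ∧
        ExtremallyDisconnected (_root_.ConnectedComponents (PrimeSpectrum B)) := by
  have hW := isWLocal_wLoc (A := A)
  haveI := hW.1
  obtain ⟨_, _, _⟩ := isProfinite_closedPoints hW
  haveI : T2Space (_root_.ConnectedComponents (PrimeSpectrum (WLoc A))) :=
    (closedPointsEquiv hW).t2Space
  let P := _root_.ConnectedComponents (PrimeSpectrum (WLoc A))
  letI : TopologicalSpace (Discrete P) := ⊥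
  haveI : DiscreteTopology (Discrete P) := ⟨rfl⟩
  let T := StoneCech (Discrete P)
  have hid : Continuous (fun p : Discrete P ↦ p.as) := continuous_of_discreteTopology
  let g : C(T, P) := ⟨stoneCechExtend hid, continuous_stoneCechExtend hid⟩
  haveI hed : ExtremallyDisconnected T := StoneCech.projective.extremallyDisconnected
  obtain ⟨B, _, iA, iA', hst, h, hB, hh⟩ := exists_realization A (isIndZariski_wLoc (A := A)) T g
  refine ⟨B, inferInstance, iA', ?_, hB,
    isWLocal_of_homeomorph h (wLocal_fib g hW).1,
    extremallyDisconnected_of_homeo ((componentsEquiv g).symm.trans (congrComponents h).symm)⟩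
  haveI := flat_of_isIndZariski hB
  refine Module.FaithfullyFlat.of_comap_surjective fun x ↦ ?_
  haveI := faithfullyFlat_wLoc (A := A)
  obtain ⟨w, hw⟩ := PrimeSpectrum.comap_surjective_of_faithfullyFlat (A := A) (B := WLoc A) x
  let t : T := stoneCechUnit (⟨_root_.ConnectedComponents.mk w⟩ : Discrete P)
  have hmem : _root_.ConnectedComponents.mk (w, t).1 = g (w, t).2 :=
    (stoneCechExtend_stoneCechUnit hid _).symm
  refine ⟨h.symm ⟨(w, t), hmem⟩, ?_⟩
  rw [IsScalarTower.algebraMap_eq A (WLoc A) B, PrimeSpectrum.comap_comp_apply, ← hh,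
    h.apply_symm_apply]
  exact hw

end Groth.Agent.WLocal
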