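import Groth.Prelude.Def_ProEtW
import Groth.Agent.Lib.Hens.EtaleLift
import Groth.Agent.Lib.SchFinH13.Alg0
import Mathlib.RingTheory.Etale.Pi
import Mathlib.RingTheory.Flat.FaithfullyFlat.Algebra
import Mathlib.RingTheory.Spectrum.Prime.Chevalley
import Mathlib.RingTheory.Ideal.GoingDown

/-!
Retractions of etale algebras pass to quotients.
-/

open Set

universe u

namespace Groth.Agent.WLocal

set_option linter.style.haveILetI false

variable {A : Type u} [CommRing A]

/-- An algebra map out of one factor of a product, modulo the idempotent of the other factor. -/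
lemma nonempty_of_prod {E L : Type u} [CommRing E] [CommRing L] [Algebra A E] [Algebra A L]
    (r : E × L →ₐ[A] A) {T : Type u} [CommRing T] [Algebra A T]
    (he : algebraMap A T (r (0, 1)) = 0) : Nonempty (E →ₐ[A] T) := by
  let φ : E × L →ₐ[A] T := (Algebra.ofId A T).comp r
  have he' : φ (0, 1) = 0 := he
  refine ⟨{ toFun := fun x ↦ φ (x, 0)
            map_one' := ?_
            map_mul' := fun x y ↦ ?_
            map_zero' := map_zero φ
            map_add' := fun x y ↦ ?_
            commutes' := fun a ↦ ?_ }⟩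
  · have : φ (1, 0) + φ (0, 1) = 1 := by
      rw [← map_add, show ((1, 0) : E × L) + (0, 1) = 1 by ext <;> simp, map_one]
    rwa [he', add_zero] at this
  · rw [← map_mul]; simp
  · rw [← map_add]; simp
  · have : φ (algebraMap A E a, 0) + a • φ (0, 1) = algebraMap A T a := by
      rw [← map_smul, ← map_add, ← φ.commutes a]
      congr 1
      refine Prod.ext (by simp) ?_
      simp [Algebra.smul_def]
    rwa [he', smul_zero, add_zero] at this

/-- Complete an etale algebra to a faithfully flat one with a standard open avoiding `V(I)`. -/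
lemma exists_retraction_of_cover (h : ProEtW.HasEtaleRetractions A) (I : Ideal A) (E : Type u)
    [CommRing E] [Algebra A E] [Algebra.Etale A E]
    (hE : PrimeSpectrum.zeroLocus (I : Set A) ⊆ range (PrimeSpectrum.comap (algebraMap A E))) :
    ∃ e ∈ I, IsIdempotentElem e ∧ ∀ (T : Type u) [CommRing T] [Algebra A T],
      algebraMap A T e = 0 → Nonempty (E →ₐ[A] T) := by
  have ho : IsOpen (range (PrimeSpectrum.comap (algebraMap A E))) := by
    rw [← image_univ]
    exact PrimeSpectrum.isOpenMap_comap_of_hasGoingDown_of_finitePresentation _ isOpen_univ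
  obtain ⟨J, hJ⟩ := (PrimeSpectrum.isClosed_iff_zeroLocus_ideal _).1 ho.isClosed_compl
  have htop : I ⊔ J = ⊤ := by
    rw [← PrimeSpectrum.zeroLocus_empty_iff_eq_top, PrimeSpectrum.zeroLocus_sup, ← hJ]
    exact eq_empty_of_forall_notMem fun x hx ↦ hx.2 (hE hx.1)
  obtain ⟨g, hg, j, hj, hgj⟩ := Submodule.mem_sup.1 ((Ideal.eq_top_iff_one _).1 htop)
  haveI : Algebra.Etale A (Localization.Away g) := Algebra.Etale.of_isLocalizationAway g
  haveI : Algebra.Etale A (E × Localization.Away g) := Groth.Agent.SchFinH13.etale_prod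
  haveI : Module.FaithfullyFlat A (E × Localization.Away g) := by
    refine Module.FaithfullyFlat.of_comap_surjective fun x ↦ ?_
    by_cases hx : x ∈ range (PrimeSpectrum.comap (algebraMap A E))
    · obtain ⟨q, rfl⟩ := hx
      exact ⟨PrimeSpectrum.comap (RingHom.fst E (Localization.Away g)) q, rfl⟩
    · have hxg : x ∈ range (PrimeSpectrum.comap (algebraMap A (Localization.Away g))) := by
        rw [PrimeSpectrum.localization_away_comap_range (Localization.Away g) g]
        intro hgx
        have hjx : j ∈ x.asIdeal := (hJ.subset hx : x ∈ PrimeSpectrum.zeroLocus (J : Set A)) hj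
        exact x.isPrime.ne_top ((Ideal.eq_top_iff_one _).2 (hgj ▸ x.asIdeal.add_mem hgx hjx))
      obtain ⟨q, rfl⟩ := hxg
      exact ⟨PrimeSpectrum.comap (RingHom.snd E (Localization.Away g)) q, rfl⟩
  obtain ⟨r⟩ := h (E × Localization.Away g) inferInstance inferInstance
  refine ⟨r (0, 1), ?_, ?_, fun T _ _ he ↦ nonempty_of_prod r he⟩
  · have : ((0, 1) : E × Localization.Away g) =
        g • ((0, IsLocalization.Away.invSelf g) : E × Localization.Away g) := by
      refine Prod.ext (by simp) ?_
      simp [Algebra.smul_def, IsLocalization.Away.mul_invSelf]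
    rw [this, map_smul, smul_eq_mul]
    exact I.mul_mem_right _ hg
  · rw [IsIdempotentElem, ← map_mul]
    simp

lemma isUnit_one_sub_of_specializing {B : Type u} [CommRing B] [Algebra A B] {Z : Set A}
    (hB : range (PrimeSpectrum.comap (algebraMap A B)) ⊆
      {x | ∃ z : PrimeSpectrum A, z ∈ PrimeSpectrum.zeroLocus Z ∧ x ⤳ z})
    {e : A} (he : e ∈ Ideal.span Z) (hi : IsIdempotentElem e) : algebraMap A B e = 0 := by
  have hu : IsUnit (algebraMap A B (1 - e)) := by
    by_contra hu
    obtain ⟨m, hm, hem⟩ := exists_max_ideal_of_mem_nonunits hu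
    obtain ⟨z, hz, hsp⟩ := hB ⟨⟨m, hm.isPrime⟩, rfl⟩
    have h1 : 1 - e ∈ z.asIdeal := (PrimeSpectrum.le_iff_specializes _ _).2 hsp hem
    have h2 : e ∈ z.asIdeal := (Ideal.span_le.2 hz) he
    exact z.isPrime.ne_top ((Ideal.eq_top_iff_one _).2 (by simpa using z.asIdeal.add_mem h1 h2))
  apply hu.mul_left_cancel
  rw [mul_zero, ← map_mul, sub_mul, one_mul, hi.eq, sub_self, map_zero]

lemma hasEtaleRetractions_quotient (h : ProEtW.HasEtaleRetractions A) (I : Ideal A) :
    ProEtW.HasEtaleRetractions (A ⧸ I) := by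
  intro B _ _ hff hB
  letI : Algebra A B := ((algebraMap (A ⧸ I) B).comp (Ideal.Quotient.mk I)).toAlgebra
  haveI : IsScalarTower A (A ⧸ I) B := IsScalarTower.of_algebraMap_eq fun _ ↦ rfl
  obtain ⟨E, _, _, _, φ, hφ, hker⟩ := Hens.exists_etale_lift A I B
  have hsub : PrimeSpectrum.zeroLocus (I : Set A) ⊆
      range (PrimeSpectrum.comap (algebraMap A E)) := by
    intro x hx
    obtain ⟨y, rfl⟩ : x ∈ range (PrimeSpectrum.comap (Ideal.Quotient.mk I)) := by
      rw [_root_.range_comap_of_surjective _ _ Ideal.Quotient.mk_surjective, Ideal.mk_ker]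
      exact hx
    obtain ⟨z, rfl⟩ := PrimeSpectrum.comap_surjective_of_faithfullyFlat (B := B) y
    exact ⟨PrimeSpectrum.comap φ.toRingHom z, by
      simp only [← PrimeSpectrum.comap_comp_apply]
      congr 1
      ext a
      exact φ.commutes a⟩
  obtain ⟨e, heI, -, hT⟩ := exists_retraction_of_cover h I E hsub
  obtain ⟨ψ⟩ := hT (A ⧸ I) (Ideal.Quotient.eq_zero_iff_mem.2 heI)
  have hkill : RingHom.ker φ ≤ RingHom.ker ψ := by
    rw [hker, Ideal.map_le_iff_le_comap]
    intro a ha
    rw [Ideal.mem_comap, RingHom.mem_ker, ψ.commutes]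
    exact Ideal.Quotient.eq_zero_iff_mem.2 ha
  let e' := Ideal.quotientKerAlgEquivOfSurjective hφ
  let f : B →ₐ[A] A ⧸ I := (Ideal.Quotient.liftₐ (RingHom.ker φ) ψ fun x hx ↦ hkill hx).comp e'.symm
  exact ⟨{ f with
    commutes' := fun a ↦ by
      obtain ⟨a, rfl⟩ := Ideal.Quotient.mk_surjective a
      exact f.commutes a }⟩

end Groth.Agent.WLocal
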