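import Groth.Agent.Lib.WLocal.Colim
import Groth.Agent.Lib.WLocal.Retract
import Groth.Agent.Lib.EtQuotH28.PrimeTensor
import Mathlib.CategoryTheory.Limits.Constructions.Filtered
import Mathlib.CategoryTheory.Limits.Constructions.Over.Products
import Mathlib.CategoryTheory.ObjectProperty.FiniteProducts
import Mathlib.CategoryTheory.Functor.OfSequence

/-!
Every ring has a faithfully flat ind-etale extension with retractions for faithfully flat etale
algebras.
-/

open CategoryTheory Limits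

universe u

namespace Groth.Agent.WLocal

set_option linter.style.haveILetI false

/-- Faithfully flat ring maps. -/
abbrev ffMP : MorphismProperty CommRingCat.{u} :=
  RingHom.toMorphismProperty fun f ↦ RingHom.FaithfullyFlat f

instance : (ffMP.{u}).IsStableUnderCobaseChange :=
  RingHom.isStableUnderCobaseChange_toMorphismProperty_iff.2
    RingHom.FaithfullyFlat.isStableUnderBaseChange

instance : (ffMP.{u}).IsMultiplicative where
  id_mem _ := RingHom.FaithfullyFlat.of_bijective Function.bijective_id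
  comp_mem f g hf hg := RingHom.FaithfullyFlat.stableUnderComposition f.hom g.hom hf hg

/-- Faithfully flat etale algebras are closed under finite coproducts. -/
lemma closedUnderFiniteCoproducts_underObj (P : MorphismProperty CommRingCat.{u})
    [P.IsMultiplicative] [P.IsStableUnderCobaseChange] (R : CommRingCat.{u}) :
    (P.underObj (X := R)).IsClosedUnderFiniteCoproducts := by
  haveI : P.RespectsIso := inferInstance
  haveI hiso : (P.underObj (X := R)).IsClosedUnderIsomorphisms :=
    ⟨fun {X Y} e hX ↦ by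
      change P Y.hom
      rw [← Under.w e.hom]
      haveI : IsIso e.hom.right := ((Under.forget R).mapIso e).isIso_hom
      exact (P.cancel_right_of_respectsIso X.hom e.hom.right).2 hX⟩
  haveI : (P.underObj (X := R)).IsClosedUnderColimitsOfShape (Discrete.{0} PEmpty) := by
    refine ⟨fun X ⟨p⟩ ↦ ?_⟩
    have hX : IsInitial X := (IsColimit.equivOfNatIsoOfIso p.diag.uniqueFromEmpty _ _
      (by exact Cocone.ext (Iso.refl _) (by rintro ⟨⟨⟩⟩))).1 p.isColimit
    exact ObjectProperty.prop_of_iso _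
      ((Under.mkIdInitial (X := R)).uniqueUpToIso hX) (P.id_mem R)
  haveI : (P.underObj (X := R)).IsClosedUnderBinaryCoproducts := by
    refine ⟨fun Z ⟨p⟩ ↦ ?_⟩
    let X := p.diag.obj ⟨WalkingPair.left⟩
    let Y := p.diag.obj ⟨WalkingPair.right⟩
    have hc : IsColimit (BinaryCofan.mk (P := Z) (p.ι.app ⟨.left⟩) (p.ι.app ⟨.right⟩)) :=
      (IsColimit.equivOfNatIsoOfIso (diagramIsoPair p.diag) _ _
        (by exact Cocone.ext (Iso.refl _) (by rintro ⟨_ | _⟩ <;> exact Category.comp_id _))).1 p.isColimit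
    let e : Under.mk X.hom = X := rfl
    have h' := IsColimit.pushoutCoconeEquivBinaryCofanFunctor
      (pushoutIsPushout X.hom Y.hom)
    have e' := IsColimit.coconePointUniqueUpToIso h' hc
    refine ObjectProperty.prop_of_iso _ e' ?_
    change P (X.hom ≫ pushout.inl X.hom Y.hom)
    exact P.comp_mem _ _ (p.prop_diag_obj ⟨.left⟩)
      (P.pushout_inl _ _ (p.prop_diag_obj ⟨.right⟩))
  exact ObjectProperty.IsClosedUnderFiniteCoproducts.mk'

/-- Indices of the faithfully flat etale algebras over a ring. -/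
def CoverIdx (R : CommRingCat.{u}) : Type u :=
  Σ n : ℕ, {I : Ideal (MvPolynomial (Fin n) R) //
    (etaleMP ⊓ ffMP).underObj (R.mkUnder (MvPolynomial (Fin n) R ⧸ I))}

/-- The algebra of an index. -/
noncomputable def CoverIdx.obj {R : CommRingCat.{u}} (i : CoverIdx R) : Under R :=
  R.mkUnder (MvPolynomial (Fin i.1) R ⧸ i.2.1)

lemma exists_coverIdx {R : CommRingCat.{u}} (E : Type u) [CommRing E] [Algebra R E]
    [Algebra.Etale R E] [Module.FaithfullyFlat R E] :
    ∃ i : CoverIdx R, Nonempty (R.mkUnder E ⟶ i.obj) := by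
  obtain ⟨n, f, hf, -⟩ := Algebra.FinitePresentation.out (R := R) (A := E)
  let e := Ideal.quotientKerAlgEquivOfSurjective hf
  haveI : Algebra.Etale R (MvPolynomial (Fin n) R ⧸ RingHom.ker f) := Algebra.Etale.of_equiv e.symm
  haveI : Module.FaithfullyFlat R (MvPolynomial (Fin n) R ⧸ RingHom.ker f) :=
    Module.FaithfullyFlat.of_linearEquiv _ _ e.toLinearEquiv
  have h : (etaleMP ⊓ ffMP).underObj (R.mkUnder (MvPolynomial (Fin n) R ⧸ RingHom.ker f)) :=
    ⟨(RingHom.etale_algebraMap.2 inferInstance :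
      (algebraMap R (MvPolynomial (Fin n) R ⧸ RingHom.ker f)).Etale),
     (RingHom.faithfullyFlat_algebraMap_iff.2 inferInstance :
      (algebraMap R (MvPolynomial (Fin n) R ⧸ RingHom.ker f)).FaithfullyFlat)⟩
  exact ⟨⟨n, RingHom.ker f, h⟩, ⟨e.symm.toAlgHom.toUnder⟩⟩

lemma exists_step (R : CommRingCat.{u}) :
    ∃ T : Under R, MorphismProperty.ind.{u} etaleMP T.hom ∧ ffMP T.hom ∧
      ∀ (E : Type u) [CommRing E] [Algebra R E] [Algebra.Etale R E] [Module.FaithfullyFlat R E],
        Nonempty (R.mkUnder E ⟶ T) := by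
  haveI := closedUnderFiniteCoproducts_underObj (etaleMP.{u} ⊓ ffMP.{u}) R
  let F : CoverIdx R → Under R := CoverIdx.obj
  let c := CoproductsFromFiniteFiltered.finiteSubcoproductsCocone F
  have hc : IsColimit c := CoproductsFromFiniteFiltered.isColimitFiniteSubproductsCocone F
  have hs : ∀ s, (etaleMP ⊓ ffMP).underObj
      ((CoproductsFromFiniteFiltered.liftToFinsetObj (Discrete.functor F)).obj s) := fun s ↦
    ObjectProperty.prop_coproduct _ fun x ↦ x.1.as.2.2
  have hff : ffMP c.pt.hom := faithfullyFlat_of_isColimit hc fun s ↦ (hs s).2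
  refine ⟨∐ F, ?_, hff, fun E _ _ _ _ ↦ ?_⟩
  · rw [show (∐ F).hom = (Under.mk (∐ F).hom).hom from rfl, MorphismProperty.ind_iff_ind_underMk]
    exact ⟨_, inferInstance, inferInstance, ⟨_, c.ι, hc⟩, fun s ↦ (hs s).1⟩
  · obtain ⟨i, ⟨φ⟩⟩ := exists_coverIdx (R := R) E
    exact ⟨φ ≫ Sigma.ι F i⟩

/-- One step. -/
noncomputable def step (R : CommRingCat.{u}) : Under R := (exists_step R).choose

/-- The tower. -/
noncomputable def tower (R : CommRingCat.{u}) : ℕ → Under R
  | 0 => Under.mk (𝟙 R)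
  | n + 1 => Under.mk ((tower R n).hom ≫ (step (tower R n).right).hom)

/-- Transition maps of the tower. -/
noncomputable def towerMap (R : CommRingCat.{u}) (n : ℕ) : tower R n ⟶ tower R (n + 1) :=
  Under.homMk (step (tower R n).right).hom rfl

lemma tower_prop (R : CommRingCat.{u}) :
    ∀ n, MorphismProperty.ind.{u} etaleMP (tower R n).hom ∧ ffMP (tower R n).hom
  | 0 => ⟨(MorphismProperty.ind.{u} etaleMP).id_mem R, ffMP.id_mem R⟩
  | n + 1 => ⟨(MorphismProperty.ind.{u} etaleMP).comp_mem _ _ (tower_prop R n).1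
      (exists_step _).choose_spec.1, ffMP.comp_mem _ _ (tower_prop R n).2
      (exists_step _).choose_spec.2.1⟩

lemma exists_indEtale_retractions (A : Type u) [CommRing A] :
    ∃ (C : Type u) (_ : CommRing C) (_ : Algebra A C),
      Module.FaithfullyFlat A C ∧ EtPBC.IsIndEtale A C ∧ ProEtW.HasEtaleRetractions C := by
  let R := CommRingCat.of A
  haveI : Nonempty (ULift.{u} ℕ) := ⟨⟨0⟩⟩
  let D : ULift.{u} ℕ ⥤ Under R :=
    Monotone.functor (f := fun n : ULift.{u} ℕ ↦ n.down) (fun a b h ↦ h) ⋙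
      Functor.ofSequence (towerMap R)
  let c := colimit.cocone D
  have hc : IsColimit c := colimit.isColimit D
  let T := c.pt
  refine ⟨T.right, inferInstance, T.hom.hom.toAlgebra,
    faithfullyFlat_of_isColimit hc fun n ↦ (tower_prop R n.down).2, ?_, ?_⟩
  · letI := T.hom.hom.toAlgebra
    rw [isIndEtale_iff_objectProperty, ← ObjectProperty.ind_ind
      (P := (etaleMP.{u}).underObj) (fun f hf ↦ etaleMP_le _ hf)]
    refine ⟨_, inferInstance, inferInstance, ⟨D, c.ι, hc⟩, fun n ↦ ?_⟩
    rw [← MorphismProperty.underObj_ind_eq_ind_underObj]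
    exact (tower_prop R n.down).1
  intro E _ _ hff hE
  haveI : IsConnected (ULift.{u} ℕ) := IsFiltered.isConnected _
  let c' := (Under.forget R).mapCocone c
  have hc' : IsColimit c' := isColimitOfPreserves _ hc
  have hf : etaleMP (CommRingCat.ofHom (algebraMap T.right E)) := RingHom.etale_algebraMap.2 hE
  obtain ⟨⟨m⟩, E₀, f₀, γ, hsq, hf₀⟩ := MorphismProperty.exists_isPushout_of_isFiltered
    (P := etaleMP.{u}) hc' ((CommRingCat.ofHom (algebraMap T.right E) :
      T.right ⟶ CommRingCat.of E) : c'.pt ⟶ CommRingCat.of E) hf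
  let Tm : CommRingCat.{u} := (tower R m).right
  letI : Algebra Tm E₀ := f₀.hom.toAlgebra
  haveI : Algebra.Etale Tm E₀ := hf₀
  have ho : IsOpen (Set.range (PrimeSpectrum.comap (algebraMap Tm E₀))) := by
    rw [← Set.image_univ]
    exact PrimeSpectrum.isOpenMap_comap_of_hasGoingDown_of_finitePresentation _ isOpen_univ
  obtain ⟨J, hJ⟩ := (PrimeSpectrum.isClosed_iff_zeroLocus_ideal _).1 ho.isClosed_compl
  let leg : Tm →+* T.right := (c.ι.app ⟨m⟩).right.hom
  have htop : J.map leg = ⊤ := by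
    rw [← PrimeSpectrum.zeroLocus_empty_iff_eq_top]
    refine Set.eq_empty_of_forall_notMem fun x hx ↦ ?_
    obtain ⟨w, rfl⟩ := PrimeSpectrum.comap_surjective_of_faithfullyFlat (B := E) x
    have h1 : PrimeSpectrum.comap leg (PrimeSpectrum.comap (algebraMap T.right E) w) ∈
        PrimeSpectrum.zeroLocus (J : Set Tm) := fun a ha ↦ hx (Ideal.mem_map_of_mem _ ha)
    rw [← hJ] at h1
    refine h1 ⟨PrimeSpectrum.comap γ.hom w, ?_⟩
    rw [← PrimeSpectrum.comap_comp_apply, ← PrimeSpectrum.comap_comp_apply]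
    congr 1
    exact (congrArg CommRingCat.Hom.hom hsq.w).symm
  obtain ⟨S, hS, hS1⟩ := Submodule.mem_span_finite_of_mem_span
    (show (1 : T.right) ∈ Ideal.span (leg '' (J : Set Tm)) from
      (Ideal.eq_top_iff_one _).1 htop)
  obtain ⟨w, hw⟩ := (Submodule.mem_span_finset' ).1 hS1
  choose v hv hv' using fun s : S ↦ hS s.2
  obtain ⟨⟨k⟩, w', hw'⟩ := exists_rep_fintype hc fun s : S ↦ w s
  let p := max k m
  let αk : ((tower R k).right : Type u) →+* (tower R p).right :=
    (D.map (homOfLE (show (⟨k⟩ : ULift.{u} ℕ) ≤ ⟨p⟩ from le_max_left k m))).right.hom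
  let αm : ((tower R m).right : Type u) →+* (tower R p).right :=
    (D.map (homOfLE (show (⟨m⟩ : ULift.{u} ℕ) ≤ ⟨p⟩ from le_max_right k m))).right.hom
  obtain ⟨⟨q⟩, a, b, hab⟩ := exists_eq_of_rep hc (i := (⟨p⟩ : ULift.{u} ℕ))
    (j := (⟨p⟩ : ULift.{u} ℕ)) (∑ s : S, αk (w' s) * αm (v s)) (1 : (tower R p).right) (by
      let legP : (tower R p).right →+* T.right := (c.ι.app ⟨p⟩).right.hom
      change legP (∑ s : S, αk (w' s) * αm (v s)) = legP 1
      rw [map_sum, map_one, ← hw]
      refine Finset.sum_congr rfl fun s _ ↦ ?_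
      rw [map_mul, smul_eq_mul]
      refine congrArg₂ (· * ·) ?_ ?_
      · exact Eq.trans (app_map (D := D) (c := c) _ (w' s)) (hw' s)
      · exact Eq.trans (app_map (D := D) (c := c) _ (v s)) (hv' s))
  let αq : (tower R m).right →+* (tower R q).right :=
    (D.map a).right.hom.comp αm
  have htop' : J.map αq = ⊤ := by
    let βa : (tower R p).right →+* (tower R q).right := (D.map a).right.hom
    let βb : (tower R p).right →+* (tower R q).right := (D.map b).right.hom
    have hab' : βa (∑ s : S, αk (w' s) * αm (v s)) = βb 1 := hab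
    rw [map_one] at hab'
    rw [Ideal.eq_top_iff_one, ← hab', map_sum]
    refine Ideal.sum_mem _ fun s _ ↦ ?_
    rw [map_mul]
    exact Ideal.mul_mem_left _ _ (Ideal.mem_map_of_mem αq (hv s))
  let αq' : Tm ⟶ (tower R q).right := CommRingCat.ofHom αq
  let E₁ := pushout αq' f₀
  letI : Algebra (tower R q).right E₁ := (pushout.inl αq' f₀).hom.toAlgebra
  haveI : Algebra.Etale (tower R q).right E₁ := (etaleMP.{u}).pushout_inl αq' f₀ hf₀
  haveI : Module.FaithfullyFlat (tower R q).right E₁ := by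
    haveI : Module.Flat (tower R q).right E₁ := inferInstance
    refine Module.FaithfullyFlat.of_comap_surjective fun x ↦ ?_
    have hxJ : PrimeSpectrum.comap αq x ∈ Set.range (PrimeSpectrum.comap (algebraMap Tm E₀)) := by
      by_contra h
      have h1 : PrimeSpectrum.comap αq x ∈ PrimeSpectrum.zeroLocus (J : Set Tm) := hJ.subset h
      exact x.isPrime.ne_top (top_le_iff.1 (htop'.ge.trans (Ideal.map_le_iff_le_comap.2 h1)))
    letI : Algebra Tm (tower R q).right := αq.toAlgebra
    obtain ⟨y, hy⟩ := hxJ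
    obtain ⟨z, hz⟩ : x ∈ Set.range (PrimeSpectrum.comap
        (algebraMap (tower R q).right (TensorProduct Tm (tower R q).right E₀))) :=
      let ⟨z, hzp, hz, _⟩ := EtQuotH28.exists_prime_tensor x.asIdeal y.asIdeal
        (congrArg PrimeSpectrum.asIdeal hy.symm)
      ⟨⟨z, hzp⟩, PrimeSpectrum.ext hz⟩
    let e : CommRingCat.of (TensorProduct Tm (tower R q).right E₀) ≅ E₁ :=
      (CommRingCat.isPushout_tensorProduct Tm (tower R q).right E₀).isoPushout
    refine ⟨PrimeSpectrum.comap e.inv.hom z, ?_⟩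
    rw [← hz, ← PrimeSpectrum.comap_comp_apply]
    congr 1
    exact congrArg CommRingCat.Hom.hom
      ((CommRingCat.isPushout_tensorProduct Tm (tower R q).right E₀).inl_isoPushout_inv)
  obtain ⟨φ⟩ := (exists_step (tower R q).right).choose_spec.2.2 E₁
  let ν : E₀ ⟶ T.right :=
    pushout.inr αq' f₀ ≫ φ.right ≫ (c.ι.app ⟨q + 1⟩).right
  have hν : f₀ ≫ ν = (c.ι.app ⟨m⟩).right := by
    have h1 : pushout.inl αq' f₀ ≫ φ.right = (step (tower R q).right).hom := Under.w φ
    have h2 : D.map (homOfLE (show (⟨q⟩ : ULift.{u} ℕ) ≤ ⟨q + 1⟩ from Nat.le_succ q)) =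
        towerMap R q := Functor.ofSequence_map_homOfLE_succ _ _
    have h3 : (step (tower R q).right).hom ≫ (c.ι.app ⟨q + 1⟩).right = (c.ι.app ⟨q⟩).right := by
      rw [← c.w (homOfLE (show (⟨q⟩ : ULift.{u} ℕ) ≤ ⟨q + 1⟩ from Nat.le_succ q)), h2]
      rfl
    have h4 : (pushout.inl αq' f₀ ≫ φ.right) ≫ (c.ι.app ⟨q + 1⟩).right = (c.ι.app ⟨q⟩).right :=
      (congrArg (· ≫ (c.ι.app ⟨q + 1⟩).right) h1).trans h3
    have e1 : f₀ ≫ ν = (f₀ ≫ pushout.inr αq' f₀) ≫ φ.right ≫ (c.ι.app ⟨q + 1⟩).right :=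
      (Category.assoc _ _ _).symm
    have e2 : (f₀ ≫ pushout.inr αq' f₀) ≫ φ.right ≫ (c.ι.app ⟨q + 1⟩).right =
        αq' ≫ (pushout.inl αq' f₀ ≫ φ.right) ≫ (c.ι.app ⟨q + 1⟩).right :=
      ((congrArg (· ≫ φ.right ≫ (c.ι.app ⟨q + 1⟩).right) pushout.condition.symm).trans
        (Category.assoc _ _ _)).trans (congrArg (αq' ≫ ·) (Category.assoc _ _ _).symm)
    refine (e1.trans (e2.trans (congrArg (αq' ≫ ·) h4))).trans ?_
    ext t
    change (c.ι.app ⟨q⟩).right ((D.map a).right (αm t)) = _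
    exact Eq.trans (app_map (D := D) (c := c) a (αm t)) (app_map (D := D) (c := c) _ t)
  let r : CommRingCat.of E ⟶ T.right := hsq.desc (𝟙 _) ν (by rw [hν]; exact Category.comp_id _)
  exact ⟨{ r.hom with
    commutes' := fun b ↦ RingHom.congr_fun
      (congrArg CommRingCat.Hom.hom (hsq.inl_desc (𝟙 _) _ _)) b }⟩

end Groth.Agent.WLocal
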