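import Groth.Agent.Lib.WLocal.Contractible
import Groth.Agent.Lib.WLocal.ExtrDisc
import Groth.Agent.Lib.WLocal.Strict
import Groth.Agent.Lib.RInv29.Henselian
import Mathlib.RingTheory.LocalRing.ResidueField.Fiber

/-!
W-local covers with strictly henselian local rings at closed points; w-contractible covers.
-/

open CategoryTheory Limits Set Topology TensorProduct

universe u

namespace Groth.Agent.WLocal

set_option linter.style.haveILetI false
set_option linter.unusedSectionVars false

lemma sh_of_bijAt {A B : Type u} [CommRing A] [CommRing B] [Algebra A B] {q : PrimeSpectrum B}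
    (hb : BijAt A q) (h : EtCoh.IsStrictlyHenselianLocalRing
      (Localization.AtPrime (q.asIdeal.comap (algebraMap A B)))) :
    EtCoh.IsStrictlyHenselianLocalRing (Localization.AtPrime q.asIdeal) := by
  obtain ⟨_, hsep⟩ := h
  let e := RingEquiv.ofBijective _ hb
  haveI := hsep
  exact ⟨RInv29.henselian_of_ringEquiv e,
    RInv29.isSepClosed_of_ringEquiv (IsLocalRing.ResidueField.mapEquiv e)⟩

lemma incomparable_of_weaklyEtale {A B : Type u} [CommRing A] [CommRing B] [Algebra A B]
    [Algebra.WeaklyEtale A B] {q q' : PrimeSpectrum B}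
    (he : PrimeSpectrum.comap (algebraMap A B) q = PrimeSpectrum.comap (algebraMap A B) q')
    (hle : q.asIdeal ≤ q'.asIdeal) : q = q' := by
  let p := PrimeSpectrum.comap (algebraMap A B) q
  let e := PrimeSpectrum.preimageOrderIsoFiber A B p
  have hV := WEtaleH7.vnr_of_weaklyEtale_field (K := p.asIdeal.ResidueField)
    (B := p.asIdeal.Fiber B)
  let a := e ⟨q, rfl⟩
  let b := e ⟨q', he.symm⟩
  have hab : a ≤ b := e.monotone hle
  have : a = b := PrimeSpectrum.ext ((hV.isMaximal_of_isPrime a.asIdeal).eq_of_le b.isPrime.ne_top hab)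
  exact congrArg Subtype.val (e.injective this)

lemma exists_strict_wLocal (A : Type u) [CommRing A] :
    ∃ (C : Type u) (_ : CommRing C) (_ : Algebra A C),
      Module.FaithfullyFlat A C ∧ EtPBC.IsIndEtale A C ∧ ProEtW.IsWLocal (PrimeSpectrum C) ∧
      PrimeSpectrum.comap (algebraMap A C) '' ProEtW.closedPoints (PrimeSpectrum C) = Set.univ ∧
      ∀ (m : Ideal C) [m.IsMaximal],
        EtCoh.IsStrictlyHenselianLocalRing (Localization.AtPrime m) := by
  let W := WLoc A
  have hW := isWLocal_wLoc (A := A)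
  haveI := hW.1
  obtain ⟨_, _, _⟩ := isProfinite_closedPoints hW
  obtain ⟨I, hI⟩ := (PrimeSpectrum.isClosed_iff_zeroLocus_ideal _).1
    (show IsClosed (ProEtW.closedPoints (PrimeSpectrum W)) from hW.2.1)
  obtain ⟨C₀, _, _, hff₀, hC₀, hret⟩ := exists_indEtale_retractions W
  haveI := hff₀
  haveI := WEtaleH7.weaklyEtale_of_isIndEtale hC₀
  let J := I.map (algebraMap W C₀)
  have hmemJ : ∀ c : PrimeSpectrum C₀, c ∈ PrimeSpectrum.zeroLocus (J : Set C₀) ↔
      PrimeSpectrum.comap (algebraMap W C₀) c ∈ ProEtW.closedPoints (PrimeSpectrum W) := fun c ↦ by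
    rw [hI]
    simp only [PrimeSpectrum.mem_zeroLocus, SetLike.coe_subset_coe, PrimeSpectrum.comap_asIdeal]
    exact Ideal.map_le_iff_le_comap
  have hclV : IsClosed (PrimeSpectrum.zeroLocus (J : Set C₀)) := PrimeSpectrum.isClosed_zeroLocus _
  haveI := spectralSpace_of_isClosed hclV
  haveI : T1Space (PrimeSpectrum.zeroLocus (J : Set C₀)) := by
    refine t1Space_iff_specializes_imp_eq.2 fun q q' hsp ↦ Subtype.ext ?_
    have hsp' := (subtype_specializes_iff _ _).1 hsp
    have h1 := (hmemJ q.1).1 q.2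
    have h2 := (hmemJ q'.1).1 q'.2
    have heq : PrimeSpectrum.comap (algebraMap W C₀) q.1 = PrimeSpectrum.comap (algebraMap W C₀) q'.1 :=
      ((hsp'.map (PrimeSpectrum.continuous_comap _)).mem_closed h1 rfl).symm
    exact incomparable_of_weaklyEtale heq ((PrimeSpectrum.le_iff_specializes _ _).2 hsp')
  obtain ⟨C, _, _, hC, hCw, hCcl, hbij⟩ := exists_wLocal_closedPoints_eq C₀ J isProfinite_of_t1
  letI : Algebra W C := ((algebraMap C₀ C).comp (algebraMap W C₀)).toAlgebra
  haveI : IsScalarTower W C₀ C := IsScalarTower.of_algebraMap_eq fun _ ↦ rfl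
  letI : Algebra A C := ((algebraMap W C).comp (algebraMap A W)).toAlgebra
  haveI : IsScalarTower A W C := IsScalarTower.of_algebraMap_eq fun _ ↦ rfl
  have hindWC : EtPBC.IsIndEtale W C := isIndEtale_trans hC₀ (isIndEtale_of_isIndZariski hC)
  have hind : EtPBC.IsIndEtale A C :=
    isIndEtale_trans (isIndEtale_of_isIndZariski isIndZariski_wLoc) hindWC
  haveI : Module.Flat A C := by
    haveI := WEtaleH7.weaklyEtale_of_isIndEtale hind
    exact Algebra.WeaklyEtale.flat
  have hpre : ∀ x : PrimeSpectrum A, ∃ y ∈ ProEtW.closedPoints (PrimeSpectrum C),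
      PrimeSpectrum.comap (algebraMap A C) y = x := by
    intro x
    obtain ⟨w, hw, hwx⟩ := bijOn_wLoc.2.2 (mem_univ x)
    obtain ⟨c, hc⟩ := PrimeSpectrum.comap_surjective_of_faithfullyFlat (A := W) (B := C₀) w
    have hcJ : c ∈ PrimeSpectrum.zeroLocus (J : Set C₀) := (hmemJ c).2 (hc ▸ hw)
    obtain ⟨c', hc'⟩ : c ∈ range (PrimeSpectrum.comap (Ideal.Quotient.mk J)) := by
      rw [_root_.range_comap_of_surjective _ _ Ideal.Quotient.mk_surjective, Ideal.mk_ker]
      exact hcJ
    let φ := RingEquiv.ofBijective _ hbij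
    let y := PrimeSpectrum.comap (Ideal.Quotient.mk (J.map (algebraMap C₀ C)))
      (PrimeSpectrum.comap φ.symm.toRingHom c')
    have hy : PrimeSpectrum.comap (algebraMap C₀ C) y = c := by
      rw [← hc']
      simp only [y, ← PrimeSpectrum.comap_comp_apply]
      congr 1
      ext r
      exact φ.symm_apply_apply (Ideal.Quotient.mk J r)
    refine ⟨y, ?_, ?_⟩
    · rw [hCcl]
      simp only [PrimeSpectrum.mem_zeroLocus, SetLike.coe_subset_coe]
      refine Ideal.map_le_iff_le_comap.2 ?_
      have : J ≤ (PrimeSpectrum.comap (algebraMap C₀ C) y).asIdeal := by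
        rw [hy]; exact hcJ
      exact this
    · rw [IsScalarTower.algebraMap_eq A W C, IsScalarTower.algebraMap_eq W C₀ C,
        PrimeSpectrum.comap_comp_apply, PrimeSpectrum.comap_comp_apply, hy, hc, hwx]
  refine ⟨C, inferInstance, inferInstance,
    Module.FaithfullyFlat.of_comap_surjective fun x ↦ ?_, hind, hCw, ?_, fun m hm ↦ ?_⟩
  · obtain ⟨y, -, hy⟩ := hpre x
    exact ⟨y, hy⟩
  · exact eq_univ_of_forall fun x ↦ by
      obtain ⟨y, hy, hyx⟩ := hpre x
      exact ⟨y, hy, hyx⟩
  · let n : PrimeSpectrum C := ⟨m, hm.isPrime⟩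
    have hn : n ∈ ProEtW.closedPoints (PrimeSpectrum C) :=
      (PrimeSpectrum.isClosed_singleton_iff_isMaximal n).2 hm
    have hnJ : PrimeSpectrum.comap (algebraMap C₀ C) n ∈ PrimeSpectrum.zeroLocus (J : Set C₀) := by
      rw [hCcl] at hn
      simp only [PrimeSpectrum.mem_zeroLocus, SetLike.coe_subset_coe, PrimeSpectrum.comap_asIdeal]
        at hn ⊢
      exact Ideal.map_le_iff_le_comap.1 hn
    have hn0 : IsClosed ({PrimeSpectrum.comap (algebraMap C₀ C) n} : Set (PrimeSpectrum C₀)) :=
      (isClosed_singleton_subtype hclV ⟨_, hnJ⟩).1 isClosed_singleton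
    haveI : (n.asIdeal.comap (algebraMap C₀ C)).IsMaximal :=
      (PrimeSpectrum.isClosed_singleton_iff_isMaximal _).1 hn0
    exact sh_of_bijAt (identifiesLocalRings_of_isIndZariski hC n)
      (isStrictlyHenselian_of_retractions (hasEtaleRetractions_atPrime hret _))

lemma exists_wContractible_cover (A : Type u) [CommRing A] :
    ∃ (D : Type u) (_ : CommRing D) (_ : Algebra A D),
      Module.FaithfullyFlat A D ∧ EtPBC.IsIndEtale A D ∧ EtPBC.IsWContractible D := by
  obtain ⟨C, _, _, hffC, hC, hW, -, hsh⟩ := exists_strict_wLocal A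
  haveI := hW.1
  haveI := t2Components hW
  let P := _root_.ConnectedComponents (PrimeSpectrum C)
  letI : TopologicalSpace (Discrete P) := ⊥
  haveI : DiscreteTopology (Discrete P) := ⟨rfl⟩
  let T := StoneCech (Discrete P)
  have hid : Continuous (fun p : Discrete P ↦ p.as) := continuous_of_discreteTopology
  let g : C(T, P) := ⟨stoneCechExtend hid, continuous_stoneCechExtend hid⟩
  haveI hed : ExtremallyDisconnected T := StoneCech.projective.extremallyDisconnected
  obtain ⟨D, _, iCD, iAD, hst, h, hD, hh⟩ := exists_realization C isIndZariski_refl T g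
  have hAA : iAD = iCD := Algebra.algebra_ext iAD iCD fun r ↦
    @IsScalarTower.algebraMap_apply C C D _ _ _ _ iCD iAD hst r
  subst hAA
  letI : Algebra A D := ((algebraMap C D).comp (algebraMap A C)).toAlgebra
  haveI : IsScalarTower A C D := IsScalarTower.of_algebraMap_eq fun _ ↦ rfl
  have hind : EtPBC.IsIndEtale A D := isIndEtale_trans hC (isIndEtale_of_isIndZariski hD)
  haveI : Module.Flat A D := by
    haveI := WEtaleH7.weaklyEtale_of_isIndEtale hind
    exact Algebra.WeaklyEtale.flat
  haveI := extremallyDisconnected_of_homeo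
    ((componentsEquiv g).symm.trans (congrComponents h).symm)
  refine ⟨D, inferInstance, inferInstance, Module.FaithfullyFlat.of_comap_surjective fun x ↦ ?_,
    hind, isWContractible_of_conditions (isWLocal_of_homeomorph h (wLocal_fib g hW).1) fun m hm ↦ ?_⟩
  · haveI := hffC
    obtain ⟨w, hw⟩ := PrimeSpectrum.comap_surjective_of_faithfullyFlat (A := A) (B := C) x
    let t : T := stoneCechUnit (⟨_root_.ConnectedComponents.mk w⟩ : Discrete P)
    have hmem : _root_.ConnectedComponents.mk (w, t).1 = g (w, t).2 :=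
      (stoneCechExtend_stoneCechUnit hid _).symm
    refine ⟨h.symm ⟨(w, t), hmem⟩, ?_⟩
    rw [IsScalarTower.algebraMap_eq A C D, PrimeSpectrum.comap_comp_apply, ← hh, h.apply_symm_apply]
    exact hw
  · let n : PrimeSpectrum D := ⟨m, hm.isPrime⟩
    have hn : IsClosed ({n} : Set (PrimeSpectrum D)) :=
      (PrimeSpectrum.isClosed_singleton_iff_isMaximal n).2 hm
    rw [← h.isClosed_image, image_singleton, isClosed_singleton_fib g hW, hh] at hn
    haveI : (n.asIdeal.comap (algebraMap C D)).IsMaximal :=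
      (PrimeSpectrum.isClosed_singleton_iff_isMaximal _).1 hn
    exact sh_of_bijAt (identifiesLocalRings_of_isIndZariski hD n) (hsh _)

end Groth.Agent.WLocal
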