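import Groth.Agent.Lib.WLocal.IdentLoc
import Groth.Agent.Lib.WLocal.ExtrDisc

/-!
Maps identifying local rings between w-local spectra are ind-Zariski.
-/

open CategoryTheory Limits Set Topology

universe u

namespace Groth.Agent.WLocal

set_option linter.style.haveILetI false
set_option linter.unusedSectionVars false

variable {A B : Type u} [CommRing A] [CommRing B] [Algebra A B]

lemma eq_of_localization {b b' : B}
    (h : ∀ q : PrimeSpectrum B, algebraMap B (Localization.AtPrime q.asIdeal) b =
      algebraMap B (Localization.AtPrime q.asIdeal) b') : b = b' :=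
  sub_eq_zero.1 (eq_zero_of_localization _ fun J hJ ↦ by
    rw [map_sub, sub_eq_zero]; exact h ⟨J, hJ.isPrime⟩)

lemma algebraMap_idem_atPrime {e : B} (he : IsIdempotentElem e) (q : PrimeSpectrum B) :
    algebraMap B (Localization.AtPrime q.asIdeal) e =
      haveI := Classical.propDecidable (e ∈ q.asIdeal)
      if e ∈ q.asIdeal then 0 else 1 := by
  split_ifs with h
  · refine (IsLocalization.map_eq_zero_iff q.asIdeal.primeCompl _ _).2 ⟨⟨1 - e, fun h' ↦ ?_⟩, ?_⟩
    · exact q.isPrime.ne_top ((Ideal.eq_top_iff_one _).2 (by simpa using q.asIdeal.add_mem h h'))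
    · change (1 - e) * e = 0
      rw [sub_mul, one_mul, he.eq, sub_self]
  · exact (IsIdempotentElem.iff_eq_one_of_isUnit
      (IsLocalization.map_units (Localization.AtPrime q.asIdeal) (⟨e, h⟩ : q.asIdeal.primeCompl))).1
      (he.map _)

/-- The characterization of the element of `B` given by a locally constant function. -/
def IsGlue (f : LocallyConstant (_root_.ConnectedComponents (PrimeSpectrum B)) A) (b : B) : Prop :=
  ∀ q : PrimeSpectrum B, algebraMap B (Localization.AtPrime q.asIdeal) b =
    algebraMap B _ (algebraMap A B (f (_root_.ConnectedComponents.mk q)))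

lemma exists_isGlue (f : LocallyConstant (_root_.ConnectedComponents (PrimeSpectrum B)) A) :
    ∃ b, IsGlue f b := by
  classical
  have hfin := f.range_finite
  have : ∀ a : A, ∃ e : B, IsIdempotentElem e ∧
      ∀ q : PrimeSpectrum B, f (_root_.ConnectedComponents.mk q) = a ↔ e ∉ q.asIdeal := by
    intro a
    obtain ⟨e, he, hV⟩ := PrimeSpectrum.isClopen_iff.1
      ((f.isLocallyConstant.isClopen_fiber a).preimage _root_.ConnectedComponents.continuous_coe)
    exact ⟨e, he, fun q ↦ Set.ext_iff.1 hV q⟩
  choose e he heq using this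
  refine ⟨∑ a ∈ hfin.toFinset, algebraMap A B a * e a, fun q ↦ ?_⟩
  rw [map_sum, Finset.sum_eq_single (f (_root_.ConnectedComponents.mk q))]
  · rw [map_mul, algebraMap_idem_atPrime (he _), if_neg ((heq _ q).1 rfl), mul_one]
  · intro a _ ha
    rw [map_mul, algebraMap_idem_atPrime (he a), if_pos (by_contra fun h ↦ ha ((heq a q).2 h).symm),
      mul_zero]
  · simp

/-- Gluing along components, as an algebra map. -/
noncomputable def lcGlue : LocallyConstant (_root_.ConnectedComponents (PrimeSpectrum B)) A →ₐ[A] B where
  toFun f := (exists_isGlue f).choose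
  map_one' := eq_of_localization fun q ↦ by
    rw [(exists_isGlue 1).choose_spec q]; simp
  map_mul' f g := eq_of_localization fun q ↦ by
    rw [(exists_isGlue (f * g)).choose_spec q, map_mul, (exists_isGlue f).choose_spec q,
      (exists_isGlue g).choose_spec q]
    simp
  map_zero' := eq_of_localization fun q ↦ by
    rw [(exists_isGlue 0).choose_spec q]; simp
  map_add' f g := eq_of_localization fun q ↦ by
    rw [(exists_isGlue (f + g)).choose_spec q, map_add, (exists_isGlue f).choose_spec q,
      (exists_isGlue g).choose_spec q]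
    simp
  commutes' r := eq_of_localization fun q ↦ (exists_isGlue _).choose_spec q

lemma comap_lcGlue (q : PrimeSpectrum B) :
    PrimeSpectrum.comap (lcGlue (A := A) (B := B)).toRingHom q =
      lcPt _ (PrimeSpectrum.comap (algebraMap A B) q, _root_.ConnectedComponents.mk q) := by
  refine PrimeSpectrum.ext (SetLike.ext fun f ↦ ?_)
  rw [mem_lcPt]
  change lcGlue f ∈ q.asIdeal ↔ algebraMap A B (f (_root_.ConnectedComponents.mk q)) ∈ q.asIdeal
  rw [← not_iff_not]
  have h : ∀ b : B, ¬ b ∈ q.asIdeal ↔ IsUnit (algebraMap B (Localization.AtPrime q.asIdeal) b) :=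
    fun b ↦ (IsLocalization.AtPrime.isUnit_to_map_iff (Localization.AtPrime q.asIdeal) q.asIdeal b).symm
  rw [h, h]
  exact Iff.of_eq (congrArg IsUnit ((exists_isGlue f).choose_spec q))

lemma identifiesLocalRings_lc (T : Type u) [TopologicalSpace T] [CompactSpace T] [T2Space T]
    [TotallyDisconnectedSpace T] : EtPBC.IdentifiesLocalRings A (LocallyConstant T A) := by
  classical
  intro q
  obtain ⟨⟨x, t⟩, rfl⟩ := (bijective_lcPt (C := A) (T := T)).2 q
  refine bijective_lrh (fun a s hs h0 ↦ ⟨s t, ?_, LocallyConstant.congr_fun h0 t⟩) fun b ↦ ?_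
  · intro h; exact hs h
  · have hU := b.isLocallyConstant.isClopen_fiber (b t)
    refine ⟨b t, 1, LocallyConstant.charFn A hU, ?_, ?_, ?_⟩
    · intro h
      rw [map_one, mem_lcPt] at h
      exact x.isPrime.ne_top ((Ideal.eq_top_iff_one _).2 h)
    · intro h
      rw [mem_lcPt] at h
      simp [LocallyConstant.coe_charFn] at h
      exact x.isPrime.ne_top ((Ideal.eq_top_iff_one _).2 h)
    · ext s
      change Set.indicator {y | b y = b t} (1 : T → A) s * (1 * b s - b t) = 0
      rw [Set.indicator_apply]
      split_ifs with hs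
      · simp [show b s = b t from hs]
      · simp

lemma isIndZariski_of_algEquiv {C : Type u} [CommRing C] [Algebra A C] (e : B ≃ₐ[A] C)
    (h : EtPBC.IsIndZariski A B) : EtPBC.IsIndZariski A C := by
  obtain ⟨J, _, _, D, c, hc, hD, ⟨i⟩⟩ := h
  exact ⟨J, inferInstance, inferInstance, D, c, hc, hD,
    ⟨i ≪≫ Under.isoMk e.toRingEquiv.toCommRingCatIso (by ext r; exact e.commutes r)⟩⟩

/-- Relative version: if `A` is ind-Zariski over `A₀`, then so is `B`. -/
lemma isIndZariski_base_of_identifies_wLocal {A₀ : Type u} [CommRing A₀] [Algebra A₀ A]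
    [Algebra A₀ B] [IsScalarTower A₀ A B] (hA : EtPBC.IsIndZariski A₀ A)
    (h1 : EtPBC.IdentifiesLocalRings A B)
    (h2 : ProEtW.IsWLocal (PrimeSpectrum A)) (h3 : ProEtW.IsWLocal (PrimeSpectrum B))
    (h4 : ProEtW.IsWLocalMap (PrimeSpectrum.comap (algebraMap A B))) :
    EtPBC.IsIndZariski A₀ B := by
  haveI := h3.1
  obtain ⟨_, _, _⟩ := isProfinite_closedPoints h3
  haveI : T2Space (_root_.ConnectedComponents (PrimeSpectrum B)) := (closedPointsEquiv h3).t2Space
  let T := _root_.ConnectedComponents (PrimeSpectrum B)
  let g : C(T, _root_.ConnectedComponents (PrimeSpectrum A)) :=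
    ⟨(PrimeSpectrum.continuous_comap (algebraMap A B)).connectedComponentsMap,
      (PrimeSpectrum.continuous_comap (algebraMap A B)).connectedComponentsMap_continuous⟩
  let e := lcHomeo (C := A) T
  let ψ : PrimeSpectrum (LocallyConstant T A) → _root_.ConnectedComponents (PrimeSpectrum A) × T :=
    fun q ↦ (_root_.ConnectedComponents.mk (e.symm q).1, (e.symm q).2)
  have hψ : Continuous ψ :=
    (_root_.ConnectedComponents.continuous_coe.comp (continuous_fst.comp e.symm.continuous)).prodMk
      (continuous_snd.comp e.symm.continuous)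
  let K := hψ.connectedComponentsLift ⁻¹'
    {p : _root_.ConnectedComponents (PrimeSpectrum A) × T | p.1 = g p.2}
  have hK : IsClosed K :=
    (isClosed_eq continuous_fst (g.continuous.comp continuous_snd)).preimage
      hψ.connectedComponentsLift_continuous
  obtain ⟨S, hS⟩ := exists_localization_onto_closed _ K hK
  let ι : PrimeSpectrum (Localization S) → PrimeSpectrum A × T :=
    fun y ↦ e.symm (PrimeSpectrum.comap (algebraMap _ (Localization S)) y)
  have hι : IsEmbedding ι :=
    e.symm.isEmbedding.comp (PrimeSpectrum.localization_comap_isEmbedding _ S)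
  have hr : range ι = {p : PrimeSpectrum A × T | _root_.ConnectedComponents.mk p.1 = g p.2} := by
    rw [show ι = e.symm ∘ PrimeSpectrum.comap (algebraMap _ (Localization S)) from rfl,
      range_comp, hS]
    ext p
    rw [e.symm.image_eq_preimage_symm]
    simp only [Homeomorph.symm_symm, mem_preimage, K]
    change hψ.connectedComponentsLift (_root_.ConnectedComponents.mk (e p)) ∈ _ ↔ _
    rw [hψ.connectedComponentsLift_apply_coe]
    simp [ψ]
  let h : PrimeSpectrum (Localization S) ≃ₜ Fib g := hι.toHomeomorph.trans (Homeomorph.setCongr hr)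
  have hunit : ∀ s : S, IsUnit (lcGlue (A := A) (B := B) s.1) := by
    intro s
    by_contra hu
    obtain ⟨M, hM, hsM⟩ := exists_max_ideal_of_mem_nonunits hu
    let q : PrimeSpectrum B := ⟨M, hM.isPrime⟩
    have hmem : PrimeSpectrum.comap (lcGlue (A := A) (B := B)).toRingHom q ∈
        range (PrimeSpectrum.comap (algebraMap _ (Localization S))) := by
      rw [hS, comap_lcGlue]
      change hψ.connectedComponentsLift (_root_.ConnectedComponents.mk
        (e (PrimeSpectrum.comap (algebraMap A B) q, _root_.ConnectedComponents.mk q))) ∈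
          {p : _root_.ConnectedComponents (PrimeSpectrum A) × T | p.1 = g p.2}
      rw [hψ.connectedComponentsLift_apply_coe]
      simp only [ψ, e.symm_apply_apply]
      rfl
    rw [PrimeSpectrum.localization_comap_range (Localization S) S] at hmem
    exact disjoint_left.1 hmem s.2 hsM
  let φ : Localization S →ₐ[A] B := IsLocalization.liftAlgHom (M := S) (f := lcGlue) hunit
  letI : Algebra (Localization S) B := φ.toRingHom.toAlgebra
  haveI : IsScalarTower A (Localization S) B :=
    IsScalarTower.of_algebraMap_eq fun r ↦ (φ.commutes r).symm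
  have hφ : ∀ q : PrimeSpectrum B, PrimeSpectrum.comap (algebraMap _ (Localization S))
      (PrimeSpectrum.comap (algebraMap (Localization S) B) q) =
      e (PrimeSpectrum.comap (algebraMap A B) q, _root_.ConnectedComponents.mk q) := by
    intro q
    rw [← PrimeSpectrum.comap_comp_apply]
    refine (congrArg (fun f ↦ PrimeSpectrum.comap f q) ?_).trans (comap_lcGlue q)
    exact IsLocalization.lift_comp hunit
  have hh : ∀ q : PrimeSpectrum B, (h (PrimeSpectrum.comap (algebraMap (Localization S) B) q)).1 =
      (PrimeSpectrum.comap (algebraMap A B) q, _root_.ConnectedComponents.mk q) := by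
    intro q
    change e.symm _ = _
    rw [hφ, e.symm_apply_apply]
  have hC : EtPBC.IdentifiesLocalRings A (Localization S) :=
    identifiesLocalRings_of_tower (identifiesLocalRings_lc T) (identifiesLocalRings_localization S)
  have hW : ProEtW.IsWLocal (PrimeSpectrum (Localization S)) :=
    isWLocal_of_homeomorph h (wLocal_fib g h2).1
  have hbij : Function.Bijective (algebraMap (Localization S) B) := by
    refine bijective_of_identifies_wLocal (identifiesLocalRings_cancel hC h1) hW h3
      ⟨isSpectralMap_comap _, fun q hq ↦ ?_⟩ ?_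
    · rw [← h.isClosed_image, image_singleton, isClosed_singleton_fib g h2, hh]
      exact h4.2 q hq
    · let E := (congrComponents h).trans (componentsEquiv g)
      have hE : ∀ z, E ((PrimeSpectrum.continuous_comap
          (algebraMap (Localization S) B)).connectedComponentsMap z) = z := by
        intro z
        obtain ⟨q, rfl⟩ := _root_.ConnectedComponents.surjective_coe z
        exact congrArg Prod.snd (hh q)
      exact ⟨Function.LeftInverse.injective hE, fun z ↦ ⟨E z, E.injective (hE _)⟩⟩
  haveI : IsScalarTower A₀ A (LocallyConstant T A) := IsScalarTower.of_algebraMap_eq fun r ↦ rfl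
  haveI : IsScalarTower A₀ A (Localization S) := IsScalarTower.of_algebraMap_eq fun r ↦ by
    rw [IsScalarTower.algebraMap_apply A₀ (LocallyConstant T A) (Localization S),
      IsScalarTower.algebraMap_apply A₀ A (LocallyConstant T A),
      ← IsScalarTower.algebraMap_apply A (LocallyConstant T A) (Localization S)]
  exact isIndZariski_of_algEquiv ((AlgEquiv.ofBijective φ hbij).restrictScalars A₀)
    (isIndZariski_trans_loc (isIndZariski_lc T hA) S _)

lemma isIndZariski_of_identifies_wLocal (h1 : EtPBC.IdentifiesLocalRings A B)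
    (h2 : ProEtW.IsWLocal (PrimeSpectrum A)) (h3 : ProEtW.IsWLocal (PrimeSpectrum B))
    (h4 : ProEtW.IsWLocalMap (PrimeSpectrum.comap (algebraMap A B))) :
    EtPBC.IsIndZariski A B :=
  isIndZariski_base_of_identifies_wLocal isIndZariski_refl h1 h2 h3 h4

end Groth.Agent.WLocal
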