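import Groth.Agent.Lib.WLocal.Square
import Groth.Agent.Lib.WLocal.IdentIndZar
import Groth.Agent.Lib.WLocal.Contractible
import Groth.Agent.Lib.WEtaleH7.Field

/-!
Weakly étale algebras become ind-étale after an ind-étale cover.
-/

open CategoryTheory Limits Set Topology TensorProduct

universe u

namespace Groth.Agent.WLocal

set_option linter.style.haveILetI false
set_option linter.unusedSectionVars false

variable {A B : Type u} [CommRing A] [CommRing B] [Algebra A B]

lemma algebraicResidueExtensions_of_weaklyEtale [Algebra.WeaklyEtale A B] :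
    ProEtW.AlgebraicResidueExtensions A B := by
  intro q hq
  let p := q.comap (algebraMap A B)
  letI : Algebra p.ResidueField q.ResidueField :=
    (Ideal.ResidueField.map p q (algebraMap A B) rfl).toAlgebra
  haveI : IsScalarTower A p.ResidueField q.ResidueField := IsScalarTower.of_algebraMap_eq fun x ↦ by
    rw [IsScalarTower.algebraMap_apply A B q.ResidueField]
    exact (Ideal.ResidueField.map_algebraMap p q (algebraMap A B) rfl x).symm
  letI : Algebra (A ⧸ p) q.ResidueField :=
    ((algebraMap (B ⧸ q) q.ResidueField).comp (algebraMap (A ⧸ p) (B ⧸ q))).toAlgebra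
  haveI : IsScalarTower (A ⧸ p) (B ⧸ q) q.ResidueField := IsScalarTower.of_algebraMap_eq fun _ ↦ rfl
  haveI : IsScalarTower (A ⧸ p) p.ResidueField q.ResidueField :=
    IsScalarTower.of_algebraMap_eq fun x ↦ by
      obtain ⟨x, rfl⟩ := Ideal.Quotient.mk_surjective x
      rw [← Ideal.Quotient.algebraMap_eq, ← IsScalarTower.algebraMap_apply A (A ⧸ p) p.ResidueField,
        ← IsScalarTower.algebraMap_apply A p.ResidueField q.ResidueField]
      change algebraMap (B ⧸ q) q.ResidueField (Ideal.Quotient.mk q (algebraMap A B x)) = _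
      rw [← Ideal.Quotient.algebraMap_eq, ← IsScalarTower.algebraMap_apply B (B ⧸ q) q.ResidueField,
        ← IsScalarTower.algebraMap_apply A B q.ResidueField]
  let φ : p.ResidueField ⊗[A] B →ₐ[p.ResidueField] q.ResidueField :=
    Algebra.TensorProduct.lift (Algebra.ofId _ _) (IsScalarTower.toAlgHom A B q.ResidueField)
      (fun _ _ => Commute.all _ _)
  refine ⟨fun z ↦ ?_⟩
  obtain ⟨b, rfl⟩ := Ideal.Quotient.mk_surjective z
  refine (isAlgebraic_algebraMap_iff (R := A ⧸ p) (A := q.ResidueField)
    (IsFractionRing.injective (B ⧸ q) q.ResidueField)).1 ?_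
  refine (IsFractionRing.isAlgebraic_iff (A ⧸ p) p.ResidueField q.ResidueField).2 ?_
  obtain ⟨P, hP, hPb⟩ :=
    WEtaleH7.exists_separable_of_weaklyEtale (K := p.ResidueField) ((1 : p.ResidueField) ⊗ₜ[A] b)
  refine ⟨P, hP.ne_zero, ?_⟩
  have h1 : φ ((1 : p.ResidueField) ⊗ₜ[A] b) =
      algebraMap (B ⧸ q) q.ResidueField (Ideal.Quotient.mk q b) := by
    rw [← Ideal.Quotient.algebraMap_eq, ← IsScalarTower.algebraMap_apply B (B ⧸ q) q.ResidueField]
    simp [φ]
  rw [← h1, Polynomial.aeval_algHom_apply, hPb, map_zero]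

/-- A weakly étale algebra is ind-étale after a faithfully flat ind-étale extension. -/
theorem exists_indEtale_cover_of_weaklyEtale [Algebra.WeaklyEtale A B] :
    ∃ (B' : Type u) (_ : CommRing B') (_ : Algebra B B') (_ : Algebra A B') (_ : IsScalarTower A B B'),
      Module.FaithfullyFlat B B' ∧ EtPBC.IsIndEtale B B' ∧ EtPBC.IsIndEtale A B' := by
  obtain ⟨C, D, _, _, _, _, _, _, _, _, -, hC, hffD, hD, hW, hDw, hmap, -, -, -, hsh⟩ :=
    exists_wLocal_square (algebraicResidueExtensions_of_weaklyEtale (A := A) (B := B))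
  haveI : Algebra.WeaklyEtale A C := WEtaleH7.weaklyEtale_of_isIndEtale hC
  haveI : Algebra.WeaklyEtale B D := WEtaleH7.weaklyEtale_of_isIndEtale hD
  haveI : Algebra.WeaklyEtale A D := Algebra.WeaklyEtale.trans A B D
  haveI : Algebra.WeaklyEtale C D := Groth.Agent.S7127.result A C D
  have hid : EtPBC.IdentifiesLocalRings C D := by
    intro q
    refine bijAt_of_le ((PrimeSpectrum.le_iff_specializes _ _).2 (specializes_retr hDw q))
      (bijAt_of_weaklyEtale _ ?_)
    haveI : ((retr hDw q).asIdeal.comap (algebraMap C D)).IsMaximal :=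
      (PrimeSpectrum.isClosed_singleton_iff_isMaximal _).1 (hmap.2 _ (isClosed_retr hDw q))
    exact hsh _
  exact ⟨D, inferInstance, inferInstance, inferInstance, inferInstance, hffD, hD,
    isIndEtale_trans hC (isIndEtale_of_isIndZariski
      (isIndZariski_of_identifies_wLocal hid hW hDw hmap))⟩

end Groth.Agent.WLocal
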