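import Mathlib.RingTheory.Etale.Weakly
import Mathlib.RingTheory.Etale.Pi
import Mathlib.RingTheory.RingHom.Flat
import Mathlib.LinearAlgebra.TensorProduct.Prod
import Mathlib.RingTheory.Localization.Away.Basic

/-!
Finite products of weakly etale algebras.
-/

open TensorProduct

set_option linter.style.haveILetI false

universe u

namespace Groth.Agent.WLocal

variable {R S T : Type u} [CommRing R] [CommRing S] [CommRing T] [Algebra R S] [Algebra R T]

lemma flat_fst : (RingHom.fst S T).Flat := by
  letI := (RingHom.fst S T).toAlgebra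
  refine Module.Flat.of_retract
    ({ toFun := fun x ↦ (x, 0)
       map_add' := fun x y ↦ by simp
       map_smul' := fun r x ↦ Prod.ext rfl (by simp) } : S →ₗ[S × T] S × T)
    (Algebra.linearMap (S × T) S) ?_
  ext x
  rfl

lemma flat_snd : (RingHom.snd S T).Flat := by
  letI := (RingHom.snd S T).toAlgebra
  refine Module.Flat.of_retract
    ({ toFun := fun x ↦ (0, x)
       map_add' := fun x y ↦ by simp
       map_smul' := fun r x ↦ Prod.ext (by simp) rfl } : T →ₗ[S × T] S × T)
    (Algebra.linearMap (S × T) T) ?_
  ext x
  rfl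

lemma flat_prod {M N : Type u} [AddCommGroup M] [AddCommGroup N] [Module R M] [Module R N]
    [Module.Flat R M] [Module.Flat R N] : Module.Flat R (M × N) := by
  rw [Module.Flat.iff_lTensor_preserves_injective_linearMap]
  intro A B _ _ _ _ f hf
  have key : (TensorProduct.prodLeft R R M N B).toLinearMap.comp (f.lTensor (M × N)) =
      ((f.lTensor M).prodMap (f.lTensor N)).comp (TensorProduct.prodLeft R R M N A).toLinearMap := by
    apply TensorProduct.ext'
    rintro ⟨m, n⟩ a
    simp
  intro x y hxy
  apply (TensorProduct.prodLeft R R M N A).injective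
  exact Prod.map_injective.2 ⟨Module.Flat.lTensor_preserves_injective_linearMap f hf,
    Module.Flat.lTensor_preserves_injective_linearMap f hf⟩
    ((LinearMap.congr_fun key x).symm.trans
      ((congrArg (TensorProduct.prodLeft R R M N B) hxy).trans (LinearMap.congr_fun key y)))

lemma weaklyEtale_prod [Algebra.WeaklyEtale R S] [Algebra.WeaklyEtale R T] :
    Algebra.WeaklyEtale R (S × T) where
  flat := flat_prod
  flat_lmul' := by
    let m := Algebra.TensorProduct.lmul' R (S := S × T)
    have h1 : ((AlgHom.fst R S T).comp m).toRingHom.Flat := by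
      have : (AlgHom.fst R S T).comp m = (Algebra.TensorProduct.lmul' R (S := S)).comp
          (Algebra.TensorProduct.map (AlgHom.fst R S T) (AlgHom.fst R S T)) := by
        ext <;> simp [m]
      rw [this]
      exact RingHom.Flat.comp (RingHom.Flat.tensorProductMap flat_fst flat_fst)
        (Algebra.WeaklyEtale.flat_lmul' R S)
    have h2 : ((AlgHom.snd R S T).comp m).toRingHom.Flat := by
      have : (AlgHom.snd R S T).comp m = (Algebra.TensorProduct.lmul' R (S := T)).comp
          (Algebra.TensorProduct.map (AlgHom.snd R S T) (AlgHom.snd R S T)) := by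
        ext <;> simp [m]
      rw [this]
      exact RingHom.Flat.comp (RingHom.Flat.tensorProductMap flat_snd flat_snd)
        (Algebra.WeaklyEtale.flat_lmul' R T)
    letI := m.toRingHom.toAlgebra
    letI := ((AlgHom.fst R S T).comp m).toRingHom.toAlgebra
    letI := ((AlgHom.snd R S T).comp m).toRingHom.toAlgebra
    haveI : Module.Flat ((S × T) ⊗[R] (S × T)) S := h1
    haveI : Module.Flat ((S × T) ⊗[R] (S × T)) T := h2
    haveI := flat_prod (R := (S × T) ⊗[R] (S × T)) (M := S) (N := T)
    let e : (S × T) ≃ₗ[(S × T) ⊗[R] (S × T)] S × T :=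
      { AddEquiv.refl (S × T) with map_smul' := fun r x ↦ rfl }
    exact Module.Flat.of_linearEquiv e

lemma weaklyEtale_pi_finset {ι : Type u} (A : ι → Type u) [∀ i, CommRing (A i)]
    [∀ i, Algebra R (A i)] [Finite ι] [∀ i, Algebra.Etale R (A i)] :
    Algebra.WeaklyEtale R (∀ i, A i) := inferInstance

end Groth.Agent.WLocal
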