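import Groth.Prelude.Def_PBC
import Mathlib.CategoryTheory.MorphismProperty.Ind
import Mathlib.CategoryTheory.Presentable.StrongGenerator
import Mathlib.Algebra.Category.Ring.FinitePresentation
import Mathlib.Algebra.Category.Ring.Colimits
import Mathlib.Algebra.Category.Ring.Constructions
import Mathlib.CategoryTheory.Limits.Constructions.Over.Basic
import Mathlib.RingTheory.RingHom.Etale
import Mathlib.RingTheory.Smooth.NoetherianDescent
import Mathlib.RingTheory.RingHomProperties
import Groth.Agent.Lib.WLocal.FPable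

/-!
Ind-etale ring maps as `MorphismProperty.ind` of etale maps; algebras over a ring form a locally
finitely presentable category; etale maps pre-ind-spread.
-/

open CategoryTheory Limits Opposite TensorProduct

set_option linter.style.haveILetI false

universe u

namespace Groth.Agent.WLocal

open Cardinal in
attribute [local instance] fact_isRegular_aleph0

open Cardinal in
instance isFinitelyAccessible_under (R : CommRingCat.{u}) :
    IsFinitelyAccessibleCategory.{u} (Under R) := by
  have : IsCardinalLocallyPresentable (Under R) ℵ₀ := by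
    have : HasColimitsOfSize.{u, u} (Under R) := inferInstance
    have : LocallySmall.{u} (Under R) := locallySmall_self _
    rw [IsCardinalLocallyPresentable.iff_exists_isStrongGenerator]
    let G : Under R := Under.mk (CommRingCat.ofHom (Polynomial.C : R →+* Polynomial R))
    have key : ∀ (X : Under R) (x : X.right), ∃ f : G ⟶ X, f.right (Polynomial.X : Polynomial R) = x :=
      fun X x ↦ ⟨Under.homMk (CommRingCat.ofHom (Polynomial.eval₂RingHom X.hom.hom x))
        (by ext r; simp [G]), by simp [G]⟩
    refine ⟨ObjectProperty.singleton G, inferInstance, ?_, ?_⟩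
    · rw [ObjectProperty.isStrongGenerator_iff]
      refine ⟨fun X Y f g h ↦ ?_, fun X Y i _ hi ↦ ?_⟩
      · ext x
        obtain ⟨φ, hφ⟩ := key X x
        have := congrArg (fun t ↦ t.right (Polynomial.X : Polynomial R)) (h G (by simp) φ)
        simpa [hφ] using this
      · have hinj : Mono i.right := (Under.forget R).map_mono i
        have : Function.Bijective i.right.hom := by
          refine ⟨(ConcreteCategory.mono_iff_injective_of_preservesPullback i.right).1 hinj,
            fun y ↦ ?_⟩
          obtain ⟨φ, hφ⟩ := key Y y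
          obtain ⟨ψ, hψ⟩ := hi G (by simp) φ
          exact ⟨ψ.right (Polynomial.X : Polynomial R), by rw [← hφ, ← hψ]; rfl⟩
        have : IsIso ((Under.forget R).map i) := (ConcreteCategory.isIso_iff_bijective i.right).2 this
        exact isIso_of_reflects_iso i (Under.forget R)
    · intro X hX
      obtain rfl : G = X := by simpa using hX
      rw [← ObjectProperty.isFinitelyPresentable_eq_isCardinalPresentable]
      exact CommRingCat.isFinitelyPresentable_under R G
        (RingHom.finitePresentation_algebraMap.2 inferInstance :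
          (algebraMap R (Polynomial R)).FinitePresentation)
  exact {}

/-- Etale ring maps as a morphism property. -/
abbrev etaleMP : MorphismProperty CommRingCat.{u} :=
  RingHom.toMorphismProperty fun f ↦ RingHom.Etale f

instance : (etaleMP.{u}).IsStableUnderCobaseChange :=
  RingHom.isStableUnderCobaseChange_toMorphismProperty_iff.2 RingHom.Etale.isStableUnderBaseChange

instance : (etaleMP.{u}).IsMultiplicative where
  id_mem X := RingHom.Etale.containsIdentities X
  comp_mem f g hf hg := RingHom.Etale.stableUnderComposition f.hom g.hom hf hg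

lemma finitePresentation_of_etale {X Y : CommRingCat.{u}} {f : X ⟶ Y} (hf : etaleMP f) :
    f.hom.FinitePresentation := by
  letI := f.hom.toAlgebra
  haveI : Algebra.Etale X Y := hf
  exact RingHom.finitePresentation_algebraMap.2 inferInstance

lemma etaleMP_le : (etaleMP.{u}) ≤ MorphismProperty.isFinitelyPresentable.{u} CommRingCat.{u} :=
  fun _ _ f hf ↦ CommRingCat.isFinitelyPresentable_hom f (finitePresentation_of_etale hf)

/-- A morphism with a model over a finitely generated subring spreads out to a finite stage. -/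
lemma exists_isPushout_of_model (Q : MorphismProperty CommRingCat.{u})
    [Q.IsStableUnderCobaseChange] {J : Type u} [SmallCategory J] [IsFiltered J]
    {D : J ⥤ CommRingCat.{u}} {c : Cocone D} (hc : IsColimit c) {T : CommRingCat.{u}}
    (f : c.pt ⟶ T) (A₀ : Subalgebra ℤ c.pt) (hfg : A₀.FG) (B₀ : Type u) [CommRing B₀]
    [Algebra A₀ B₀] (hB : Q (CommRingCat.ofHom (algebraMap A₀ B₀)))
    (e : letI := f.hom.toAlgebra; T ≃ₐ[c.pt] c.pt ⊗[A₀] B₀) :
    ∃ (j : J) (T' : CommRingCat.{u}) (f' : D.obj j ⟶ T') (g : T' ⟶ T),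
      IsPushout (c.ι.app j) f' f g ∧ Q f' := by
  letI := f.hom.toAlgebra
  haveI : Algebra.FiniteType ℤ A₀ := A₀.fg_iff_finiteType.1 hfg
  haveI : Algebra.FinitePresentation ℤ A₀ := Algebra.FinitePresentation.of_finiteType.1 inferInstance
  let s : (Functor.const J).obj (CommRingCat.of (ULift.{u} ℤ)) ⟶ D :=
    { app j := CommRingCat.ofHom ((Int.castRingHom (D.obj j)).comp ULift.ringEquiv.toRingHom)
      naturality _ _ _ := by ext; simp }
  let p : CommRingCat.of (ULift.{u} ℤ) ⟶ CommRingCat.of A₀ :=
    CommRingCat.ofHom ((Int.castRingHom A₀).comp ULift.ringEquiv.toRingHom)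
  have hp : MorphismProperty.isFinitelyPresentable.{u} _ p := by
    refine CommRingCat.isFinitelyPresentable_hom _ ?_
    exact RingHom.FinitePresentation.comp
      (RingHom.finitePresentation_algebraMap.2 inferInstance :
        (algebraMap ℤ A₀).FinitePresentation)
      (RingHom.FinitePresentation.of_bijective ULift.ringEquiv.bijective)
  obtain ⟨j, q, -, hq⟩ := MorphismProperty.exists_hom_of_isFinitelyPresentable hc hp s
    (CommRingCat.ofHom A₀.val.toRingHom) (fun j ↦ by ext; simp [s, p])
  let a : CommRingCat.of A₀ ⟶ CommRingCat.of B₀ := CommRingCat.ofHom (algebraMap A₀ B₀)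
  have hsq : IsPushout (CommRingCat.ofHom (algebraMap A₀ c.pt)) a f
      (CommRingCat.ofHom (e.symm.toRingHom.comp
        (Algebra.TensorProduct.includeRight (R := A₀) (A := c.pt) (B := B₀)).toRingHom)) := by
    refine (CommRingCat.isPushout_tensorProduct A₀ c.pt B₀).of_iso (Iso.refl _) (Iso.refl _)
      (Iso.refl _) (e.symm.toRingEquiv.toCommRingCatIso) (by simp) (by simp [a]) ?_ (by rfl)
    ext x
    exact e.symm.commutes x
  have hq' : q ≫ c.ι.app j = CommRingCat.ofHom (algebraMap A₀ c.pt) := hq
  rw [← hq'] at hsq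
  let g := pushout.desc (f := q) (g := a) (c.ι.app j ≫ f)
    (CommRingCat.ofHom (e.symm.toRingHom.comp
        (Algebra.TensorProduct.includeRight (R := A₀) (A := c.pt) (B := B₀)).toRingHom))
    (by rw [← Category.assoc]; exact hsq.w)
  refine ⟨j, pushout q a, pushout.inl q a, g, ?_,
    Q.pushout_inl _ _ hB⟩
  refine IsPushout.of_left ?_ ((pushout.inl_desc _ _ _).symm) (IsPushout.of_hasPushout q a)
  have hg : pushout.inr q a ≫ g = _ := pushout.inr_desc _ _ _
  rw [hg]
  exact hsq

instance : MorphismProperty.PreIndSpreads.{u} (etaleMP.{u}) where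
  exists_isPushout {J} _ _ D c hc T f hf := by
    letI := f.hom.toAlgebra
    haveI : Algebra.Etale c.pt T := hf
    obtain ⟨A₀, B₀, _, _, hfg, hB, ⟨e⟩⟩ := Algebra.Etale.exists_subalgebra_fg (R := ℤ) c.pt T
    exact exists_isPushout_of_model _ hc f A₀ hfg B₀ (RingHom.etale_algebraMap.2 hB) e

/-- Finitely presented ring maps as a morphism property. -/
abbrev fpMP : MorphismProperty CommRingCat.{u} :=
  RingHom.toMorphismProperty fun f ↦ RingHom.FinitePresentation f

instance : (fpMP.{u}).IsStableUnderCobaseChange :=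
  RingHom.isStableUnderCobaseChange_toMorphismProperty_iff.2
    RingHom.finitePresentation_isStableUnderBaseChange

instance : MorphismProperty.PreIndSpreads.{u} (fpMP.{u}) where
  exists_isPushout {J} _ _ D c hc T f hf := by
    letI := f.hom.toAlgebra
    haveI : Algebra.FinitePresentation c.pt T := hf
    let P := Algebra.Presentation.ofFinitePresentation c.pt T
    let A₀ : Subalgebra ℤ c.pt := Algebra.adjoin ℤ P.coeffs
    haveI : P.HasCoeffs A₀ := ⟨by simp [A₀]⟩
    exact exists_isPushout_of_model _ hc f A₀ ⟨P.finite_coeffs.toFinset, by simp [A₀]⟩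
      (P.ModelOfHasCoeffs A₀) (RingHom.finitePresentation_algebraMap.2 inferInstance)
      (P.tensorModelOfHasCoeffsEquiv A₀).symm

instance : (MorphismProperty.ind.{u} etaleMP.{u}).IsMultiplicative :=
  MorphismProperty.IsMultiplicative.ind_of_preIndSpreads etaleMP_le

lemma etale_of_comp {X Y Z : CommRingCat.{u}} {f : X ⟶ Y} {g : Y ⟶ Z} (hf : etaleMP f)
    (hfg : etaleMP (f ≫ g)) : etaleMP g := by
  letI := f.hom.toAlgebra
  letI := g.hom.toAlgebra
  letI := (f ≫ g).hom.toAlgebra
  haveI : IsScalarTower X Y Z := IsScalarTower.of_algebraMap_eq fun _ ↦ rfl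
  haveI : Algebra.Etale X Y := hf
  haveI : Algebra.Etale X Z := hfg
  exact Algebra.Etale.of_restrictScalars (R := X) (A := Y) (B := Z)

lemma isIndEtale_iff_objectProperty (A B : Type u) [CommRing A] [CommRing B] [Algebra A B] :
    EtPBC.IsIndEtale A B ↔ ObjectProperty.ind.{u} (etaleMP.{u}).underObj
      (Under.mk (CommRingCat.ofHom (algebraMap A B))) := by
  constructor
  · rintro ⟨J, _, _, D, c, hc, hD, ⟨e⟩⟩
    exact ⟨J, inferInstance, inferInstance,
      (⟨D, c.ι, hc⟩ : ColimitPresentation J c.pt).ofIso e, hD⟩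
  · rintro ⟨J, _, _, pres, h⟩
    exact ⟨J, inferInstance, inferInstance, pres.diag, pres.cocone, pres.isColimit, h, ⟨Iso.refl _⟩⟩

lemma isIndEtale_iff (A B : Type u) [CommRing A] [CommRing B] [Algebra A B] :
    EtPBC.IsIndEtale A B ↔
      MorphismProperty.ind.{u} etaleMP.{u} (CommRingCat.ofHom (algebraMap A B)) := by
  rw [isIndEtale_iff_objectProperty, MorphismProperty.ind_iff_ind_underMk]

lemma isIndEtale_trans {A B C : Type u} [CommRing A] [CommRing B] [CommRing C] [Algebra A B]
    [Algebra B C] [Algebra A C] [IsScalarTower A B C] (hAB : EtPBC.IsIndEtale A B)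
    (hBC : EtPBC.IsIndEtale B C) : EtPBC.IsIndEtale A C := by
  rw [isIndEtale_iff] at *
  rw [IsScalarTower.algebraMap_eq A B C, CommRingCat.ofHom_comp]
  exact MorphismProperty.comp_mem _ _ _ hAB hBC

lemma isIndEtale_baseChange {A B : Type u} (A' : Type u) [CommRing A] [CommRing B] [CommRing A']
    [Algebra A B] [Algebra A A'] (h : EtPBC.IsIndEtale A B) :
    EtPBC.IsIndEtale A' (A' ⊗[A] B) := by
  rw [isIndEtale_iff] at *
  exact MorphismProperty.of_isPushout (CommRingCat.isPushout_tensorProduct A A' B) h

/-- Cancellation for ind-etale maps. -/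
lemma isIndEtale_of_tower {A B C : Type u} [CommRing A] [CommRing B] [CommRing C] [Algebra A B]
    [Algebra B C] [Algebra A C] [IsScalarTower A B C] (hB : EtPBC.IsIndEtale A B)
    (hC : EtPBC.IsIndEtale A C) : EtPBC.IsIndEtale B C := by
  rw [isIndEtale_iff] at hB hC ⊢
  rw [MorphismProperty.ind_iff_exists etaleMP_le] at hC ⊢
  intro Z p g hp hpg
  obtain ⟨J, _, _, D, s, t, ht, hst⟩ := hB
  have hpf : fpMP p := finitePresentation_hom_of_isFinitelyPresentable p hp
  obtain ⟨j, Zj, pj, gj, hsq, hpj⟩ := MorphismProperty.exists_isPushout_of_isFiltered ht p hpf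
  have hAZ : MorphismProperty.isFinitelyPresentable.{u} _ (s.app j ≫ pj) :=
    CommRingCat.isFinitelyPresentable_hom _
      (RingHom.FinitePresentation.comp hpj (finitePresentation_of_etale (hst j).1))
  obtain ⟨W, u, v, huv, hW⟩ := hC (s.app j ≫ pj) (gj ≫ g) hAZ (by
    rw [Category.assoc, ← reassoc_of% hsq.w, hpg, reassoc_of% (hst j).2]
    rw [IsScalarTower.algebraMap_eq A B C, CommRingCat.ofHom_comp])
  have hWe : etaleMP (pj ≫ u) := by
    exact etale_of_comp (hst j).1 (show etaleMP (s.app j ≫ pj ≫ u) by rwa [← Category.assoc])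
  obtain ⟨w, hw₁, hw₂⟩ : ∃ w, t.app j ≫ pushout.inl (t.app j) (pj ≫ u) = w ∧
      (pj ≫ u) ≫ pushout.inr (t.app j) (pj ≫ u) = w := ⟨_, rfl, pushout.condition.symm⟩
  refine ⟨pushout (t.app j) (pj ≫ u),
    hsq.desc (pushout.inl _ _) (u ≫ pushout.inr _ _) (by
      rw [← Category.assoc pj]; exact pushout.condition),
    pushout.desc (CommRingCat.ofHom (algebraMap B C)) v (by
      rw [Category.assoc, huv, ← reassoc_of% hsq.w, hpg]), ?_, ?_⟩
  · apply hsq.hom_ext
    · rw [hsq.inl_desc_assoc, pushout.inl_desc, hpg]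
    · rw [hsq.inr_desc_assoc, Category.assoc, pushout.inr_desc, huv]
  · rw [hsq.inl_desc]
    exact (etaleMP.{u}).pushout_inl _ _ hWe

lemma isIndEtale_of_isColimit {A B : Type u} [CommRing A] [CommRing B] [Algebra A B]
    {J : Type u} [SmallCategory J] [IsFiltered J] (D : J ⥤ Under (CommRingCat.of A))
    (hD : ∀ j, letI := (D.obj j).hom.hom.toAlgebra; EtPBC.IsIndEtale A (D.obj j).right)
    (c : Cocone D) (hc : IsColimit c)
    (e : c.pt ≅ Under.mk (CommRingCat.ofHom (algebraMap A B))) : EtPBC.IsIndEtale A B := by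
  rw [isIndEtale_iff_objectProperty, ← ObjectProperty.ind_ind
    (P := (etaleMP.{u}).underObj) (fun f hf ↦ etaleMP_le _ hf)]
  refine ⟨J, inferInstance, inferInstance, (⟨D, c.ι, hc⟩ : ColimitPresentation J c.pt).ofIso e,
    fun j ↦ ?_⟩
  letI := (D.obj j).hom.hom.toAlgebra
  exact (isIndEtale_iff_objectProperty A _).1 (hD j)

end Groth.Agent.WLocal
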