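import Groth.Agent.Lib.WLocal.Colim
import Groth.Agent.Lib.Hens.EtaleLift
import Mathlib.CategoryTheory.Comma.StructuredArrow.Small

/-!
Ind-etale algebras lift along quotient maps.
-/

open CategoryTheory Limits

universe u

namespace Groth.Agent.WLocal

set_option linter.style.haveILetI false

variable {R : CommRingCat.{u}}

/-- Etale algebras with a map to `X`. -/
abbrev EtOver (X : Under R) := CostructuredArrow (etaleMP.{u}.underObj (X := R)).ι X

/-- Constructor for etale algebras over `X`. -/
abbrev EtOver.mk' {X : Under R} (E : Under R) (hE : etaleMP E.hom) (u : E ⟶ X) : EtOver X :=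
  CostructuredArrow.mk (S := (etaleMP.{u}.underObj (X := R)).ι)
    (Y := (⟨E, hE⟩ : (etaleMP.{u}.underObj (X := R)).FullSubcategory))
    (show (etaleMP.{u}.underObj (X := R)).ι.obj ⟨E, hE⟩ ⟶ X from u)

instance essentiallySmall_etOver (X : Under R) : EssentiallySmall.{u} (EtOver X) := by
  haveI : ObjectProperty.EssentiallySmall.{u} (etaleMP.{u}.underObj (X := R)) :=
    ObjectProperty.EssentiallySmall.of_le (Q := ObjectProperty.isFinitelyPresentable.{u} (Under R))
      fun f hf ↦ etaleMP_le _ hf
  infer_instance

instance isFiltered_etOver (X : Under R) : IsFiltered (EtOver X) := by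
  haveI : Nonempty (EtOver X) :=
    ⟨EtOver.mk' (Under.mk (𝟙 R)) (etaleMP.id_mem R)
      (Under.homMk X.hom (Category.id_comp _))⟩
  haveI : IsFilteredOrEmpty (EtOver X) :=
    { cocone_objs := fun a b ↦ by
        let E := a.left.obj
        let F := b.left.obj
        let aR : E.right ⟶ X.right := a.hom.right
        let bR : F.right ⟶ X.right := b.hom.right
        have ha : E.hom ≫ aR = X.hom := Under.w a.hom
        have hb : F.hom ≫ bR = X.hom := Under.w b.hom
        let G : Under R := Under.mk (E.hom ≫ pushout.inl E.hom F.hom)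
        have hG : etaleMP G.hom :=
          etaleMP.comp_mem _ _ a.left.2 (etaleMP.pushout_inl _ _ b.left.2)
        let u : G ⟶ X := Under.homMk (pushout.desc aR bR (ha.trans hb.symm)) (by
          change (E.hom ≫ pushout.inl E.hom F.hom) ≫ pushout.desc aR bR _ = X.hom
          rw [Category.assoc, pushout.inl_desc, ha])
        refine ⟨EtOver.mk' G hG u,
          CostructuredArrow.homMk (ObjectProperty.homMk (Under.homMk (pushout.inl _ _) rfl)) ?_,
          CostructuredArrow.homMk (ObjectProperty.homMk
            (Under.homMk (pushout.inr _ _) pushout.condition.symm)) ?_, trivial⟩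
        · ext : 1
          change pushout.inl E.hom F.hom ≫ pushout.desc aR bR _ = aR
          exact pushout.inl_desc _ _ _
        · ext : 1
          change pushout.inr E.hom F.hom ≫ pushout.desc aR bR _ = bR
          exact pushout.inr_desc _ _ _
      cocone_maps := fun a b f g ↦ by
        let E := a.left.obj
        let F := b.left.obj
        let aR : E.right ⟶ X.right := a.hom.right
        let bR : F.right ⟶ X.right := b.hom.right
        let fR : E.right ⟶ F.right := f.left.hom.right
        let gR : E.right ⟶ F.right := g.left.hom.right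
        have hfw : E.hom ≫ fR = F.hom := Under.w f.left.hom
        have hgw : E.hom ≫ gR = F.hom := Under.w g.left.hom
        have hb : F.hom ≫ bR = X.hom := Under.w b.hom
        have hf : fR ≫ bR = aR := congrArg (fun t ↦ Under.Hom.right t) (CostructuredArrow.w f)
        have hg : gR ≫ bR = aR := congrArg (fun t ↦ Under.Hom.right t) (CostructuredArrow.w g)
        let h : pushout E.hom E.hom ⟶ F.right := pushout.desc fR gR (hfw.trans hgw.symm)
        let δ : pushout E.hom E.hom ⟶ E.right := pushout.desc (𝟙 _) (𝟙 _) rfl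
        have hδ : etaleMP δ := etale_of_comp
          (f := E.hom ≫ pushout.inl E.hom E.hom)
          (etaleMP.comp_mem _ _ a.left.2 (etaleMP.pushout_inl _ _ a.left.2))
          (by rw [Category.assoc, pushout.inl_desc, Category.comp_id]; exact a.left.2)
        let G : Under R := Under.mk (F.hom ≫ pushout.inl h δ)
        have hG : etaleMP G.hom := etaleMP.comp_mem _ _ b.left.2 (etaleMP.pushout_inl _ _ hδ)
        have hcomm : h ≫ bR = δ ≫ aR := by
          apply pushout.hom_ext
          · rw [pushout.inl_desc_assoc, pushout.inl_desc_assoc, hf, Category.id_comp]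
          · rw [pushout.inr_desc_assoc, pushout.inr_desc_assoc, hg, Category.id_comp]
        let u : G ⟶ X := Under.homMk (pushout.desc bR aR hcomm) (by
          change (F.hom ≫ pushout.inl h δ) ≫ pushout.desc bR aR _ = X.hom
          rw [Category.assoc, pushout.inl_desc, hb])
        refine ⟨EtOver.mk' G hG u,
          CostructuredArrow.homMk (ObjectProperty.homMk (Under.homMk (pushout.inl _ _) rfl))
            (by
              ext : 1
              change pushout.inl h δ ≫ pushout.desc bR aR _ = bR
              exact pushout.inl_desc _ _ _), ?_⟩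
        apply CostructuredArrow.hom_ext
        apply ObjectProperty.hom_ext
        ext : 1
        change fR ≫ pushout.inl h δ = gR ≫ pushout.inl h δ
        have e1 : pushout.inl E.hom E.hom ≫ h = fR := pushout.inl_desc _ _ _
        have e2 : pushout.inr E.hom E.hom ≫ h = gR := pushout.inr_desc _ _ _
        rw [← e1, ← e2, Category.assoc, Category.assoc, pushout.condition,
          pushout.inl_desc_assoc, pushout.inr_desc_assoc] }
  exact ⟨⟩

lemma exists_indEtale_lift (A : Type u) [CommRing A] (I : Ideal A) (Cb : Type u)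
    [CommRing Cb] [Algebra (A ⧸ I) Cb] (h : EtPBC.IsIndEtale (A ⧸ I) Cb) :
    ∃ (C : Type u) (_ : CommRing C) (_ : Algebra A C),
      EtPBC.IsIndEtale A C ∧ Nonempty ((C ⧸ I.map (algebraMap A C)) ≃ₐ[A ⧸ I] Cb) := by
  classical
  letI : Algebra A Cb := ((algebraMap (A ⧸ I) Cb).comp (Ideal.Quotient.mk I)).toAlgebra
  haveI : IsScalarTower A (A ⧸ I) Cb := IsScalarTower.of_algebraMap_eq fun _ ↦ rfl
  let R := CommRingCat.of A
  let X : Under R := R.mkUnder Cb
  let J := SmallModel.{u} (EtOver X)
  haveI : IsFiltered J := .of_equivalence (equivSmallModel _)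
  let obj : J → EtOver X := (equivSmallModel (EtOver X)).inverse.obj
  let D : J ⥤ Under R := (equivSmallModel (EtOver X)).inverse ⋙ CostructuredArrow.proj _ _ ⋙
    (etaleMP.{u}.underObj (X := R)).ι
  let c := colimit.cocone D
  have hc : IsColimit c := colimit.isColimit D
  let C : Type u := c.pt.right
  letI : Algebra A C := c.pt.hom.hom.toAlgebra
  refine ⟨C, inferInstance, inferInstance, (isIndEtale_iff_objectProperty A C).2
    ⟨J, inferInstance, inferInstance, ⟨D, c.ι, hc⟩, fun j ↦ (obj j).left.2⟩, ?_⟩
  let cX : Cocone D :=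
    { pt := X
      ι := { app j := (obj j).hom
             naturality i j f := by
              refine Eq.trans ?_ (Category.comp_id ((obj i).hom)).symm
              exact CostructuredArrow.w ((equivSmallModel (EtOver X)).inverse.map f) } }
  let πU : c.pt ⟶ X := hc.desc cX
  let π : C →ₐ[A] Cb :=
    { πU.right.hom with
      commutes' := fun a ↦ RingHom.congr_fun (congrArg CommRingCat.Hom.hom (Under.w πU)) a }
  have hleg : ∀ j (x : (D.obj j).right), π ((c.ι.app j).right x) = (obj j).hom.right x :=
    fun j x ↦ RingHom.congr_fun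
      (congrArg (fun t ↦ CommRingCat.Hom.hom (Under.Hom.right t)) (hc.fac cX j)) x
  /- every object of `EtOver X` is seen by the colimit -/
  have key : ∀ (o : EtOver X), ∃ (j : J) (φ : o ⟶ obj j), True := fun o ↦
    ⟨(equivSmallModel (EtOver X)).functor.obj o, (equivSmallModel (EtOver X)).unitIso.hom.app o,
      trivial⟩
  obtain ⟨Jb, _, _, Db, cb, hcb, hDb, ⟨eb⟩⟩ := h
  let cb' : Cocone Db := cb.extend eb.hom
  have hcb' : IsColimit cb' := IsColimit.extendIso _ hcb
  have hsurj : Function.Surjective π := by
    intro b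
    obtain ⟨j, y, hy⟩ := exists_rep hcb' b
    letI : Algebra (A ⧸ I) (Db.obj j).right := (Db.obj j).hom.hom.toAlgebra
    letI : Algebra A (Db.obj j).right :=
      ((algebraMap (A ⧸ I) (Db.obj j).right).comp (Ideal.Quotient.mk I)).toAlgebra
    haveI : IsScalarTower A (A ⧸ I) (Db.obj j).right := IsScalarTower.of_algebraMap_eq fun _ ↦ rfl
    haveI : Algebra.Etale (A ⧸ I) (Db.obj j).right := hDb j
    obtain ⟨E, _, _, _, φ, hφ, -⟩ := Hens.exists_etale_lift A I (Db.obj j).right
    let ι : (Db.obj j).right →ₐ[A] Cb :=
      { (cb'.ι.app j).right.hom with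
        commutes' := fun a ↦ RingHom.congr_fun
          (congrArg CommRingCat.Hom.hom (Under.w (cb'.ι.app j))) (Ideal.Quotient.mk I a) }
    obtain ⟨e, he⟩ := hφ y
    obtain ⟨k, ψ, -⟩ := key (EtOver.mk' (R.mkUnder E)
      (show etaleMP (R.mkUnder E).hom from (RingHom.etale_algebraMap.2 inferInstance : (algebraMap A E).Etale))
      ((ι.comp φ).toUnder (R := R)))
    refine ⟨(c.ι.app k).right (ψ.left.hom.right e), ?_⟩
    refine (hleg k _).trans ?_
    have hw := RingHom.congr_fun
      (congrArg (fun t ↦ CommRingCat.Hom.hom (Under.Hom.right t)) (CostructuredArrow.w ψ)) e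
    refine hw.trans ?_
    change ι (φ e) = b
    rw [he]; exact hy
  have hker : RingHom.ker π = I.map (algebraMap A C) := by
    refine le_antisymm (fun x hx ↦ ?_) ?_
    · obtain ⟨j, y₀, rfl⟩ := exists_rep hc x
      let E : Type u := (obj j).left.obj.right
      let y : E := y₀
      letI : Algebra A E := (obj j).left.obj.hom.hom.toAlgebra
      haveI : Algebra.Etale A E := (obj j).left.2
      let IE : Ideal E := I.map (algebraMap A E)
      let u : E →ₐ[A] Cb :=
        { (obj j).hom.right.hom with
          commutes' := fun a ↦ RingHom.congr_fun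
            (congrArg CommRingCat.Hom.hom (Under.w (obj j).hom)) a }
      haveI : IsScalarTower A (A ⧸ I) (E ⧸ IE) := IsScalarTower.of_algebraMap_eq fun _ ↦ rfl
      haveI : Algebra.Etale (A ⧸ I) (E ⧸ IE) := by
        haveI : Algebra.Etale (A ⧸ I) (TensorProduct A (A ⧸ I) E) := inferInstance
        exact Algebra.Etale.of_equiv (Algebra.TensorProduct.quotIdealMapEquivQuotTensor E I).symm
      let ub : (E ⧸ IE) →ₐ[A] Cb := Ideal.Quotient.liftₐ IE u (by
        intro a ha
        have : IE ≤ RingHom.ker u := by
          rw [Ideal.map_le_iff_le_comap]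
          intro r hr
          rw [Ideal.mem_comap, RingHom.mem_ker, u.commutes]
          change algebraMap (A ⧸ I) Cb (Ideal.Quotient.mk I r) = 0
          rw [Ideal.Quotient.eq_zero_iff_mem.2 hr, map_zero]
        exact this ha)
      let ub' : (E ⧸ IE) →ₐ[A ⧸ I] Cb := ub.extendScalarsOfSurjective Ideal.Quotient.mk_surjective
      haveI : IsFinitelyPresentable.{u} ((CommRingCat.of (A ⧸ I)).mkUnder (E ⧸ IE)) :=
        CommRingCat.isFinitelyPresentable_under _ _
          (RingHom.finitePresentation_algebraMap.2 inferInstance :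
            (algebraMap (A ⧸ I) (E ⧸ IE)).FinitePresentation)
      obtain ⟨jb, q, hq⟩ := IsFinitelyPresentable.exists_hom_of_isColimit hcb'
        (ub'.toUnder (R := CommRingCat.of (A ⧸ I)))
      have hy0 : u y = 0 := (hleg j y₀).symm.trans hx
      have h0 : (cb'.ι.app jb).right (q.right (Ideal.Quotient.mk IE y)) =
          (cb'.ι.app jb).right 0 := by
        refine (RingHom.congr_fun (congrArg (fun t ↦ CommRingCat.Hom.hom (Under.Hom.right t)) hq)
          (Ideal.Quotient.mk IE y)).trans ?_
        rw [map_zero]
        exact hy0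
      obtain ⟨kb, a, b, hab⟩ := exists_eq_of_rep hcb' _ _ h0
      let Ck : Type u := (Db.obj kb).right
      let s : (E ⧸ IE) →+* Ck := ((Db.map a).right.hom).comp q.right.hom
      have hs0 : s (Ideal.Quotient.mk IE y) = 0 := hab.trans (map_zero _)
      letI : Algebra (E ⧸ IE) Ck := s.toAlgebra
      letI : Algebra E Ck := (s.comp (Ideal.Quotient.mk IE)).toAlgebra
      haveI : IsScalarTower E (E ⧸ IE) Ck := IsScalarTower.of_algebraMap_eq fun _ ↦ rfl
      letI : Algebra (A ⧸ I) Ck := (Db.obj kb).hom.hom.toAlgebra
      have hsA : ∀ r : A ⧸ I, s (algebraMap (A ⧸ I) (E ⧸ IE) r) = algebraMap (A ⧸ I) Ck r := fun r ↦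
        RingHom.congr_fun (congrArg CommRingCat.Hom.hom (Under.w (q ≫ Db.map a))) r
      haveI : IsScalarTower (A ⧸ I) (E ⧸ IE) Ck :=
        IsScalarTower.of_algebraMap_eq fun r ↦ (hsA r).symm
      haveI : Algebra.Etale (A ⧸ I) Ck := hDb kb
      haveI : Algebra.Etale (E ⧸ IE) Ck := Algebra.Etale.of_restrictScalars (A ⧸ I) (E ⧸ IE) Ck
      obtain ⟨E', _, _, _, φ, hφ, hφk⟩ := Hens.exists_etale_lift E IE Ck
      letI : Algebra A E' := ((algebraMap E E').comp (algebraMap A E)).toAlgebra
      haveI : IsScalarTower A E E' := IsScalarTower.of_algebraMap_eq fun _ ↦ rfl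
      haveI : Algebra.Etale A E' := Algebra.Etale.comp A E E'
      let u' : E' →+* Cb := ((cb'.ι.app kb).right.hom).comp φ.toRingHom
      have hu' : ∀ t : E, u' (algebraMap E E' t) = u t := fun t ↦ by
        change (cb'.ι.app kb).right (φ (algebraMap E E' t)) = _
        rw [φ.commutes]
        refine Eq.trans (app_map (D := Db) (c := cb') a _) ?_
        exact RingHom.congr_fun (congrArg (fun t ↦ CommRingCat.Hom.hom (Under.Hom.right t)) hq)
          (Ideal.Quotient.mk IE t)
      let u'' : E' →ₐ[A] Cb := { u' with
        commutes' := fun r ↦ (hu' (algebraMap A E r)).trans (u.commutes r) }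
      let o' := EtOver.mk' (R.mkUnder E')
        (show etaleMP (R.mkUnder E').hom from (RingHom.etale_algebraMap.2 inferInstance : (algebraMap A E').Etale)) (u''.toUnder (R := R))
      let m : obj j ⟶ o' := CostructuredArrow.homMk (ObjectProperty.homMk
        (Under.homMk (CommRingCat.ofHom (algebraMap E E')) rfl)) (by
          ext : 1; ext t; exact hu' t)
      obtain ⟨k, ψ, -⟩ := key o'
      let n : j ⟶ k := (equivSmallModel (EtOver X)).inverse.preimage (m ≫ ψ)
      have hyE' : algebraMap E E' y ∈ IE.map (algebraMap E E') := by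
        rw [← hφk, RingHom.mem_ker, φ.commutes]
        exact hs0
      rw [← app_map (D := D) (c := c) n y₀]
      rw [show (D.map n).right y₀ = ψ.left.hom.right (algebraMap E E' y) by
        change ((equivSmallModel (EtOver X)).inverse.map n).left.hom.right y = _
        rw [Functor.map_preimage]
        rfl]
      let χ : E' →+* C := ((c.ι.app k).right.hom).comp ψ.left.hom.right.hom
      have hχ : χ.comp (algebraMap A E') = algebraMap A C := by
        ext r
        exact RingHom.congr_fun (congrArg CommRingCat.Hom.hom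
          (Under.w (ψ.left.hom ≫ c.ι.app k))) r
      change χ (algebraMap E E' y) ∈ _
      rw [← hχ, ← Ideal.map_map]
      apply Ideal.mem_map_of_mem
      rwa [IsScalarTower.algebraMap_eq A E E', ← Ideal.map_map]
    · rw [Ideal.map_le_iff_le_comap]
      intro r hr
      rw [Ideal.mem_comap, RingHom.mem_ker, π.commutes]
      change algebraMap (A ⧸ I) Cb (Ideal.Quotient.mk I r) = 0
      rw [Ideal.Quotient.eq_zero_iff_mem.2 hr, map_zero]
  let e1 : (C ⧸ I.map (algebraMap A C)) ≃ₐ[A] Cb :=
    (Ideal.quotientEquivAlgOfEq A hker.symm).trans (Ideal.quotientKerAlgEquivOfSurjective hsurj)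
  exact ⟨e1.extendScalarsOfSurjective Ideal.Quotient.mk_surjective⟩

end Groth.Agent.WLocal
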