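import Groth.Agent.Lib.WLocal.QuasiFiniteED
import Groth.Agent.Lib.WLocal.Contractible
import Groth.Agent.Lib.Hens.Local
import Groth.Agent.Lib.Hens.EssEtale
import Groth.Agent.Lib.RInv29.Henselian
import Mathlib.RingTheory.Localization.Finiteness
import Mathlib.RingTheory.LocalRing.ResidueField.Basic
import Mathlib.RingTheory.TensorProduct.Finite

/-!
Finite finitely presented algebras over w-contractible rings.
-/

open Set Topology TensorProduct

universe u

namespace Groth.Agent.WLocal

set_option linter.style.haveILetI false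
set_option linter.unusedSectionVars false

variable {A B : Type u} [CommRing A] [CommRing B] [Algebra A B] [Module.Finite A B]

/-- The two local facts over a maximal ideal with henselian local ring. -/
lemma eq_of_le_of_henselian (m : Ideal A) [m.IsMaximal] [HenselianLocalRing (Localization.AtPrime m)]
    (q n₁ n₂ : Ideal B) [q.IsPrime] [n₁.IsMaximal] [n₂.IsMaximal] (h₁ : q ≤ n₁) (h₂ : q ≤ n₂)
    (e₁ : n₁.comap (algebraMap A B) = m) (e₂ : n₂.comap (algebraMap A B) = m) : n₁ = n₂ := by
  classical
  let M := Algebra.algebraMapSubmonoid B m.primeCompl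
  let Bm := Localization M
  have hdis : ∀ n : Ideal B, n.comap (algebraMap A B) ≤ m → Disjoint (M : Set B) (n : Set B) := by
    intro n hn
    rw [Set.disjoint_left]
    rintro _ ⟨s, hs, rfl⟩ hsn
    exact hs (hn hsn)
  have key : ∀ n : Ideal B, n.IsMaximal → n.comap (algebraMap A B) = m →
      (n.map (algebraMap B Bm)).IsMaximal ∧ (n.map (algebraMap B Bm)).comap (algebraMap B Bm) = n := by
    intro n hn hnm
    have hd := hdis n hnm.le
    haveI := IsLocalization.isPrime_of_isPrime_disjoint M Bm n inferInstance hd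
    have hc : (n.map (algebraMap B Bm)).comap (algebraMap B Bm) = n :=
      IsLocalization.under_map_of_isPrime_disjoint M Bm inferInstance hd
    refine ⟨?_, hc⟩
    obtain ⟨n', hn', hle⟩ := Ideal.exists_le_maximal _ (Ideal.IsPrime.ne_top ‹(n.map _).IsPrime›)
    have hn'B : n'.comap (algebraMap B Bm) = n :=
      (hn.eq_of_le (Ideal.IsPrime.ne_top (Ideal.comap_isPrime _ n'))
        (hc.ge.trans (Ideal.comap_mono hle))).symm
    have : n.map (algebraMap B Bm) = n' := by
      rw [← hn'B]
      exact IsLocalization.map_comap M Bm n'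
    rw [this]
    exact hn'
  obtain ⟨hN₁, c₁⟩ := key n₁ inferInstance e₁
  obtain ⟨hN₂, c₂⟩ := key n₂ inferInstance e₂
  by_contra hne
  let N₁ : MaximalSpectrum Bm := ⟨_, hN₁⟩
  let N₂ : MaximalSpectrum Bm := ⟨_, hN₂⟩
  have hN : N₁ ≠ N₂ := fun h ↦ hne (by
    rw [← c₁, ← c₂]; exact congrArg (Ideal.comap _) (congrArg MaximalSpectrum.asIdeal h))
  have hb := Hens.bijective_pi_localization_of_henselian (A := Localization.AtPrime m) (B := Bm)
  obtain ⟨e, he⟩ := hb.2 (Pi.single N₁ 1)
  have hid : e * (1 - e) = 0 := hb.1 (by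
    rw [map_mul, map_sub, map_one, he, map_zero, mul_sub, mul_one, ← Pi.single_mul, one_mul,
      sub_self])
  have he₁ : e ∉ N₁.asIdeal := by
    intro hmem
    have h1 := congrFun he N₁
    rw [Pi.single_eq_same] at h1
    exact (IsLocalization.AtPrime.isUnit_to_map_iff (Localization.AtPrime N₁.asIdeal) N₁.asIdeal e).1
      (by rw [show algebraMap Bm (Localization.AtPrime N₁.asIdeal) e = 1 from h1]; exact isUnit_one)
      hmem
  have he₂ : e ∈ N₂.asIdeal := by
    by_contra hmem
    have h1 := congrFun he N₂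
    rw [Pi.single_eq_of_ne hN.symm] at h1
    have := (IsLocalization.AtPrime.isUnit_to_map_iff (Localization.AtPrime N₂.asIdeal)
      N₂.asIdeal e).2 hmem
    rw [show algebraMap Bm (Localization.AtPrime N₂.asIdeal) e = 0 from h1] at this
    exact not_isUnit_zero this
  haveI := IsLocalization.isPrime_of_isPrime_disjoint M Bm q inferInstance
    (hdis q ((Ideal.comap_mono h₁).trans e₁.le))
  rcases Ideal.IsPrime.mem_or_mem ‹(q.map (algebraMap B Bm)).IsPrime›
    (hid ▸ Ideal.zero_mem _ : e * (1 - e) ∈ q.map (algebraMap B Bm)) with h | h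
  · exact he₁ (Ideal.map_mono h₁ h)
  · exact hN₂.ne_top ((Ideal.eq_top_iff_one _).2
      (by simpa using N₂.asIdeal.add_mem he₂ (Ideal.map_mono h₂ h : (1 - e) ∈ N₂.asIdeal)))

lemma sh_of_finite (n : Ideal B) [n.IsMaximal]
    (h : EtCoh.IsStrictlyHenselianLocalRing (Localization.AtPrime (n.comap (algebraMap A B)))) :
    EtCoh.IsStrictlyHenselianLocalRing (Localization.AtPrime n) := by
  classical
  obtain ⟨_, hsep⟩ := h
  haveI := hsep
  let m := n.comap (algebraMap A B)
  let M := Algebra.algebraMapSubmonoid B m.primeCompl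
  let Bm := Localization M
  let R := Localization.AtPrime m
  have hd : Disjoint (M : Set B) (n : Set B) := by
    rw [Set.disjoint_left]
    rintro _ ⟨s, hs, rfl⟩ hsn
    exact hs hsn
  let N := n.map (algebraMap B Bm)
  haveI : N.IsPrime := IsLocalization.isPrime_of_isPrime_disjoint M Bm n inferInstance hd
  haveI : N.IsMaximal := by
    obtain ⟨n', hn', hle⟩ := Ideal.exists_le_maximal _ (Ideal.IsPrime.ne_top ‹N.IsPrime›)
    have hn'B : n'.comap (algebraMap B Bm) = n :=
      (Ideal.IsMaximal.eq_of_le ‹n.IsMaximal› (Ideal.IsPrime.ne_top (Ideal.comap_isPrime _ n'))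
        ((IsLocalization.under_map_of_isPrime_disjoint M Bm inferInstance hd).ge.trans
          (Ideal.comap_mono hle))).symm
    have : N = n' := by
      simp only [N]
      rw [← hn'B]
      exact IsLocalization.map_comap M Bm n'
    rw [this]
    exact hn'
  let T := Localization.AtPrime N
  haveI : Algebra.IsIntegral R Bm := Algebra.IsIntegral.of_finite _ _
  haveI : Algebra.IsIntegral R T := by
    refine Algebra.IsIntegral.of_surjective (IsScalarTower.toAlgHom R Bm T) fun t ↦ ?_
    obtain ⟨b, hb⟩ := (Hens.bijective_pi_localization_of_henselian (A := R) (B := Bm)).2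
      (fun n' ↦ if hn : n' = ⟨N, inferInstance⟩ then hn ▸ t else 0)
    exact ⟨b, by simpa using congrFun hb ⟨N, inferInstance⟩⟩
  haveI : HenselianLocalRing T := Hens.henselianLocalRing_of_isIntegral R T
  haveI : IsLocalHom (algebraMap R T) :=
    ((IsLocalRing.local_hom_TFAE _).out 4 0 rfl rfl).mp (IsLocalRing.eq_maximalIdeal
      (Ideal.isMaximal_comap_of_isIntegral_of_isMaximal (R := R) (IsLocalRing.maximalIdeal T)))
  haveI : Algebra.IsIntegral (IsLocalRing.ResidueField R) (IsLocalRing.ResidueField T) := ⟨fun y ↦ by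
    obtain ⟨y, rfl⟩ := IsLocalRing.residue_surjective y
    obtain ⟨p, hp, hpy⟩ := Algebra.IsIntegral.isIntegral (R := R) y
    refine ⟨p.map (IsLocalRing.residue R), hp.map _, ?_⟩
    rw [Polynomial.eval₂_map, show (algebraMap (IsLocalRing.ResidueField R)
      (IsLocalRing.ResidueField T)).comp (IsLocalRing.residue R) =
      (IsLocalRing.residue T).comp (algebraMap R T) from RingHom.ext fun a ↦ rfl,
      ← Polynomial.hom_eval₂, hpy, map_zero]⟩
  haveI : IsSepClosed (IsLocalRing.ResidueField T) :=
    Hens.isSepClosed_of_isAlgebraic (IsLocalRing.ResidueField R) (IsLocalRing.ResidueField T)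
  haveI : IsLocalization.AtPrime T n := by
    have := IsLocalization.isLocalization_isLocalization_atPrime_isLocalization M T N
    have hc : N.comap (algebraMap B Bm) = n :=
      IsLocalization.under_map_of_isPrime_disjoint M Bm inferInstance hd
    simpa only [hc] using this
  let e : T ≃+* Localization.AtPrime n :=
    (IsLocalization.algEquiv n.primeCompl T (Localization.AtPrime n)).toRingEquiv
  exact ⟨RInv29.henselian_of_ringEquiv e,
    RInv29.isSepClosed_of_ringEquiv (IsLocalRing.ResidueField.mapEquiv e)⟩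

/-- A finite finitely presented algebra over a w-contractible ring is w-contractible. -/
theorem isWContractible_of_finite [Algebra.FinitePresentation A B]
    (h : EtPBC.IsWContractible A) : EtPBC.IsWContractible B := by
  obtain ⟨hW, hED, hsh⟩ := (isWContractible_iff A).1 h
  haveI := hED
  have hcl : ∀ y : PrimeSpectrum B, IsClosed ({y} : Set (PrimeSpectrum B)) ↔
      IsClosed ({PrimeSpectrum.comap (algebraMap A B) y} : Set (PrimeSpectrum A)) := by
    intro y
    simp only [PrimeSpectrum.isClosed_singleton_iff_isMaximal, PrimeSpectrum.comap_asIdeal]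
    exact ⟨fun _ ↦ Ideal.isMaximal_comap_of_isIntegral_of_isMaximal (R := A) y.asIdeal,
      fun hm ↦ Ideal.isMaximal_of_isIntegral_of_isMaximal_comap (R := A) y.asIdeal hm⟩
  have hpre : ProEtW.closedPoints (PrimeSpectrum B) =
      PrimeSpectrum.comap (algebraMap A B) ⁻¹' ProEtW.closedPoints (PrimeSpectrum A) :=
    Set.ext hcl
  have hB : ProEtW.IsWLocal (PrimeSpectrum B) := by
    refine ⟨inferInstance, ?_, fun q ↦ ?_⟩
    · have := hW.2.1.preimage (PrimeSpectrum.continuous_comap (algebraMap A B))
      exact (congrArg IsClosed hpre).mpr this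
    · obtain ⟨n, hn, hle⟩ := Ideal.exists_le_maximal q.asIdeal q.isPrime.ne_top
      let y : PrimeSpectrum B := ⟨n, hn.isPrime⟩
      have hy : IsClosed ({y} : Set (PrimeSpectrum B)) :=
        (PrimeSpectrum.isClosed_singleton_iff_isMaximal _).2 hn
      have hqy : q ⤳ y := (PrimeSpectrum.le_iff_specializes _ _).1 hle
      refine ⟨y, ⟨hy, hqy⟩, ?_⟩
      rintro z ⟨hz, hqz⟩
      haveI hzm := (PrimeSpectrum.isClosed_singleton_iff_isMaximal _).1 hz
      haveI hym : y.asIdeal.IsMaximal := hn
      have heq : PrimeSpectrum.comap (algebraMap A B) z = PrimeSpectrum.comap (algebraMap A B) y := by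
        rw [← retr_eq_self hW ((hcl z).1 hz), ← retr_eq_self hW ((hcl y).1 hy),
          ← retr_eq_of_specializes hW (hqz.map (PrimeSpectrum.continuous_comap _)),
          ← retr_eq_of_specializes hW (hqy.map (PrimeSpectrum.continuous_comap _))]
      let m := (PrimeSpectrum.comap (algebraMap A B) y).asIdeal
      haveI : m.IsMaximal := Ideal.isMaximal_comap_of_isIntegral_of_isMaximal (R := A) y.asIdeal
      haveI : HenselianLocalRing (Localization.AtPrime m) := (hsh m).1
      exact PrimeSpectrum.ext (eq_of_le_of_henselian m q.asIdeal z.asIdeal y.asIdeal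
        ((PrimeSpectrum.le_iff_specializes _ _).2 hqz) hle (congrArg PrimeSpectrum.asIdeal heq) rfl)
  obtain ⟨I, hI⟩ := (PrimeSpectrum.isClosed_iff_zeroLocus_ideal _).1
    (show IsClosed (ProEtW.closedPoints (PrimeSpectrum A)) from hW.2.1)
  have hrange : range (PrimeSpectrum.comap (Ideal.Quotient.mk I)) =
      ProEtW.closedPoints (PrimeSpectrum A) := by
    rw [_root_.range_comap_of_surjective _ _ Ideal.Quotient.mk_surjective, Ideal.mk_ker, hI]
  let eA : PrimeSpectrum (A ⧸ I) ≃ₜ ProEtW.closedPoints (PrimeSpectrum A) :=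
    (PrimeSpectrum.isClosedEmbedding_comap_of_surjective _ _
      Ideal.Quotient.mk_surjective).isEmbedding.toHomeomorph.trans (Homeomorph.setCongr hrange)
  obtain ⟨_, _, _⟩ := isProfinite_closedPoints hW
  haveI : T2Space (PrimeSpectrum (A ⧸ I)) := eA.symm.t2Space
  haveI : ExtremallyDisconnected (ProEtW.closedPoints (PrimeSpectrum A)) :=
    extremallyDisconnected_of_homeo (closedPointsEquiv hW).symm
  haveI : ExtremallyDisconnected (PrimeSpectrum (A ⧸ I)) := extremallyDisconnected_of_homeo eA.symm
  have hres : ∀ p : PrimeSpectrum (A ⧸ I), IsSepClosed p.asIdeal.ResidueField := by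
    intro p
    let m := (PrimeSpectrum.comap (Ideal.Quotient.mk I) p).asIdeal
    haveI : m.IsMaximal := (PrimeSpectrum.isClosed_singleton_iff_isMaximal _).1
      (hrange.subset (mem_range_self p))
    haveI : p.asIdeal.IsMaximal :=
      (PrimeSpectrum.isClosed_singleton_iff_isMaximal _).1 isClosed_singleton
    haveI : IsSepClosed m.ResidueField := (hsh m).2
    let f : m.ResidueField →+* p.asIdeal.ResidueField :=
      Ideal.ResidueField.map m p.asIdeal (Ideal.Quotient.mk I) rfl
    have hf : Function.Surjective f := by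
      intro x
      obtain ⟨r, rfl⟩ := (Ideal.bijective_algebraMap_quotient_residueField p.asIdeal).2 x
      obtain ⟨r, rfl⟩ := Ideal.Quotient.mk_surjective r
      obtain ⟨a, rfl⟩ := Ideal.Quotient.mk_surjective r
      exact ⟨algebraMap A m.ResidueField a, Ideal.ResidueField.map_algebraMap _ _ _ _ a⟩
    exact RInv29.isSepClosed_of_ringEquiv (RingEquiv.ofBijective f ⟨f.injective, hf⟩)
  haveI : ExtremallyDisconnected (PrimeSpectrum ((A ⧸ I) ⊗[A] B)) :=
    extremallyDisconnected_of_quasiFinite hres
  let g := (Algebra.TensorProduct.includeRight (R := A) (A := A ⧸ I) (B := B)).toRingHom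
  have hg : Function.Surjective g := by
    intro z
    induction z with
    | zero => exact ⟨0, map_zero g⟩
    | add x y hx hy =>
      obtain ⟨x, rfl⟩ := hx
      obtain ⟨y, rfl⟩ := hy
      exact ⟨x + y, map_add g x y⟩
    | tmul a b =>
      obtain ⟨a, rfl⟩ := Ideal.Quotient.mk_surjective a
      refine ⟨algebraMap A B a * b, ?_⟩
      change (1 : A ⧸ I) ⊗ₜ[A] (algebraMap A B a * b) = _
      rw [← Algebra.smul_def, tmul_smul, smul_tmul', ← Ideal.Quotient.algebraMap_eq,
        ← Algebra.algebraMap_eq_smul_one]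
  have hrB : range (PrimeSpectrum.comap g) = ProEtW.closedPoints (PrimeSpectrum B) := by
    rw [hpre]
    ext y
    constructor
    · rintro ⟨x, rfl⟩
      rw [mem_preimage, ← hrange]
      refine ⟨PrimeSpectrum.comap (algebraMap (A ⧸ I) ((A ⧸ I) ⊗[A] B)) x, ?_⟩
      rw [← PrimeSpectrum.comap_comp_apply, ← PrimeSpectrum.comap_comp_apply]
      congr 1
      refine RingHom.ext fun a ↦ ?_
      exact Algebra.TensorProduct.tmul_one_eq_one_tmul (R := A) (A := A ⧸ I) (B := B) a
    · intro hy
      rw [mem_preimage, ← hrange] at hy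
      obtain ⟨p, hp⟩ := hy
      obtain ⟨Q, -, hQ⟩ := exists_prime_over_pair p y hp
      exact ⟨Q, hQ⟩
  let eB : PrimeSpectrum ((A ⧸ I) ⊗[A] B) ≃ₜ ProEtW.closedPoints (PrimeSpectrum B) :=
    (PrimeSpectrum.isClosedEmbedding_comap_of_surjective _ g hg).isEmbedding.toHomeomorph.trans
      (Homeomorph.setCongr hrB)
  haveI : ExtremallyDisconnected (_root_.ConnectedComponents (PrimeSpectrum B)) :=
    extremallyDisconnected_of_homeo (eB.trans (closedPointsEquiv hB))
  refine isWContractible_of_conditions hB fun n _ ↦ sh_of_finite (A := A) n ?_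
  haveI : (n.comap (algebraMap A B)).IsMaximal :=
    Ideal.isMaximal_comap_of_isIntegral_of_isMaximal (R := A) n
  exact hsh _

end Groth.Agent.WLocal
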