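import Groth.Agent.Lib.WLocal.IndRing
import Mathlib.RingTheory.Flat.EquationalCriterion
import Mathlib.RingTheory.RingHom.FaithfullyFlat
import Mathlib.RingTheory.Flat.FaithfullyFlat.Algebra
import Mathlib.CategoryTheory.Limits.ConcreteCategory.Basic

/-!
Filtered colimits of faithfully flat algebras are faithfully flat.
-/

open CategoryTheory Limits

universe u

namespace Groth.Agent.WLocal

set_option linter.style.haveILetI false
set_option linter.unusedSectionVars false

variable {R : CommRingCat.{u}} {J : Type u} [SmallCategory J] [IsFiltered J] {D : J ⥤ Under R}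
  {c : Cocone D} (hc : IsColimit c)

include hc

lemma exists_rep (x : c.pt.right) : ∃ (j : J) (y : (D.obj j).right), (c.ι.app j).right y = x := by
  haveI : IsConnected J := IsFiltered.isConnected J
  exact Concrete.isColimit_exists_rep (D ⋙ Under.forget R) (isColimitOfPreserves _ hc) x

lemma exists_eq_of_rep {i j : J} (x : (D.obj i).right) (y : (D.obj j).right)
    (h : (c.ι.app i).right x = (c.ι.app j).right y) :
    ∃ (k : J) (f : i ⟶ k) (g : j ⟶ k), (D.map f).right x = (D.map g).right y := by
  haveI : IsConnected J := IsFiltered.isConnected J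
  exact Concrete.isColimit_exists_of_rep_eq (D ⋙ Under.forget R) (isColimitOfPreserves _ hc) x y h

omit hc in
lemma app_map {i j : J} (f : i ⟶ j) (x : (D.obj i).right) :
    (c.ι.app j).right ((D.map f).right x) = (c.ι.app i).right x := by
  have h := RingHom.congr_fun (congrArg (fun t ↦ CommRingCat.Hom.hom (Under.Hom.right t)) (c.w f)) x
  exact h

lemma exists_rep_fintype {ι : Type*} [Finite ι] (x : ι → c.pt.right) :
    ∃ (j : J) (y : ι → (D.obj j).right), ∀ i, (c.ι.app j).right (y i) = x i := by
  classical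
  haveI := Fintype.ofFinite ι
  choose j y hy using fun i ↦ exists_rep hc (x i)
  obtain ⟨k, hk⟩ := IsFiltered.sup_objs_exists (Finset.univ.image j)
  refine ⟨k, fun i ↦ (D.map (hk (Finset.mem_image_of_mem j (Finset.mem_univ i))).some).right (y i),
    fun i ↦ ?_⟩
  rw [app_map, hy]

lemma flat_of_isColimit (h : ∀ j, Module.Flat R (D.obj j).right) : Module.Flat R c.pt.right := by
  refine Module.Flat.of_forall_isTrivialRelation fun {l f x} hsum ↦ ?_
  obtain ⟨j, y, hy⟩ := exists_rep_fintype hc x
  let φ (k : J) : (D.obj k).right →ₐ[R] c.pt.right := CommRingCat.toAlgHom (c.ι.app k)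
  have h0 : φ j (∑ i, f i • y i) = φ j 0 := by
    rw [map_zero, map_sum, ← hsum]
    refine Finset.sum_congr rfl fun i _ ↦ ?_
    rw [map_smul]
    exact congrArg (f i • ·) (hy i)
  obtain ⟨k, a, b, hab⟩ := exists_eq_of_rep hc _ _ h0
  let ψ : (D.obj j).right →ₐ[R] (D.obj k).right := CommRingCat.toAlgHom (D.map a)
  have hk : ∑ i, f i • ψ (y i) = 0 := by
    have : ψ (∑ i, f i • y i) = 0 := hab.trans (map_zero _)
    simpa only [map_sum, map_smul] using this
  haveI := h k
  obtain ⟨n, m, z, hz, hm⟩ := Module.Flat.isTrivialRelation_of_sum_smul_eq_zero hk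
  refine ⟨n, m, fun t ↦ φ k (z t), fun i ↦ ?_, hm⟩
  rw [← hy i, ← app_map a (y i)]
  change φ k (ψ (y i)) = _
  rw [show ψ (y i) = _ from hz i, map_sum]
  simp

lemma faithfullyFlat_of_isColimit (h : ∀ j, (D.obj j).hom.hom.FaithfullyFlat) :
    c.pt.hom.hom.FaithfullyFlat := by
  have hff : ∀ j, Module.FaithfullyFlat R (D.obj j).right := h
  haveI : Module.Flat R c.pt.right := flat_of_isColimit hc fun j ↦ inferInstance
  refine Module.FaithfullyFlat.of_comap_surjective fun p ↦ ?_
  change p ∈ Set.range _
  rw [PrimeSpectrum.mem_range_comap_iff]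
  refine le_antisymm (fun a ha ↦ ?_) Ideal.le_comap_map
  let φ (k : J) : (D.obj k).right →ₐ[R] c.pt.right := CommRingCat.toAlgHom (c.ι.app k)
  have key : ∀ x ∈ p.asIdeal.map (algebraMap R c.pt.right),
      ∃ (k : J) (y : (D.obj k).right), y ∈ p.asIdeal.map (algebraMap R (D.obj k).right) ∧
        φ k y = x := by
    intro x hx
    induction hx using Submodule.span_induction with
    | mem x hx =>
      obtain ⟨r, hr, rfl⟩ := hx
      obtain ⟨k⟩ := IsFiltered.nonempty (C := J)
      exact ⟨k, algebraMap R _ r, Ideal.mem_map_of_mem _ hr, (φ k).commutes r⟩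
    | zero =>
      obtain ⟨k⟩ := IsFiltered.nonempty (C := J)
      exact ⟨k, 0, zero_mem _, map_zero _⟩
    | add x x' _ _ hx hx' =>
      obtain ⟨k, y, hy, rfl⟩ := hx
      obtain ⟨k', y', hy', rfl⟩ := hx'
      let f := IsFiltered.leftToMax k k'
      let g := IsFiltered.rightToMax k k'
      let α : (D.obj k).right →ₐ[R] (D.obj (IsFiltered.max k k')).right :=
        CommRingCat.toAlgHom (D.map f)
      let β : (D.obj k').right →ₐ[R] (D.obj (IsFiltered.max k k')).right :=
        CommRingCat.toAlgHom (D.map g)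
      refine ⟨_, α y + β y', add_mem ?_ ?_, ?_⟩
      · have := Ideal.mem_map_of_mem α.toRingHom hy
        rwa [Ideal.map_map, AlgHom.toRingHom_eq_coe, α.comp_algebraMap] at this
      · have := Ideal.mem_map_of_mem β.toRingHom hy'
        rwa [Ideal.map_map, AlgHom.toRingHom_eq_coe, β.comp_algebraMap] at this
      · rw [map_add]
        exact congrArg₂ (· + ·) (app_map f y) (app_map g y')
    | smul r x _ hx =>
      obtain ⟨k, y, hy, rfl⟩ := hx
      obtain ⟨k', r', rfl⟩ := exists_rep hc r
      let f := IsFiltered.leftToMax k k'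
      let g := IsFiltered.rightToMax k k'
      let α : (D.obj k).right →ₐ[R] (D.obj (IsFiltered.max k k')).right :=
        CommRingCat.toAlgHom (D.map f)
      refine ⟨_, CommRingCat.toAlgHom (D.map g) r' * α y, Ideal.mul_mem_left _ _ ?_, ?_⟩
      · have := Ideal.mem_map_of_mem α.toRingHom hy
        rwa [Ideal.map_map, AlgHom.toRingHom_eq_coe, α.comp_algebraMap] at this
      · rw [map_mul, smul_eq_mul]
        exact congrArg₂ (· * ·) (app_map g r') (app_map f y)
  obtain ⟨k, y, hy, hyx⟩ := key _ ha
  obtain ⟨k', f, g, hfg⟩ := exists_eq_of_rep hc y (algebraMap R (D.obj k).right a)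
    (hyx.trans ((φ k).commutes a).symm)
  haveI := hff k'
  let α : (D.obj k).right →ₐ[R] (D.obj k').right := CommRingCat.toAlgHom (D.map f)
  have hmem : algebraMap R (D.obj k').right a ∈ p.asIdeal.map (algebraMap R (D.obj k').right) := by
    have := Ideal.mem_map_of_mem α.toRingHom hy
    rw [Ideal.map_map, AlgHom.toRingHom_eq_coe, α.comp_algebraMap] at this
    exact (hfg.trans ((CommRingCat.toAlgHom (D.map g)).commutes a)) ▸ this
  rw [← Ideal.comap_map_eq_self_of_faithfullyFlat (B := (D.obj k').right) p.asIdeal]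
  exact hmem

end Groth.Agent.WLocal
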