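import Mathlib.Algebra.Category.Ring.FilteredColimits
import Mathlib.Algebra.Category.Ring.Under.Basic
import Mathlib.CategoryTheory.Limits.Constructions.Over.Connected
import Mathlib.CategoryTheory.Limits.Types.Filtered
import Mathlib.CategoryTheory.Presentable.Finite
import Mathlib.RingTheory.FinitePresentation
import Mathlib.RingTheory.RingHom.FinitePresentation

/-!
A finitely presentable object in algebras over a ring is a finitely presented algebra.
-/

open CategoryTheory Limits

set_option linter.style.haveILetI false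

universe u

namespace Groth.Agent.WLocal

variable {R : CommRingCat.{u}}

/-- Recognition of filtered colimits of algebras. -/
noncomputable def isColimitUnderOfExists {J : Type u} [SmallCategory J] [IsFiltered J]
    {D : J ⥤ Under R} (c : Cocone D)
    (hsurj : ∀ x : c.pt.right, ∃ (j : J) (y : (D.obj j).right), (c.ι.app j).right y = x)
    (hinj : ∀ (j : J) (y y' : (D.obj j).right), (c.ι.app j).right y = (c.ι.app j).right y' →
      ∃ (k : J) (f : j ⟶ k), (D.map f).right y = (D.map f).right y') :
    IsColimit c := by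
  haveI : IsConnected J := IsFiltered.isConnected J
  haveI : HasColimitsOfShape J CommRingCat.{u} := inferInstance
  haveI : HasColimit D := inferInstance
  haveI : ReflectsColimit D (Under.forget R) := reflectsColimit_of_reflectsIsomorphisms _ _
  haveI : ReflectsColimit (D ⋙ Under.forget R) (forget CommRingCat.{u}) :=
    reflectsColimit_of_reflectsIsomorphisms _ _
  apply isColimitOfReflects (Under.forget R)
  apply isColimitOfReflects (forget CommRingCat.{u})
  refine Types.FilteredColimit.isColimitOf' _ _ (fun x ↦ ?_) fun j y y' h ↦ hinj j y y' h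
  obtain ⟨j, y, hy⟩ := hsurj x
  exact ⟨j, y, hy.symm⟩

lemma finiteType_of_isFinitelyPresentable (Z : Under R) [IsFinitelyPresentable.{u} Z] :
    Algebra.FiniteType R Z := by
  classical
  let obj (s : Finset Z.right) : Under R :=
    R.mkUnder (Algebra.adjoin R (s : Set Z.right))
  let D : Finset Z.right ⥤ Under R :=
    { obj := obj
      map := fun {s t} h ↦ (Subalgebra.inclusion
        (Algebra.adjoin_mono (show (s : Set Z.right) ⊆ t from fun x hx ↦ leOfHom h hx))).toUnder
      map_id _ := rfl
      map_comp _ _ := rfl }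
  let c : Cocone D :=
    { pt := Z
      ι := { app s := Under.homMk (CommRingCat.ofHom
              (Algebra.adjoin R (s : Set Z.right)).val.toRingHom) (by ext; rfl)
             naturality _ _ _ := rfl } }
  have hc : IsColimit c := isColimitUnderOfExists c
    (fun x ↦ ⟨{x}, ⟨x, Algebra.subset_adjoin (by simp)⟩, rfl⟩)
    (fun j y y' h ↦ ⟨j, 𝟙 _, congrArg _ (Subtype.ext h)⟩)
  obtain ⟨s, q, hq⟩ := IsFinitelyPresentable.exists_hom_of_isColimit hc (𝟙 Z)
  refine ⟨⟨s, eq_top_iff.2 fun x _ ↦ ?_⟩⟩
  let y : Algebra.adjoin R (s : Set Z.right) := q.right x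
  have : (y : Z.right) = x := congrArg (fun f : Z ⟶ Z ↦ f.right x) hq
  exact this ▸ y.2

lemma finitePresentation_of_isFinitelyPresentable (Z : Under R) [IsFinitelyPresentable.{u} Z] :
    Algebra.FinitePresentation R Z := by
  classical
  obtain ⟨n, f, hf⟩ := Algebra.FiniteType.iff_quotient_mvPolynomial''.1
    (finiteType_of_isFinitelyPresentable Z)
  let P := MvPolynomial (Fin n) R
  let K := RingHom.ker f
  let I (s : Finset K) : Ideal P := Ideal.span (Subtype.val '' (s : Set K))
  have hIK (s : Finset K) : I s ≤ K := Ideal.span_le.2 (by rintro _ ⟨x, -, rfl⟩; exact x.2)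
  have hI {s t : Finset K} (h : s ≤ t) : I s ≤ I t :=
    Ideal.span_mono (Set.image_mono (fun x hx ↦ h hx))
  let π (s : Finset K) : (P ⧸ I s) →ₐ[R] Z := Ideal.Quotient.liftₐ _ f fun a ha ↦ hIK s ha
  let D : Finset K ⥤ Under R :=
    { obj := fun s ↦ R.mkUnder (P ⧸ I s)
      map := fun {s t} h ↦ (Ideal.Quotient.factorₐ R (hI (leOfHom h))).toUnder
      map_id _ := by ext x; obtain ⟨x, rfl⟩ := Ideal.Quotient.mk_surjective x; rfl
      map_comp _ _ := by ext x; obtain ⟨x, rfl⟩ := Ideal.Quotient.mk_surjective x; rfl }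
  let c : Cocone D :=
    { pt := Z
      ι := { app s := Under.homMk (CommRingCat.ofHom (π s).toRingHom)
              (by ext r; exact (π s).commutes r)
             naturality _ _ _ := by
              ext x; obtain ⟨x, rfl⟩ := Ideal.Quotient.mk_surjective x; rfl } }
  have hc : IsColimit c := by
    refine isColimitUnderOfExists c (fun x ↦ ?_) (fun j y y' h ↦ ?_)
    · obtain ⟨x, rfl⟩ := hf x
      exact ⟨∅, Ideal.Quotient.mk _ x, rfl⟩
    · obtain ⟨y, rfl⟩ := Ideal.Quotient.mk_surjective y
      obtain ⟨y', rfl⟩ := Ideal.Quotient.mk_surjective y'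
      have hk : y - y' ∈ K := by
        rw [RingHom.mem_ker, map_sub, sub_eq_zero]; exact h
      refine ⟨insert ⟨_, hk⟩ j, homOfLE (Finset.subset_insert _ _), ?_⟩
      exact Ideal.Quotient.eq.2 (Ideal.subset_span ⟨⟨_, hk⟩, by simp, rfl⟩)
  obtain ⟨s, q, hq⟩ := IsFinitelyPresentable.exists_hom_of_isColimit hc (𝟙 Z)
  let q₀ : Z.right →+* P ⧸ I s := q.right.hom
  let q' : Z →ₐ[R] P ⧸ I s := { q₀ with
    commutes' := fun r ↦ congrArg (fun g : R ⟶ (D.obj s).right ↦ g r) (Under.w q) }
  have hqπ (x : Z.right) : π s (q' x) = x :=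
    (rfl : π s (q' x) = (q ≫ c.ι.app s).right x).trans
      (congrArg (fun g : Z ⟶ Z ↦ g.right x) hq)
  choose y hy using fun i : Fin n ↦ Ideal.Quotient.mk_surjective (q' (f (MvPolynomial.X i)))
  let L : Ideal P := I s ⊔ Ideal.span (Set.range fun i ↦ MvPolynomial.X i - y i)
  refine Algebra.FinitePresentation.iff.2 ⟨n, L, ?_, ?_⟩
  · refine (Ideal.quotientEquivAlgOfEq R (show L = RingHom.ker f from ?_)).trans
      (Ideal.quotientKerAlgEquivOfSurjective hf)
    refine le_antisymm (sup_le (hIK s) (Ideal.span_le.2 ?_)) fun a ha ↦ ?_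
    · rintro _ ⟨i, rfl⟩
      rw [SetLike.mem_coe, RingHom.mem_ker, map_sub, sub_eq_zero]
      exact ((congrArg (π s) (hy i)).trans (hqπ _)).symm
    · have hLs : I s ≤ L := le_sup_left
      have : (Ideal.Quotient.mkₐ R L) = ((Ideal.Quotient.factorₐ R hLs).comp q').comp f := by
        refine MvPolynomial.algHom_ext fun i ↦ ?_
        simp only [AlgHom.comp_apply, ← hy i]
        exact Ideal.Quotient.eq.2 (Submodule.mem_sup_right (Ideal.subset_span ⟨i, rfl⟩))
      rw [← Ideal.Quotient.eq_zero_iff_mem]
      refine (DFunLike.congr_fun this a).trans ?_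
      simp [AlgHom.comp_apply, RingHom.mem_ker.1 ha]
  · exact (Submodule.fg_span ((s.finite_toSet).image _)).sup
      (Submodule.fg_span (Set.finite_range _))

lemma finitePresentation_hom_of_isFinitelyPresentable {A B : CommRingCat.{u}} (p : A ⟶ B)
    (hp : MorphismProperty.isFinitelyPresentable.{u} _ p) : p.hom.FinitePresentation := by
  haveI : IsFinitelyPresentable.{u} (Under.mk p) := hp
  exact finitePresentation_of_isFinitelyPresentable (Under.mk p)

end Groth.Agent.WLocal
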