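import Groth.Agent.Lib.WLocal.Realize
import Groth.Agent.Lib.WLocal.Retraction
import Mathlib.RingTheory.LocalProperties.Basic
import Mathlib.RingTheory.Idempotents

/-!
Maps identifying local rings between rings with w-local spectra.
-/

open CategoryTheory Limits Set Topology

universe u

namespace Groth.Agent.WLocal

set_option linter.style.haveILetI false
set_option linter.unusedSectionVars false

variable {A B : Type u} [CommRing A] [CommRing B] [Algebra A B]

lemma lrh_inj {q : PrimeSpectrum B}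
    (h : Function.Injective
      (Localization.localRingHom (q.asIdeal.comap (algebraMap A B)) q.asIdeal (algebraMap A B) rfl))
    {a : A} {t : B} (ht : t ∉ q.asIdeal) (h0 : t * algebraMap A B a = 0) :
    ∃ u : A, algebraMap A B u ∉ q.asIdeal ∧ u * a = 0 := by
  have : algebraMap A (Localization.AtPrime (q.asIdeal.comap (algebraMap A B))) a = 0 := by
    apply h
    rw [Localization.localRingHom_to_map, map_zero]
    exact (IsLocalization.map_eq_zero_iff q.asIdeal.primeCompl _ _).2 ⟨⟨t, ht⟩, h0⟩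
  obtain ⟨⟨u, hu⟩, hu'⟩ :=
    (IsLocalization.map_eq_zero_iff (q.asIdeal.comap (algebraMap A B)).primeCompl _ _).1 this
  exact ⟨u, hu, hu'⟩

lemma lrh_surj {q : PrimeSpectrum B}
    (h : Function.Surjective
      (Localization.localRingHom (q.asIdeal.comap (algebraMap A B)) q.asIdeal (algebraMap A B) rfl))
    (b : B) : ∃ (a s : A) (t : B), algebraMap A B s ∉ q.asIdeal ∧ t ∉ q.asIdeal ∧
      t * (algebraMap A B s * b - algebraMap A B a) = 0 := by
  obtain ⟨x, hx⟩ := h (algebraMap B _ b)
  obtain ⟨⟨a, ⟨s, hs⟩⟩, rfl⟩ :=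
    IsLocalization.mk'_surjective (q.asIdeal.comap (algebraMap A B)).primeCompl x
  rw [Localization.localRingHom_mk', eq_comm, IsLocalization.eq_mk'_iff_mul_eq, ← map_mul] at hx
  obtain ⟨⟨t, ht⟩, ht'⟩ := (IsLocalization.eq_iff_exists q.asIdeal.primeCompl _).1 hx
  refine ⟨a, s, t, hs, ht, ?_⟩
  linear_combination ht'

lemma bijective_lrh {q : PrimeSpectrum B}
    (hinj : ∀ (a : A) (t : B), t ∉ q.asIdeal → t * algebraMap A B a = 0 →
      ∃ u : A, algebraMap A B u ∉ q.asIdeal ∧ u * a = 0)
    (hsurj : ∀ b : B, ∃ (a s : A) (t : B), algebraMap A B s ∉ q.asIdeal ∧ t ∉ q.asIdeal ∧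
      t * (algebraMap A B s * b - algebraMap A B a) = 0) :
    Function.Bijective
      (Localization.localRingHom (q.asIdeal.comap (algebraMap A B)) q.asIdeal (algebraMap A B) rfl) := by
  refine ⟨(injective_iff_map_eq_zero _).2 fun x hx ↦ ?_, fun y ↦ ?_⟩
  · obtain ⟨⟨a, ⟨s, hs⟩⟩, rfl⟩ :=
      IsLocalization.mk'_surjective (q.asIdeal.comap (algebraMap A B)).primeCompl x
    rw [Localization.localRingHom_mk', IsLocalization.mk'_eq_zero_iff] at hx
    obtain ⟨⟨t, ht⟩, ht'⟩ := hx
    obtain ⟨u, hu, hua⟩ := hinj a t ht ht'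
    exact (IsLocalization.mk'_eq_zero_iff _ _).2 ⟨⟨u, hu⟩, hua⟩
  · obtain ⟨⟨b, ⟨w, hw⟩⟩, rfl⟩ := IsLocalization.mk'_surjective q.asIdeal.primeCompl y
    obtain ⟨a, s, t, hs, ht, e⟩ := hsurj b
    obtain ⟨a', s', t', hs', ht', e'⟩ := hsurj w
    have ha' : algebraMap A B a' ∉ q.asIdeal := by
      intro hmem
      have h3 : t' * (algebraMap A B s' * w) ∈ q.asIdeal := by
        rw [show t' * (algebraMap A B s' * w) = t' * algebraMap A B a' by linear_combination e']
        exact q.asIdeal.mul_mem_left _ hmem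
      exact (q.isPrime.mem_or_mem h3).elim ht' fun h4 ↦ (q.isPrime.mem_or_mem h4).elim hs' hw
    refine ⟨IsLocalization.mk' _ (a * s') (⟨s * a', fun hmem ↦ ?_⟩ :
      (q.asIdeal.comap (algebraMap A B)).primeCompl), ?_⟩
    · rw [SetLike.mem_coe, Ideal.mem_comap, map_mul] at hmem
      exact (q.isPrime.mem_or_mem hmem).elim hs ha'
    · rw [Localization.localRingHom_mk', IsLocalization.mk'_eq_iff_eq]
      refine (IsLocalization.eq_iff_exists q.asIdeal.primeCompl _).2 ⟨⟨t * t', fun hmem ↦ ?_⟩, ?_⟩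
      · exact (q.isPrime.mem_or_mem hmem).elim ht ht'
      · simp only [map_mul]
        linear_combination (-t' * algebraMap A B s' * w) * e + (t * b * algebraMap A B s) * e'

lemma identifiesLocalRings_of_tower {C : Type u} [CommRing C] [Algebra B C] [Algebra A C]
    [IsScalarTower A B C] (hAB : EtPBC.IdentifiesLocalRings A B)
    (hBC : EtPBC.IdentifiesLocalRings B C) : EtPBC.IdentifiesLocalRings A C := by
  intro q
  refine bijective_lrh (fun a t ht h0 ↦ ?_) fun c ↦ ?_
  · rw [IsScalarTower.algebraMap_apply A B C] at h0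
    obtain ⟨u, hu, hua⟩ := lrh_inj (hBC q).1 ht h0
    obtain ⟨v, hv, hva⟩ := lrh_inj (q := PrimeSpectrum.comap (algebraMap B C) q) (hAB _).1 hu hua
    exact ⟨v, by rw [IsScalarTower.algebraMap_apply A B C]; exact hv, hva⟩
  · obtain ⟨b, s, t, hs, ht, e⟩ := lrh_surj (hBC q).2 c
    obtain ⟨a₁, s₁, t₁, hs₁, ht₁, e₁⟩ :=
      lrh_surj (q := PrimeSpectrum.comap (algebraMap B C) q) (hAB _).2 b
    obtain ⟨a₂, s₂, t₂, hs₂, ht₂, e₂⟩ :=
      lrh_surj (q := PrimeSpectrum.comap (algebraMap B C) q) (hAB _).2 s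
    have ha₂ : algebraMap B C (algebraMap A B a₂) ∉ q.asIdeal := by
      intro hmem
      have h3 : algebraMap B C (t₂ * (algebraMap A B s₂ * s)) ∈ q.asIdeal := by
        rw [show t₂ * (algebraMap A B s₂ * s) = t₂ * algebraMap A B a₂ by linear_combination e₂,
          map_mul]
        exact q.asIdeal.mul_mem_left _ hmem
      rw [map_mul, map_mul] at h3
      exact (q.isPrime.mem_or_mem h3).elim ht₂ fun h4 ↦ (q.isPrime.mem_or_mem h4).elim hs₂ hs
    refine ⟨a₁ * s₂, s₁ * a₂, t * algebraMap B C (t₁ * t₂), ?_, ?_, ?_⟩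
    · rw [IsScalarTower.algebraMap_apply A B C, map_mul, map_mul]
      exact fun h ↦ (q.isPrime.mem_or_mem h).elim hs₁ ha₂
    · rw [map_mul]
      exact fun h ↦ (q.isPrime.mem_or_mem h).elim ht fun h ↦ (q.isPrime.mem_or_mem h).elim ht₁ ht₂
    · simp only [IsScalarTower.algebraMap_apply A B C, map_mul]
      have E1 := congrArg (algebraMap B C) e₁
      have E2 := congrArg (algebraMap B C) e₂
      simp only [map_mul, map_sub, map_zero] at E1 E2
      linear_combination (algebraMap B C t₁ * algebraMap B C t₂ * algebraMap B C (algebraMap A B s₁)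
          * algebraMap B C (algebraMap A B s₂)) * e
        + (t * algebraMap B C t₂ * algebraMap B C (algebraMap A B s₂)) * E1
        - (t * algebraMap B C t₁ * algebraMap B C (algebraMap A B s₁) * c) * E2

lemma identifiesLocalRings_cancel {C : Type u} [CommRing C] [Algebra B C] [Algebra A C]
    [IsScalarTower A B C] (hAB : EtPBC.IdentifiesLocalRings A B)
    (hAC : EtPBC.IdentifiesLocalRings A C) : EtPBC.IdentifiesLocalRings B C := by
  intro q
  refine bijective_lrh (fun b t ht h0 ↦ ?_) fun c ↦ ?_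
  · obtain ⟨a, s, t₁, hs, ht₁, e⟩ :=
      lrh_surj (q := PrimeSpectrum.comap (algebraMap B C) q) (hAB _).2 b
    have h1 : t * algebraMap B C t₁ * algebraMap A C a = 0 := by
      have E := congrArg (algebraMap B C) e
      simp only [map_mul, map_sub, map_zero, ← IsScalarTower.algebraMap_apply A B C] at E
      linear_combination (algebraMap B C t₁ * algebraMap A C s) * h0 - t * E
    obtain ⟨u, hu, hua⟩ := lrh_inj (hAC q).1
      (fun h ↦ (q.isPrime.mem_or_mem h).elim ht ht₁) h1
    rw [IsScalarTower.algebraMap_apply A B C] at hu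
    refine ⟨t₁ * algebraMap A B s * algebraMap A B u, ?_, ?_⟩
    · rw [map_mul, map_mul]
      exact fun h ↦ (q.isPrime.mem_or_mem h).elim
        (fun h ↦ (q.isPrime.mem_or_mem h).elim ht₁ hs) hu
    · have E := congrArg (algebraMap A B) hua
      simp only [map_mul, map_zero] at E
      linear_combination algebraMap A B u * e + t₁ * E
  · obtain ⟨a, s, t, hs, ht, e⟩ := lrh_surj (hAC q).2 c
    refine ⟨algebraMap A B a, algebraMap A B s, t, ?_, ht, ?_⟩
    · rwa [← IsScalarTower.algebraMap_apply A B C]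
    · rwa [← IsScalarTower.algebraMap_apply A B C, ← IsScalarTower.algebraMap_apply A B C]

lemma identifiesLocalRings_localization (S : Submonoid A) [IsLocalization S B] :
    EtPBC.IdentifiesLocalRings A B := by
  intro q
  have hunit : ∀ s : S, algebraMap A B s ∉ q.asIdeal := fun s h ↦
    q.isPrime.ne_top (Ideal.eq_top_of_isUnit_mem _ h (IsLocalization.map_units B s))
  refine bijective_lrh (fun a t ht h0 ↦ ?_) fun b ↦ ?_
  · obtain ⟨⟨x, s⟩, hx⟩ := IsLocalization.surj S t
    have h1 : algebraMap A B (x * a) = 0 := by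
      rw [map_mul, ← hx]; linear_combination algebraMap A B s * h0
    obtain ⟨w, hw⟩ := (IsLocalization.map_eq_zero_iff S B _).1 h1
    refine ⟨w * x, ?_, by rw [mul_assoc]; exact hw⟩
    rw [map_mul, ← hx]
    exact fun h ↦ (q.isPrime.mem_or_mem h).elim (hunit w)
      fun h ↦ (q.isPrime.mem_or_mem h).elim ht (hunit s)
  · obtain ⟨⟨x, s⟩, hx⟩ := IsLocalization.surj S b
    exact ⟨x, s, 1, hunit s, fun h ↦ q.isPrime.ne_top ((Ideal.eq_top_iff_one _).2 h),
      by linear_combination hx⟩

lemma bijective_of_identifies_wLocal (h1 : EtPBC.IdentifiesLocalRings A B)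
    (h2 : ProEtW.IsWLocal (PrimeSpectrum A)) (h3 : ProEtW.IsWLocal (PrimeSpectrum B))
    (h4 : ProEtW.IsWLocalMap (PrimeSpectrum.comap (algebraMap A B)))
    (h5 : Function.Bijective
      (PrimeSpectrum.continuous_comap (algebraMap A B)).connectedComponentsMap) :
    Function.Bijective (algebraMap A B) := by
  let f := PrimeSpectrum.comap (algebraMap A B)
  have hcl : ∀ n n' : PrimeSpectrum B, IsClosed ({n} : Set (PrimeSpectrum B)) →
      IsClosed ({n'} : Set (PrimeSpectrum B)) → f n = f n' → n = n' := by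
    intro n n' hn hn' he
    have h6 := h5.1 (a₁ := _root_.ConnectedComponents.mk n) (a₂ := _root_.ConnectedComponents.mk n')
      (congrArg _root_.ConnectedComponents.mk he)
    have := retr_eq_of_mk_eq h3 h6
    rwa [retr_eq_self h3 hn, retr_eq_self h3 hn'] at this
  have hover : ∀ m : Ideal A, m.IsMaximal → ∃ n : PrimeSpectrum B,
      IsClosed ({n} : Set (PrimeSpectrum B)) ∧ (f n).asIdeal = m ∧
      ∀ t : B, t ∉ n.asIdeal → ∃ u : A, u ∉ m ∧ ∃ c, t * c = algebraMap A B u := by
    intro m hm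
    let x : PrimeSpectrum A := ⟨m, hm.isPrime⟩
    have hx : IsClosed ({x} : Set (PrimeSpectrum A)) :=
      (PrimeSpectrum.isClosed_singleton_iff_isMaximal x).2 hm
    obtain ⟨z, hz⟩ := h5.2 (_root_.ConnectedComponents.mk x)
    obtain ⟨y, rfl⟩ := _root_.ConnectedComponents.surjective_coe z
    have hn : f (retr h3 y) = x := by
      have e1 : _root_.ConnectedComponents.mk (f (retr h3 y)) = _root_.ConnectedComponents.mk x :=
        (congrArg (PrimeSpectrum.continuous_comap (algebraMap A B)).connectedComponentsMap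
          (mk_eq_mk_retr h3 y)).symm.trans hz
      have := retr_eq_of_mk_eq h2 e1
      rwa [retr_eq_self h2 (h4.2 _ (isClosed_retr h3 y)), retr_eq_self h2 hx] at this
    refine ⟨retr h3 y, isClosed_retr h3 y, congrArg PrimeSpectrum.asIdeal hn, fun t ht ↦ ?_⟩
    by_contra hne
    simp only [not_exists, not_and] at hne
    have hdisj : Disjoint (Ideal.span {t} : Set B)
        (Algebra.algebraMapSubmonoid B m.primeCompl : Set B) := by
      rw [disjoint_right]
      rintro _ ⟨u, hu, rfl⟩ hmem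
      obtain ⟨c, hc⟩ := Ideal.mem_span_singleton'.1 hmem
      exact hne u hu c (by rw [mul_comm]; exact hc)
    obtain ⟨p, hp, htp, hdisj'⟩ := Ideal.exists_le_prime_disjoint _ _ hdisj
    let q : PrimeSpectrum B := ⟨p, hp⟩
    have hqx : f q ⤳ x := (PrimeSpectrum.le_iff_specializes _ _).1 fun a ha ↦ by
      by_contra hax
      exact disjoint_left.1 hdisj' ha ⟨a, hax, rfl⟩
    have e2 : f (retr h3 q) = x := by
      have := retr_eq_of_specializes h2 ((specializes_retr h3 q).map
        (PrimeSpectrum.continuous_comap (algebraMap A B)))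
      rw [retr_eq_self h2 (h4.2 _ (isClosed_retr h3 q))] at this
      exact this.symm.trans (retr_unique h2 hx hqx)
    have e3 : retr h3 q = retr h3 y :=
      hcl _ _ (isClosed_retr h3 q) (isClosed_retr h3 y) (e2.trans hn.symm)
    refine ht ((PrimeSpectrum.le_iff_specializes q (retr h3 y)).2 (e3 ▸ specializes_retr h3 q) ?_)
    exact htp (Ideal.mem_span_singleton_self t)
  refine ⟨(injective_iff_map_eq_zero _).2 fun a ha ↦ ?_, fun b ↦ ?_⟩
  · by_contra hne
    have : (Submodule.colon (⊥ : Ideal A) ({a} : Set A)) ≠ ⊤ := fun h ↦ hne (by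
      simpa using Submodule.mem_colon_singleton.1 ((Ideal.eq_top_iff_one _).1 h))
    obtain ⟨m, hm, hle⟩ := Ideal.exists_le_maximal _ this
    obtain ⟨n, -, hn, -⟩ := hover m hm
    obtain ⟨u, hu, hua⟩ := lrh_inj (h1 n).1 (a := a) (t := 1)
      (fun h ↦ n.isPrime.ne_top ((Ideal.eq_top_iff_one _).2 h)) (by rw [ha, mul_zero])
    exact hu (hn ▸ hle (Submodule.mem_colon_singleton.2 (by simpa using hua)) : u ∈ (f n).asIdeal)
  · let K : Ideal A := Submodule.comap (LinearMap.toSpanSingleton A B b)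
      (LinearMap.range (Algebra.linearMap A B))
    by_contra hne
    have hK : K ≠ ⊤ := fun h ↦ hne (by
      obtain ⟨a, ha⟩ := (h ▸ Submodule.mem_top : (1 : A) ∈ K)
      exact ⟨a, by simpa using ha⟩)
    obtain ⟨m, hm, hle⟩ := Ideal.exists_le_maximal _ hK
    obtain ⟨n, -, hn, hdiv⟩ := hover m hm
    obtain ⟨a, s, t, hs, ht, e⟩ := lrh_surj (h1 n).2 b
    obtain ⟨u, hu, c, hc⟩ := hdiv t ht
    have hmem : u * s ∈ m := hle ⟨u * a, by
      simp only [Algebra.linearMap_apply, LinearMap.toSpanSingleton_apply, Algebra.smul_def, map_mul]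
      linear_combination (-c) * e + (algebraMap A B s * b - algebraMap A B a) * hc⟩
    exact (hm.isPrime.mem_or_mem hmem).elim hu fun h ↦ hs (hn.symm ▸ h : s ∈ (f n).asIdeal)

end Groth.Agent.WLocal
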