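import Groth.Agent.Lib.WLocal.LocalizeProps
import Groth.Agent.Lib.WLocal.Retraction
import Mathlib.RingTheory.Idempotents

/-!
Universal property of the w-localization.
-/

open CategoryTheory Limits Set

universe u

namespace Groth.Agent.WLocal

set_option linter.style.haveILetI false
set_option linter.unusedSectionVars false

variable {A B : Type u} [CommRing A] [CommRing B] [Algebra A B]

/-- A map out of a stage respecting strata at closed points. -/
def StageGood {E : Finset A} (f : StageRing E →ₐ[A] B) : Prop :=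
  ∀ m : PrimeSpectrum B, IsClosed ({m} : Set (PrimeSpectrum B)) → ∀ P : Pat E,
    (f (stIdem P) ∉ m.asIdeal ↔ patOf E (PrimeSpectrum.comap (algebraMap A B) m) = P)

lemma eq_of_forall_maximal {e e' : B} (he : IsIdempotentElem e) (he' : IsIdempotentElem e')
    (h : ∀ m : PrimeSpectrum B, IsClosed ({m} : Set (PrimeSpectrum B)) →
      (e ∉ m.asIdeal ↔ e' ∉ m.asIdeal)) : e = e' := by
  have key : ∀ a b : B, IsIdempotentElem a → IsIdempotentElem b →
      (∀ m : PrimeSpectrum B, IsClosed ({m} : Set (PrimeSpectrum B)) →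
        a ∉ m.asIdeal → b ∉ m.asIdeal) → a * b = a := by
    intro a b ha hb hab
    have hi : IsIdempotentElem (a * (1 - b)) := ha.mul hb.one_sub
    have hu : IsUnit (1 - a * (1 - b)) := by
      by_contra hu
      obtain ⟨M, hM, hmem⟩ := exists_max_ideal_of_mem_nonunits hu
      let m : PrimeSpectrum B := ⟨M, hM.isPrime⟩
      have hm := (PrimeSpectrum.isClosed_singleton_iff_isMaximal m).2 hM
      have h1 : a * (1 - b) ∉ M := fun h1 ↦
        hM.ne_top ((Ideal.eq_top_iff_one _).2 (by simpa using M.add_mem hmem h1))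
      have h2 : a ∉ M := fun h2 ↦ h1 (M.mul_mem_right _ h2)
      have h3 : b ∉ M := hab m hm h2
      refine (hM.isPrime.mem_or_mem (show b * (a * (1 - b)) ∈ M from ?_)).elim h3 h1
      rw [show b * (a * (1 - b)) = a * (b - b * b) by ring, hb.eq, sub_self, mul_zero]
      exact M.zero_mem
    have h0 : a * (1 - b) = 0 := by
      apply hu.mul_left_cancel
      rw [mul_zero, sub_mul, one_mul, hi.eq, sub_self]
    linear_combination -h0
  rw [← key e e' he he' (fun m hm ↦ (h m hm).1), mul_comm,
    key e' e he' he (fun m hm ↦ (h m hm).2)]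

lemma isIdempotentElem_stIdem {E : Finset A} (P : Pat E) : IsIdempotentElem (stIdem P) := by
  classical
  ext R
  by_cases hR : R = P
  · subst hR; simp [stIdem]
  · simp [stIdem, hR]

lemma stageGood_unique {E : Finset A} {f g : StageRing E →ₐ[A] B} (hf : StageGood f)
    (hg : StageGood g) : f = g := by
  classical
  haveI := Fintype.ofFinite (Pat E)
  have he : ∀ P, f (stIdem P) = g (stIdem P) := fun P ↦
    eq_of_forall_maximal ((isIdempotentElem_stIdem P).map f) ((isIdempotentElem_stIdem P).map g)
      fun m hm ↦ (hf m hm P).trans (hg m hm P).symm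
  ext y
  have hy : y = ∑ P, stIdem P * y := by
    conv_lhs => rw [← one_mul y, ← Finset.univ_sum_single (1 : StageRing E), Finset.sum_mul]
    rfl
  rw [hy, map_sum, map_sum]
  refine Finset.sum_congr rfl fun P _ ↦ ?_
  obtain ⟨⟨a, s⟩, hs⟩ := IsLocalization.surj (stSub E P.1) (y P)
  obtain ⟨v, hv⟩ := IsLocalization.map_units (Localization (stSub E P.1)) s
  have k1 : stIdem P * y * algebraMap A (StageRing E) s = stIdem P * algebraMap A (StageRing E) a := by
    ext R
    by_cases hR : R = P
    · subst hR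
      simp only [stIdem, Pi.mul_apply, Pi.single_eq_same, Pi.algebraMap_apply, one_mul]
      exact hs
    · simp [stIdem, hR]
  have k2 : stIdem P * algebraMap A (StageRing E) s *
      (Pi.single P (↑v⁻¹ : Localization (stSub E P.1)) : StageRing E) = stIdem P := by
    ext R
    by_cases hR : R = P
    · subst hR; simp [stIdem, ← hv]
    · simp [stIdem, hR]
  let w : StageRing E := Pi.single P (↑v⁻¹ : Localization (stSub E P.1))
  have k3 : stIdem P * y = stIdem P * algebraMap A (StageRing E) a * w := by
    rw [← k1]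
    conv_lhs => rw [← k2]
    ring
  have k4 : ∀ h : StageRing E →ₐ[A] B, h (stIdem P) * algebraMap A B s * h w = h (stIdem P) := by
    intro h
    rw [← h.commutes, ← map_mul, ← map_mul, k2]
  have hw : f (stIdem P) * f w = g (stIdem P) * g w := by
    have e1 := k4 f
    have e2 := k4 g
    rw [← he] at e2 ⊢
    linear_combination f w * (-e2) + g w * e1
  simp only [k3, map_mul, AlgHom.commutes]
  linear_combination algebraMap A B a * hw

lemma stageGood_comp {E F : Finset A} (h : E ⊆ F) {f : StageRing F →ₐ[A] B} (hf : StageGood f) :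
    StageGood (f.comp (stageMap h)) := by
  classical
  intro m hm P
  let x := PrimeSpectrum.comap (algebraMap A B) m
  have h0 : f (stIdem (patOf F x)) ∉ m.asIdeal := (hf m hm _).2 rfl
  have key : stIdem (patOf F x) * stageMap h (stIdem P) =
      if restrictPat h (patOf F x) = P then stIdem (patOf F x) else 0 := by
    ext R
    by_cases hR : R = patOf F x
    · subst hR
      split_ifs with hP
      · subst hP; simp [stIdem, stageMap_apply]
      · simp [stIdem, stageMap_apply, hP]
    · split_ifs <;> simp [stIdem, hR]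
  have key' := congrArg f key
  rw [map_mul] at key'
  rw [AlgHom.comp_apply, ← restrictPat_patOf h x]
  constructor
  · intro hmem
    by_contra hne
    rw [if_neg hne, map_zero] at key'
    exact (m.isPrime.mem_or_mem (key' ▸ m.asIdeal.zero_mem)).elim h0 hmem
  · intro he hmem
    rw [if_pos he] at key'
    exact h0 (key' ▸ m.asIdeal.mul_mem_left _ hmem)

lemma exists_stageGood (hB : ProEtW.IsWLocal (PrimeSpectrum B)) (E : Finset A) :
    ∃ f : StageRing E →ₐ[A] B, StageGood f := by
  classical
  haveI := Fintype.ofFinite (Pat E)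
  obtain ⟨_, _, _⟩ := isProfinite_closedPoints hB
  let C := ProEtW.closedPoints (PrimeSpectrum B)
  have hcl : ∀ a : A, IsClopen {c : C | a ∈ (PrimeSpectrum.comap (algebraMap A B) c.1).asIdeal} := by
    intro a
    refine ⟨?_, ?_⟩
    · convert (PrimeSpectrum.isClosed_zeroLocus {algebraMap A B a}).preimage
        (continuous_subtype_val (p := (· ∈ C))) using 1
      ext c
      simp
    · rw [← isClosed_compl_iff]
      have hc : IsCompact (Subtype.val ⁻¹'
          (PrimeSpectrum.basicOpen (algebraMap A B a) : Set (PrimeSpectrum B)) : Set C) := by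
        rw [Subtype.isCompact_iff, Subtype.image_preimage_coe]
        exact (PrimeSpectrum.isCompact_basicOpen _).inter_left hB.2.1
      convert hc.isClosed using 1
      ext c; simp
  let U (P : Pat E) : Set C := {c | patOf E (PrimeSpectrum.comap (algebraMap A B) c.1) = P}
  have hU : ∀ P, IsClopen (U P) := by
    intro P
    have : U P = ⋂ a ∈ E, (if a ∈ P.1 then
        {c : C | a ∈ (PrimeSpectrum.comap (algebraMap A B) c.1).asIdeal} else
        {c : C | a ∈ (PrimeSpectrum.comap (algebraMap A B) c.1).asIdeal}ᶜ) := by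
      ext c
      simp only [U, mem_ofPred_eq, mem_iInter]
      constructor
      · rintro rfl a ha
        split_ifs with h
        · exact (mem_stratum_patOf E _ a ha).2 h
        · exact fun h' ↦ h ((mem_stratum_patOf E _ a ha).1 h')
      · intro h
        ext1
        ext a
        simp only [patOf, Finset.mem_filter]
        refine ⟨fun ⟨ha, hm⟩ ↦ ?_, fun ha ↦ ⟨P.2 ha, ?_⟩⟩
        · by_contra hP
          have := h a ha
          rw [if_neg hP] at this
          exact this hm
        · have := h a (P.2 ha)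
          rwa [if_pos ha] at this
    rw [this]
    refine isClopen_biInter_finset fun a _ ↦ ?_
    split_ifs
    · exact hcl a
    · exact (hcl a).compl
  choose e he hVe using fun P ↦ PrimeSpectrum.isClopen_iff.1 (isClopen_retr_preimage hB (hU P))
  have hmem : ∀ (m : PrimeSpectrum B) P, e P ∉ m.asIdeal ↔
      patOf E (PrimeSpectrum.comap (algebraMap A B) (retr hB m)) = P := by
    intro m P
    exact (Set.ext_iff.1 (hVe P) m).symm
  have hmem' : ∀ (m : PrimeSpectrum B), IsClosed ({m} : Set (PrimeSpectrum B)) → ∀ P,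
      e P ∉ m.asIdeal ↔ patOf E (PrimeSpectrum.comap (algebraMap A B) m) = P := by
    intro m hm P
    rw [hmem, retr_eq_self hB hm]
  have hco : CompleteOrthogonalIdempotents e := by
    have ho : OrthogonalIdempotents e := ⟨he, fun P Q hPQ ↦ by
      refine eq_of_forall_maximal ((he P).mul (he Q)) IsIdempotentElem.zero fun m hm ↦ ?_
      simp only [Submodule.zero_mem, not_true, iff_false, not_not]
      by_contra h
      have h1 : e P ∉ m.asIdeal := fun h' ↦ h (m.asIdeal.mul_mem_right _ h')
      have h2 : e Q ∉ m.asIdeal := fun h' ↦ h (m.asIdeal.mul_mem_left _ h')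
      exact hPQ (((hmem' m hm P).1 h1).symm.trans ((hmem' m hm Q).1 h2))⟩
    refine ⟨ho, ?_⟩
    refine eq_of_forall_maximal ho.isIdempotentElem_sum IsIdempotentElem.one fun m hm ↦ ?_
    refine iff_of_true (fun h ↦ ?_) (fun h ↦ m.isPrime.ne_top ((Ideal.eq_top_iff_one _).2 h))
    have h1 := (hmem' m hm _).2 (rfl : patOf E (PrimeSpectrum.comap (algebraMap A B) m) = _)
    refine h1 ?_
    have := m.asIdeal.mul_mem_left (e (patOf E (PrimeSpectrum.comap (algebraMap A B) m))) h
    rwa [Finset.mul_sum, Finset.sum_eq_single _ (fun b _ hb ↦ ho.ortho hb.symm) (by simp),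
      (he _).eq] at this
  let ψ : B →ₐ[A] ∀ P, B ⧸ Ideal.span {1 - e P} := AlgHom.pi fun P ↦ Ideal.Quotient.mkₐ A _
  have hψ : Function.Bijective ψ := hco.bijective_pi
  let Ψ := AlgEquiv.ofBijective ψ hψ
  have hu : ∀ (P : Pat E) (s : stSub E P.1),
      IsUnit (algebraMap A (B ⧸ Ideal.span {1 - e P}) s) := by
    intro P s
    by_contra hs
    obtain ⟨M, hM, hsM⟩ := exists_max_ideal_of_mem_nonunits hs
    let q : PrimeSpectrum B := PrimeSpectrum.comap (Ideal.Quotient.mk _) ⟨M, hM.isPrime⟩
    have hq : IsClosed ({q} : Set (PrimeSpectrum B)) :=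
      (PrimeSpectrum.isClosed_singleton_iff_isMaximal q).2
        (Ideal.comap_isMaximal_of_surjective _ Ideal.Quotient.mk_surjective (H := hM))
    have he1 : e P ∉ q.asIdeal := by
      intro h
      refine hM.ne_top ((Ideal.eq_top_iff_one _).2 ?_)
      have h1 : Ideal.Quotient.mk (Ideal.span {1 - e P}) 1 = Ideal.Quotient.mk _ (e P) :=
        Ideal.Quotient.eq.2 (Ideal.subset_span rfl)
      rw [← map_one (Ideal.Quotient.mk (Ideal.span {1 - e P})), h1]
      exact h
    have hst := mem_stratum_patOf E (PrimeSpectrum.comap (algebraMap A B) q)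
    rw [(hmem' q hq P).1 he1] at hst
    exact s.2 _ hst hsM
  let f : StageRing E →ₐ[A] B := Ψ.symm.toAlgHom.comp (AlgHom.pi fun P ↦
    (IsLocalization.liftAlgHom (M := stSub E P.1) (f := Algebra.ofId A (B ⧸ Ideal.span {1 - e P}))
      (hu P)).comp (Pi.evalAlgHom A (fun P : Pat E ↦ Localization (stSub E P.1)) P))
  have hf : ∀ P, f (stIdem P) = e P := by
    intro P
    apply hψ.1
    change ψ (Ψ.symm _) = _
    rw [show ψ (Ψ.symm _) = _ from Ψ.apply_symm_apply _]
    funext Q
    change IsLocalization.liftAlgHom (M := stSub E Q.1)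
      (f := Algebra.ofId A (B ⧸ Ideal.span {1 - e Q})) (hu Q) (stIdem P Q) =
      Ideal.Quotient.mk _ (e P)
    by_cases hQ : Q = P
    · subst hQ
      rw [stIdem, Pi.single_eq_same, map_one, ← map_one (Ideal.Quotient.mk (Ideal.span {1 - e Q}))]
      exact Ideal.Quotient.eq.2 (Ideal.subset_span rfl)
    · rw [stIdem, Pi.single_eq_of_ne hQ, map_zero, eq_comm, Ideal.Quotient.eq_zero_iff_mem,
        Ideal.mem_span_singleton]
      exact ⟨e P, by rw [sub_mul, one_mul, hco.ortho hQ, sub_zero]⟩
  exact ⟨f, fun m hm P ↦ by rw [hf]; exact hmem' m hm P⟩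

lemma exists_unique_wLoc (hB : ProEtW.IsWLocal (PrimeSpectrum B)) :
    ∃! φ : WLoc A →ₐ[A] B, ProEtW.IsWLocalMap (PrimeSpectrum.comap φ.toRingHom) := by
  classical
  choose f hf using exists_stageGood (A := A) hB
  obtain ⟨φ, hφ⟩ := exists_hom_of_stages f fun {E F} h ↦
    stageGood_unique (stageGood_comp h (hf F)) (hf E)
  refine ⟨φ, ⟨isSpectralMap_comap _, fun m hm ↦ ?_⟩, fun φ' hφ' ↦ ?_⟩
  · rw [isClosed_singleton_iff, exists_zPt_iff]
    intro a
    change φ (ofStage {a} (stIdem _) * algebraMap A (WLoc A) a) ∈ m.asIdeal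
    rw [map_mul, ← AlgHom.comp_apply, hφ, φ.commutes]
    by_cases ha : algebraMap A B a ∈ m.asIdeal
    · exact m.asIdeal.mul_mem_left _ ha
    · refine m.asIdeal.mul_mem_right _ ?_
      by_contra h
      have h2 := mem_stratum_patOf {a} (PrimeSpectrum.comap (algebraMap A B) m) a (by simp)
      rw [(hf {a} m hm _).1 h] at h2
      exact ha (h2.2 (by simp))
  · have hgood : ∀ E, StageGood (φ'.comp (ofStage E)) := by
      intro E m hm P
      obtain ⟨x, hx⟩ := (isClosed_singleton_iff _).1 (hφ'.2 m hm)
      have hxm : PrimeSpectrum.comap (algebraMap A B) m = x := by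
        rw [← comap_zPt x, ← hx, ← PrimeSpectrum.comap_comp_apply]
        congr 1
        exact φ'.comp_algebraMap.symm
      have h1 : φ' (ofStage E (stIdem (patOf E x))) ∉ m.asIdeal := fun h ↦
        not_mem_of_le_zPt E (le_refl (zPt x)) (hx ▸ h)
      rw [AlgHom.comp_apply, hxm]
      refine ⟨fun h ↦ ?_, fun h ↦ h ▸ h1⟩
      exact (component_unique ((zPt x).asIdeal.comap (ofStage E)) (hx ▸ h : _)
        (not_mem_of_le_zPt E le_rfl)).symm
    ext w
    obtain ⟨E, y, rfl⟩ := exists_ofStage w
    rw [← AlgHom.comp_apply, ← AlgHom.comp_apply, hφ, stageGood_unique (hgood E) (hf E)]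

lemma exists_wLocalization_universal (A : Type u) [CommRing A] :
    ∃ (Aw : Type u) (_ : CommRing Aw) (_ : Algebra A Aw),
      Module.FaithfullyFlat A Aw ∧ EtPBC.IsIndZariski A Aw ∧ ProEtW.IsWLocal (PrimeSpectrum Aw) ∧
      ∀ (B : Type u) [CommRing B] [Algebra A B], ProEtW.IsWLocal (PrimeSpectrum B) →
        ∃! φ : Aw →ₐ[A] B, ProEtW.IsWLocalMap (PrimeSpectrum.comap φ.toRingHom) :=
  ⟨WLoc A, inferInstance, inferInstance, faithfullyFlat_wLoc, isIndZariski_wLoc, isWLocal_wLoc,
    fun _ _ _ hB ↦ exists_unique_wLoc hB⟩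

end Groth.Agent.WLocal
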