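import Groth.Agent.Lib.WLocal.IdentIndZar
import Groth.Agent.Lib.WLocal.LocalizeUniv

/-!
Ind-Zariski maps identify local rings; consequences.
-/

open CategoryTheory Limits Set Topology

universe u

namespace Groth.Agent.WLocal

set_option linter.style.haveILetI false
set_option linter.unusedSectionVars false

variable {A B : Type u} [CommRing A] [CommRing B] [Algebra A B]

lemma notMem_of_identity {q : PrimeSpectrum B} {w t : B} {a s : A}
    (hs : algebraMap A B s ∉ q.asIdeal) (ht : t ∉ q.asIdeal) (hw : w ∉ q.asIdeal)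
    (e : t * (algebraMap A B s * w - algebraMap A B a) = 0) : algebraMap A B a ∉ q.asIdeal := by
  intro hmem
  have h3 : t * (algebraMap A B s * w) ∈ q.asIdeal := by
    rw [show t * (algebraMap A B s * w) = t * algebraMap A B a by linear_combination e]
    exact q.asIdeal.mul_mem_left _ hmem
  exact (q.isPrime.mem_or_mem h3).elim ht fun h4 ↦ (q.isPrime.mem_or_mem h4).elim hs hw

lemma identifiesLocalRings_of_isLocalIso [Algebra.IsLocalIso A B] :
    EtPBC.IdentifiesLocalRings A B := by
  intro q
  obtain ⟨g, hg, hstd⟩ :=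
    Algebra.IsLocalIso.exists_notMem_isStandardOpenImmersion (R := A) (S := B) q.asIdeal
  obtain ⟨r, hr⟩ := Algebra.IsStandardOpenImmersion.exists_away A (Localization.Away g)
  have hAC : EtPBC.IdentifiesLocalRings A (Localization.Away g) :=
    identifiesLocalRings_localization (Submonoid.powers r)
  obtain ⟨q', rfl⟩ : q ∈ range (PrimeSpectrum.comap (algebraMap B (Localization.Away g))) := by
    rw [PrimeSpectrum.localization_away_comap_range (Localization.Away g) g]
    exact hg
  refine bijective_lrh (fun a t ht h0 ↦ ?_) fun b ↦ ?_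
  · obtain ⟨u, hu, hua⟩ := lrh_inj (hAC q').1 (a := a) (t := algebraMap B _ t) ht (by
      rw [IsScalarTower.algebraMap_apply A B (Localization.Away g), ← map_mul, h0, map_zero])
    rw [IsScalarTower.algebraMap_apply A B (Localization.Away g)] at hu
    exact ⟨u, hu, hua⟩
  · obtain ⟨a, s, t, hs, ht, e⟩ := lrh_surj (hAC q').2 (algebraMap B _ b)
    obtain ⟨⟨x, w⟩, hx⟩ := IsLocalization.surj (Submonoid.powers g) t
    have h1 : algebraMap B (Localization.Away g)
        (x * (algebraMap A B s * b - algebraMap A B a)) = 0 := by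
      simp only [map_mul, map_sub, ← IsScalarTower.algebraMap_apply A B (Localization.Away g), ← hx]
      linear_combination algebraMap B (Localization.Away g) w * e
    obtain ⟨v, hv⟩ := (IsLocalization.map_eq_zero_iff (Submonoid.powers g) _ _).1 h1
    have hunit : ∀ w : Submonoid.powers g, algebraMap B (Localization.Away g) w ∉ q'.asIdeal :=
      fun w h ↦ q'.isPrime.ne_top
        (Ideal.eq_top_of_isUnit_mem _ h (IsLocalization.map_units (Localization.Away g) w))
    refine ⟨a, s, v * x, ?_, ?_, by rw [mul_assoc]; exact hv⟩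
    · rwa [IsScalarTower.algebraMap_apply A B (Localization.Away g)] at hs
    · change algebraMap B (Localization.Away g) (v * x) ∉ q'.asIdeal
      rw [map_mul, ← hx]
      exact fun h ↦ (q'.isPrime.mem_or_mem h).elim (hunit v)
        fun h ↦ (q'.isPrime.mem_or_mem h).elim ht (hunit w)

lemma identifiesLocalRings_of_isIndZariski (h : EtPBC.IsIndZariski A B) :
    EtPBC.IdentifiesLocalRings A B := by
  obtain ⟨J, _, _, pres, hD⟩ := (isIndZariski_iff_objectProperty B).1 h
  letI : ∀ j, Algebra A (pres.diag.obj j).right := fun j ↦ (pres.diag.obj j).hom.hom.toAlgebra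
  let φ (j : J) : (pres.diag.obj j).right →ₐ[A] B :=
    { ((pres.ι.app j).right.hom : (pres.diag.obj j).right →+* B) with
      commutes' := fun r ↦
        RingHom.congr_fun (congrArg CommRingCat.Hom.hom (Under.w (pres.ι.app j))) r }
  let D' {p q : J} (f : p ⟶ q) : (pres.diag.obj p).right →ₐ[A] (pres.diag.obj q).right :=
    { (pres.diag.map f).right.hom with
      commutes' := fun r ↦
        RingHom.congr_fun (congrArg CommRingCat.Hom.hom (Under.w (pres.diag.map f))) r }
  have hid : ∀ j, EtPBC.IdentifiesLocalRings A (pres.diag.obj j).right := fun j ↦ by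
    haveI : Algebra.IsLocalIso A (pres.diag.obj j).right := hD j
    exact identifiesLocalRings_of_isLocalIso
  intro q
  refine bijective_lrh (fun a t ht h0 ↦ ?_) fun b ↦ ?_
  · obtain ⟨j, t', ht'⟩ := exists_rep pres.isColimit (t : B)
    obtain ⟨k, f, g, hfg⟩ := exists_eq_of_rep pres.isColimit (i := j) (j := j)
      (t' * algebraMap A _ a) 0 (by
        change φ j (t' * algebraMap A _ a) = φ j 0
        rw [map_mul, AlgHom.commutes, map_zero, show φ j t' = t from ht', h0])
    have hfg' : D' f (t' * algebraMap A _ a) = D' g 0 := hfg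
    rw [map_mul, AlgHom.commutes, map_zero] at hfg'
    obtain ⟨u, hu, hua⟩ := lrh_inj (q := PrimeSpectrum.comap (φ k).toRingHom q) (hid k _).1
      (fun hmem ↦ ht (by
        have hk : φ k (D' f t') = t := (app_map (c := pres.cocone) f t').trans ht'
        rw [← hk]; exact hmem)) hfg'
    refine ⟨u, fun hmem ↦ hu ?_, hua⟩
    change φ k (algebraMap A _ u) ∈ q.asIdeal
    rwa [AlgHom.commutes]
  · obtain ⟨j, b', hb'⟩ := exists_rep pres.isColimit (b : B)
    obtain ⟨a, s, t, hs, ht, e⟩ :=
      lrh_surj (q := PrimeSpectrum.comap (φ j).toRingHom q) (hid j _).2 b'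
    refine ⟨a, s, φ j t, fun hmem ↦ hs ?_, ht, ?_⟩
    · change φ j (algebraMap A _ s) ∈ q.asIdeal
      rwa [AlgHom.commutes]
    · have := congrArg (φ j) e
      simp only [map_mul, map_sub, AlgHom.commutes, map_zero, show φ j b' = b from hb'] at this
      exact this

lemma eq_of_generalizations (h : EtPBC.IdentifiesLocalRings A B) {q q' z : PrimeSpectrum B}
    (hq : q.asIdeal ≤ z.asIdeal) (hq' : q'.asIdeal ≤ z.asIdeal)
    (he : PrimeSpectrum.comap (algebraMap A B) q = PrimeSpectrum.comap (algebraMap A B) q') :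
    q = q' := by
  have key : ∀ q q' : PrimeSpectrum B, q.asIdeal ≤ z.asIdeal →
      PrimeSpectrum.comap (algebraMap A B) q = PrimeSpectrum.comap (algebraMap A B) q' →
      q'.asIdeal ≤ z.asIdeal → q'.asIdeal ≤ q.asIdeal := by
    intro q q' hq he hq' w hw
    obtain ⟨a, s, t, hs, ht, e⟩ := lrh_surj (h z).2 w
    have ha : algebraMap A B a ∈ q'.asIdeal := by
      refine (q'.isPrime.mem_or_mem ?_).resolve_left fun h ↦ ht (hq' h)
      rw [show t * algebraMap A B a = t * (algebraMap A B s * w) by linear_combination -e]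
      exact q'.asIdeal.mul_mem_left _ (q'.asIdeal.mul_mem_left _ hw)
    have ha' : algebraMap A B a ∈ q.asIdeal := by
      have : a ∈ (PrimeSpectrum.comap (algebraMap A B) q).asIdeal := he ▸ ha
      exact this
    have h3 : t * (algebraMap A B s * w) ∈ q.asIdeal := by
      rw [show t * (algebraMap A B s * w) = t * algebraMap A B a by linear_combination e]
      exact q.asIdeal.mul_mem_left _ ha'
    exact (q.isPrime.mem_or_mem ((q.isPrime.mem_or_mem h3).resolve_left fun h ↦ ht (hq h))).resolve_left
      fun h ↦ hs (hq h)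
  exact PrimeSpectrum.ext (le_antisymm (key q' q hq' he.symm hq) (key q q' hq he hq'))

lemma identifiesLocalRings_quotient (I : Ideal A) (h : EtPBC.IdentifiesLocalRings A B) :
    letI := (Ideal.quotientMap (I.map (algebraMap A B)) (algebraMap A B)
      Ideal.le_comap_map).toAlgebra
    EtPBC.IdentifiesLocalRings (A ⧸ I) (B ⧸ I.map (algebraMap A B)) := by
  letI := (Ideal.quotientMap (I.map (algebraMap A B)) (algebraMap A B)
    Ideal.le_comap_map).toAlgebra
  intro q
  let p : PrimeSpectrum B := PrimeSpectrum.comap (Ideal.Quotient.mk (I.map (algebraMap A B))) q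
  have key : ∀ x ∈ I.map (algebraMap A B), ∃ (a s : A) (t : B), a ∈ I ∧
      algebraMap A B s ∉ p.asIdeal ∧ t ∉ p.asIdeal ∧
      t * (algebraMap A B s * x - algebraMap A B a) = 0 := by
    intro x hx
    have h1 : (1 : B) ∉ p.asIdeal := fun h ↦ p.isPrime.ne_top ((Ideal.eq_top_iff_one _).2 h)
    induction hx using Submodule.span_induction with
    | mem y hy =>
      obtain ⟨i, hi, rfl⟩ := hy
      exact ⟨i, 1, 1, hi, by rwa [map_one], h1, by rw [map_one]; ring⟩
    | zero => exact ⟨0, 1, 1, I.zero_mem, by rwa [map_one], h1, by rw [map_one, map_zero]; ring⟩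
    | add y z _ _ hy hz =>
      obtain ⟨a, s, t, ha, hs, ht, e⟩ := hy
      obtain ⟨a', s', t', ha', hs', ht', e'⟩ := hz
      refine ⟨a * s' + a' * s, s * s', t * t', I.add_mem (I.mul_mem_right _ ha) (I.mul_mem_right _ ha'),
        ?_, fun h ↦ (p.isPrime.mem_or_mem h).elim ht ht', ?_⟩
      · rw [map_mul]; exact fun h ↦ (p.isPrime.mem_or_mem h).elim hs hs'
      · simp only [map_add, map_mul]
        linear_combination (t' * algebraMap A B s') * e + (t * algebraMap A B s) * e'
    | smul c y _ hy =>
      obtain ⟨a, s, t, ha, hs, ht, e⟩ := hy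
      obtain ⟨a₂, s₂, t₂, hs₂, ht₂, e₂⟩ := lrh_surj (h p).2 c
      refine ⟨a₂ * a, s * s₂, t * t₂, I.mul_mem_left _ ha, ?_,
        fun h ↦ (p.isPrime.mem_or_mem h).elim ht ht₂, ?_⟩
      · rw [map_mul]; exact fun h ↦ (p.isPrime.mem_or_mem h).elim hs hs₂
      · simp only [map_mul, smul_eq_mul]
        linear_combination (t * algebraMap A B s * y) * e₂ + (t₂ * algebraMap A B a₂) * e
  refine bijective_lrh (fun a t ht h0 ↦ ?_) fun b ↦ ?_
  · obtain ⟨a, rfl⟩ := Ideal.Quotient.mk_surjective a
    obtain ⟨t, rfl⟩ := Ideal.Quotient.mk_surjective t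
    have hmem : t * algebraMap A B a ∈ I.map (algebraMap A B) := by
      rw [← Ideal.Quotient.eq_zero_iff_mem, map_mul]
      exact h0
    obtain ⟨a', s, t₁, ha', hs, ht₁, e₁⟩ := key _ hmem
    obtain ⟨a₂, s₂, t₂, hs₂, ht₂, e₂⟩ := lrh_surj (h p).2 t
    have ha₂ : algebraMap A B a₂ ∉ p.asIdeal := notMem_of_identity hs₂ ht₂ ht e₂
    have h2 : t₁ * t₂ * algebraMap A B (s * a₂ * a - s₂ * a') = 0 := by
      simp only [map_sub, map_mul]
      linear_combination (-t₁ * algebraMap A B s * algebraMap A B a) * e₂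
        + (algebraMap A B s₂ * t₂) * e₁
    obtain ⟨u, hu, hua⟩ := lrh_inj (h p).1
      (fun h ↦ (p.isPrime.mem_or_mem h).elim ht₁ ht₂) h2
    refine ⟨Ideal.Quotient.mk I (u * s * a₂), ?_, ?_⟩
    · change algebraMap A B (u * s * a₂) ∉ p.asIdeal
      rw [map_mul, map_mul]
      exact fun h ↦ (p.isPrime.mem_or_mem h).elim
        (fun h ↦ (p.isPrime.mem_or_mem h).elim hu hs) ha₂
    · rw [← map_mul, Ideal.Quotient.eq_zero_iff_mem,
        show u * s * a₂ * a = u * s₂ * a' by linear_combination hua]
      exact I.mul_mem_left _ ha'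
  · obtain ⟨b, rfl⟩ := Ideal.Quotient.mk_surjective b
    obtain ⟨a, s, t, hs, ht, e⟩ := lrh_surj (h p).2 b
    refine ⟨Ideal.Quotient.mk I a, Ideal.Quotient.mk I s, Ideal.Quotient.mk _ t, hs, ht, ?_⟩
    exact ((by simp [map_mul, map_sub]; rfl : _ = Ideal.Quotient.mk (I.map (algebraMap A B))
      (t * (algebraMap A B s * b - algebraMap A B a)))).trans (by rw [e, map_zero])

lemma isWLocal_of_t1 {X : Type u} [TopologicalSpace X] [SpectralSpace X] [T1Space X] :
    ProEtW.IsWLocal X :=
  ⟨inferInstance, by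
    simp only [isClosed_singleton, Set.ofPred_true]
    exact isClosed_univ, fun x ↦ ⟨x, ⟨isClosed_singleton, specializes_rfl⟩, fun y hy ↦ hy.2.eq.symm⟩⟩

lemma exists_wLocal_closedPoints_eq (A : Type u) [CommRing A] (I : Ideal A)
    (hI : ProEtW.IsProfinite (PrimeSpectrum.zeroLocus (R := A) I)) :
    ∃ (B : Type u) (_ : CommRing B) (_ : Algebra A B),
      EtPBC.IsIndZariski A B ∧ ProEtW.IsWLocal (PrimeSpectrum B) ∧
      ProEtW.closedPoints (PrimeSpectrum B) = PrimeSpectrum.zeroLocus (I.map (algebraMap A B)) ∧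
      Function.Bijective (Ideal.quotientMap (I.map (algebraMap A B)) (algebraMap A B)
        Ideal.le_comap_map) := by
  haveI := hI.2.1
  have hW := isWLocal_wLoc (A := A)
  obtain ⟨_, _, _⟩ := isProfinite_closedPoints hW
  haveI : T2Space (_root_.ConnectedComponents (PrimeSpectrum (WLoc A))) :=
    (closedPointsEquiv hW).t2Space
  let Z : Set (PrimeSpectrum (WLoc A)) := ProEtW.closedPoints (PrimeSpectrum (WLoc A)) ∩
    PrimeSpectrum.zeroLocus (I.map (algebraMap A (WLoc A)) : Set (WLoc A))
  have hZ : IsClosed Z := IsClosed.inter hW.2.1 (PrimeSpectrum.isClosed_zeroLocus _)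
  have hT : IsClosed (_root_.ConnectedComponents.mk '' Z) :=
    (hZ.isCompact.image _root_.ConnectedComponents.continuous_coe).isClosed
  obtain ⟨S, hS⟩ := exists_localization_onto_closed _ _ hT
  let c := PrimeSpectrum.comap (algebraMap (WLoc A) (Localization S))
  have hemb : IsClosedEmbedding c :=
    ⟨PrimeSpectrum.localization_comap_isEmbedding _ S, by
      rw [hS]; exact hT.preimage _root_.ConnectedComponents.continuous_coe⟩
  have hcl : ∀ y, IsClosed ({y} : Set (PrimeSpectrum (Localization S))) ↔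
      IsClosed ({c y} : Set (PrimeSpectrum (WLoc A))) := fun y ↦ by
    rw [hemb.isClosed_iff_image_isClosed, image_singleton]
  have hcomap : ∀ y, PrimeSpectrum.comap (algebraMap A (Localization S)) y =
      PrimeSpectrum.comap (algebraMap A (WLoc A)) (c y) := fun y ↦ by
    rw [IsScalarTower.algebraMap_eq A (WLoc A) (Localization S), PrimeSpectrum.comap_comp_apply]
  have hzl : ∀ (C : Type u) [CommRing C] [Algebra A C] (y : PrimeSpectrum C),
      y ∈ PrimeSpectrum.zeroLocus (I.map (algebraMap A C) : Set C) ↔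
        PrimeSpectrum.comap (algebraMap A C) y ∈ PrimeSpectrum.zeroLocus (I : Set A) := by
    intro C _ _ y
    simp only [PrimeSpectrum.mem_zeroLocus, SetLike.coe_subset_coe, PrimeSpectrum.comap_asIdeal]
    exact Ideal.map_le_iff_le_comap
  have hAW : EtPBC.IdentifiesLocalRings A (WLoc A) :=
    identifiesLocalRings_of_isIndZariski isIndZariski_wLoc
  have hkey : ProEtW.closedPoints (PrimeSpectrum (Localization S)) =
      PrimeSpectrum.zeroLocus (I.map (algebraMap A (Localization S)) : Set (Localization S)) := by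
    ext y
    obtain ⟨z, ⟨hz, hzI⟩, hzy⟩ : _root_.ConnectedComponents.mk (c y) ∈
        _root_.ConnectedComponents.mk '' Z := by
      have : c y ∈ range c := mem_range_self y
      rw [hS] at this
      exact this
    have hr : retr hW (c y) = z := by rw [← retr_eq_of_mk_eq hW hzy, retr_eq_self hW hz]
    rw [hzl, hcomap]
    change IsClosed _ ↔ _
    rw [hcl]
    refine ⟨fun h ↦ ?_, fun h ↦ ?_⟩
    · rw [show c y = z from (retr_eq_self hW h).symm.trans hr]
      exact (hzl _ z).1 hzI
    · have hsp : c y ⤳ z := hr ▸ specializes_retr hW (c y)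
      have hsp' : (⟨_, h⟩ : PrimeSpectrum.zeroLocus (I : Set A)) ⤳ ⟨_, (hzl _ z).1 hzI⟩ :=
        (subtype_specializes_iff _ _).2 (hsp.map (PrimeSpectrum.continuous_comap _))
      rw [eq_of_generalizations hAW ((PrimeSpectrum.le_iff_specializes _ _).2 hsp) le_rfl
        (congrArg Subtype.val hsp'.eq)]
      exact hz
  have hrange : range c = _root_.ConnectedComponents.mk ⁻¹' (_root_.ConnectedComponents.mk '' Z) := hS
  refine ⟨Localization S, inferInstance, inferInstance,
    isIndZariski_trans_loc isIndZariski_wLoc S _,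
    isWLocal_of_homeomorph (hemb.isEmbedding.toHomeomorph.trans (Homeomorph.setCongr hrange))
      (isWLocal_of_isClosed hW (hT.preimage _root_.ConnectedComponents.continuous_coe)), hkey, ?_⟩
  have hAB : EtPBC.IdentifiesLocalRings A (Localization S) :=
    identifiesLocalRings_of_tower hAW (identifiesLocalRings_localization S)
  letI := (Ideal.quotientMap (I.map (algebraMap A (Localization S))) (algebraMap A (Localization S))
    Ideal.le_comap_map).toAlgebra
  let JB := I.map (algebraMap A (Localization S))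
  have eA : IsClosedEmbedding (PrimeSpectrum.comap (Ideal.Quotient.mk I)) :=
    PrimeSpectrum.isClosedEmbedding_comap_of_surjective _ _ Ideal.Quotient.mk_surjective
  have eB : IsClosedEmbedding (PrimeSpectrum.comap (Ideal.Quotient.mk JB)) :=
    PrimeSpectrum.isClosedEmbedding_comap_of_surjective _ _ Ideal.Quotient.mk_surjective
  have rA : range (PrimeSpectrum.comap (Ideal.Quotient.mk I)) = PrimeSpectrum.zeroLocus (I : Set A) := by
    rw [_root_.range_comap_of_surjective _ _ Ideal.Quotient.mk_surjective, Ideal.mk_ker]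
  have rB : range (PrimeSpectrum.comap (Ideal.Quotient.mk JB)) =
      PrimeSpectrum.zeroLocus (JB : Set (Localization S)) := by
    rw [_root_.range_comap_of_surjective _ _ Ideal.Quotient.mk_surjective, Ideal.mk_ker]
  haveI : T2Space (PrimeSpectrum (A ⧸ I)) :=
    (eA.isEmbedding.toHomeomorph.trans (Homeomorph.setCongr rA)).symm.t2Space
  haveI : T1Space (PrimeSpectrum (Localization S ⧸ JB)) := ⟨fun q ↦ by
    have hq : IsClosed ({PrimeSpectrum.comap (Ideal.Quotient.mk JB) q} : Set _) := by
      have h1 : PrimeSpectrum.comap (Ideal.Quotient.mk JB) q ∈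
          PrimeSpectrum.zeroLocus (JB : Set (Localization S)) := rB ▸ mem_range_self q
      rw [← hkey] at h1
      exact h1
    rw [eB.isClosed_iff_image_isClosed, image_singleton]
    exact hq⟩
  have hcomm : ∀ q, PrimeSpectrum.comap (Ideal.Quotient.mk I)
      (PrimeSpectrum.comap (algebraMap (A ⧸ I) (Localization S ⧸ JB)) q) =
      PrimeSpectrum.comap (algebraMap A (Localization S))
        (PrimeSpectrum.comap (Ideal.Quotient.mk JB) q) := fun q ↦ rfl
  have hbij : Function.Bijective
      (PrimeSpectrum.comap (algebraMap (A ⧸ I) (Localization S ⧸ JB))) := by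
    refine ⟨fun q q' h ↦ eB.injective (hemb.injective ?_), fun p ↦ ?_⟩
    · have hq : ∀ q, c (PrimeSpectrum.comap (Ideal.Quotient.mk JB) q) ∈
          ProEtW.closedPoints (PrimeSpectrum (WLoc A)) := fun q ↦ by
        have h1 : PrimeSpectrum.comap (Ideal.Quotient.mk JB) q ∈
            PrimeSpectrum.zeroLocus (JB : Set (Localization S)) := rB ▸ mem_range_self q
        rw [← hkey] at h1
        exact (hcl _).1 h1
      refine bijOn_wLoc.2.1 (hq q) (hq q') ?_
      rw [← hcomap, ← hcomap, ← hcomm, ← hcomm, h]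
    · obtain ⟨z, hz, hzp⟩ := bijOn_wLoc.2.2 (mem_univ (PrimeSpectrum.comap (Ideal.Quotient.mk I) p))
      have hzI : z ∈ PrimeSpectrum.zeroLocus (I.map (algebraMap A (WLoc A)) : Set (WLoc A)) := by
        rw [hzl, hzp, ← rA]; exact mem_range_self p
      obtain ⟨y, rfl⟩ : z ∈ range c := hrange ▸ mem_image_of_mem _ (⟨hz, hzI⟩ : z ∈ Z)
      obtain ⟨q, rfl⟩ : y ∈ range (PrimeSpectrum.comap (Ideal.Quotient.mk JB)) := by
        rw [rB, ← hkey]; exact (hcl y).2 hz
      exact ⟨q, eA.injective (by rw [hcomm, hcomap, hzp])⟩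
  let hom := Continuous.homeoOfEquivCompactToT2 (f := Equiv.ofBijective _ hbij)
    (PrimeSpectrum.continuous_comap _)
  exact bijective_of_identifies_wLocal (identifiesLocalRings_quotient I hAB) isWLocal_of_t1
    isWLocal_of_t1 ⟨isSpectralMap_comap _, fun _ _ ↦ isClosed_singleton⟩
    (congrComponents hom).bijective

lemma exists_indZariski_enlargement (A B : Type u) [CommRing A] [CommRing B] [Algebra A B]
    (h : EtPBC.IdentifiesLocalRings A B) :
    ∃ (B' : Type u) (_ : CommRing B') (_ : Algebra B B') (_ : Algebra A B') (_ : IsScalarTower A B B'),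
      Module.FaithfullyFlat B B' ∧ EtPBC.IsIndZariski B B' ∧ EtPBC.IsIndZariski A B' := by
  letI : Algebra A (WLoc B) := ((algebraMap B (WLoc B)).comp (algebraMap A B)).toAlgebra
  haveI : IsScalarTower A B (WLoc B) := IsScalarTower.of_algebraMap_eq fun _ ↦ rfl
  obtain ⟨φ, hφ, -⟩ := exists_unique_wLoc (A := A) (B := WLoc B) isWLocal_wLoc
  letI : Algebra (WLoc A) (WLoc B) := φ.toRingHom.toAlgebra
  haveI : IsScalarTower A (WLoc A) (WLoc B) :=
    IsScalarTower.of_algebraMap_eq fun r ↦ (φ.commutes r).symm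
  have hV : EtPBC.IdentifiesLocalRings A (WLoc B) :=
    identifiesLocalRings_of_tower h (identifiesLocalRings_of_isIndZariski isIndZariski_wLoc)
  exact ⟨WLoc B, inferInstance, inferInstance, inferInstance, inferInstance, faithfullyFlat_wLoc,
    isIndZariski_wLoc,
    isIndZariski_base_of_identifies_wLocal (isIndZariski_wLoc (A := A))
      (identifiesLocalRings_cancel (identifiesLocalRings_of_isIndZariski isIndZariski_wLoc) hV)
      isWLocal_wLoc isWLocal_wLoc hφ⟩

end Groth.Agent.WLocal
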