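import Groth.Agent.Lib.WLocal.FPable
import Mathlib.RingTheory.Localization.Away.Basic
import Mathlib.Algebra.Category.Ring.Under.Basic

/-!
A localization is the filtered colimit of the localizations away from single elements.
-/

open CategoryTheory Limits

universe u

namespace Groth.Agent.WLocal

set_option linter.style.haveILetI false

variable {A : Type u} [CommRing A] (S : Submonoid A)

/-- The index set, ordered by divisibility inside the submonoid. -/
def LocIdx : Type u := S

/-- The element of an index. -/
abbrev el {S : Submonoid A} (g : LocIdx S) : S := g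

instance : Preorder (LocIdx S) where
  le g h := ∃ k ∈ S, (el h).1 = (el g).1 * k
  le_refl g := ⟨1, S.one_mem, (mul_one _).symm⟩
  le_trans g h i := by
    rintro ⟨k, hk, e⟩ ⟨k', hk', e'⟩
    exact ⟨k * k', S.mul_mem hk hk', by rw [e', e, mul_assoc]⟩

instance : Nonempty (LocIdx S) := ⟨(1 : S)⟩

instance : IsDirected (LocIdx S) (· ≤ ·) where
  directed g h := ⟨(el g * el h : S),
    ⟨(el h).1, (el h).2, rfl⟩, ⟨(el g).1, (el g).2, mul_comm _ _⟩⟩

variable {S}

/-- The transition maps. -/
noncomputable def locMap {g h : LocIdx S} (hgh : g ≤ h) :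
    Localization.Away (el g).1 →ₐ[A] Localization.Away (el h).1 :=
  { IsLocalization.Away.lift (el g).1 (g := algebraMap A (Localization.Away (el h).1)) (by
      obtain ⟨k, -, e⟩ := hgh
      have := IsLocalization.Away.algebraMap_isUnit (S := Localization.Away (el h).1) (el h).1
      exact isUnit_of_mul_isUnit_left (by rwa [← map_mul, ← e])) with
    commutes' := fun a ↦ IsLocalization.Away.lift_eq _ _ a }

variable (S)

lemma awayHom_ext {g : A} {T : Type u} [CommRing T] [Algebra A T]
    (φ ψ : Localization.Away g →ₐ[A] T) : φ = ψ :=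
  AlgHom.coe_ringHom_injective (IsLocalization.ringHom_ext (Submonoid.powers g)
    ((φ.comp_algebraMap).trans (ψ.comp_algebraMap).symm))

/-- The diagram of the `A_g`. -/
noncomputable def locDiag : LocIdx S ⥤ Under (CommRingCat.of A) where
  obj g := (CommRingCat.of A).mkUnder (Localization.Away (el g).1)
  map h := (locMap (leOfHom h)).toUnder
  map_id g := by
    rw [awayHom_ext (locMap (leOfHom (𝟙 g))) (AlgHom.id A _)]; rfl
  map_comp {g h i} f f' := by
    rw [awayHom_ext (locMap (leOfHom (f ≫ f')))
      ((locMap (leOfHom f')).comp (locMap (leOfHom f)))]; rfl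

variable (B : Type u) [CommRing B] [Algebra A B] [IsLocalization S B]

/-- The map to the localization. -/
noncomputable def locLeg (g : LocIdx S) : Localization.Away (el g).1 →ₐ[A] B :=
  { IsLocalization.Away.lift (el g).1 (g := algebraMap A B)
      (IsLocalization.map_units B (el g)) with
    commutes' := fun a ↦ IsLocalization.Away.lift_eq _ _ a }

/-- The cocone. -/
noncomputable def locCocone : Cocone (locDiag S) where
  pt := (CommRingCat.of A).mkUnder B
  ι :=
    { app g := AlgHom.toUnder (R := CommRingCat.of A) (A := Localization.Away (el g).1) (B := B) (locLeg S B g)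
      naturality g h f := by
        change AlgHom.toUnder (R := CommRingCat.of A) (A := Localization.Away (el g).1) (B := Localization.Away (el h).1) (locMap (leOfHom f)) ≫
            AlgHom.toUnder (R := CommRingCat.of A) (A := Localization.Away (el h).1) (B := B) (locLeg S B h) =
          AlgHom.toUnder (R := CommRingCat.of A) (A := Localization.Away (el g).1) (B := B) (locLeg S B g) ≫ 𝟙 _
        rw [Category.comp_id, awayHom_ext (locLeg S B g) ((locLeg S B h).comp (locMap (leOfHom f)))]
        rfl }

/-- A localization is the colimit of the `A_g`. -/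
noncomputable def locIsColimit : IsColimit (locCocone S B) := by
  refine isColimitUnderOfExists _ (fun x ↦ ?_) (fun g y y' h ↦ ?_)
  · change B at x
    obtain ⟨⟨a, s⟩, rfl⟩ := IsLocalization.mk'_surjective S x
    refine ⟨s, IsLocalization.mk' (Localization.Away s.1) a ⟨s.1, Submonoid.mem_powers s.1⟩, ?_⟩
    change locLeg S B s _ = _
    rw [IsLocalization.eq_mk'_iff_mul_eq]
    rw [← (locLeg S B s).commutes, ← (locLeg S B s).commutes, ← map_mul]
    congr 1
    exact IsLocalization.mk'_spec _ _ _
  · change Localization.Away (el g).1 at y y'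
    change locLeg S B g y = locLeg S B g y' at h
    obtain ⟨⟨a, _, n, rfl⟩, e₁⟩ := IsLocalization.surj (Submonoid.powers (el g).1) y
    obtain ⟨⟨b, _, m, rfl⟩, e₂⟩ := IsLocalization.surj (Submonoid.powers (el g).1) y'
    simp only at e₁ e₂
    have hB : algebraMap A B (a * (el g).1 ^ m) = algebraMap A B (b * (el g).1 ^ n) := by
      have f₁ := congrArg (locLeg S B g) e₁
      have f₂ := congrArg (locLeg S B g) e₂
      simp only [map_mul, AlgHom.commutes] at f₁ f₂
      rw [map_mul, map_mul, ← f₁, ← f₂, h]
      ring
    obtain ⟨c, hc⟩ := (IsLocalization.eq_iff_exists S B).1 hB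
    let k : LocIdx S := (el g * c : S)
    have hgk : g ≤ k := ⟨c.1, c.2, rfl⟩
    refine ⟨k, homOfLE hgk, ?_⟩
    change locMap hgk y = locMap hgk y'
    have hu : IsUnit (algebraMap A (Localization.Away (el k).1) ((el g).1 * c.1)) :=
      IsLocalization.Away.algebraMap_isUnit (S := Localization.Away (el k).1) (el k).1
    rw [map_mul, IsUnit.mul_iff] at hu
    have f₁ := congrArg (locMap hgk) e₁
    have f₂ := congrArg (locMap hgk) e₂
    simp only [map_mul, AlgHom.commutes] at f₁ f₂
    have hc' := congrArg (algebraMap A (Localization.Away (el k).1)) hc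
    simp only [map_mul, ← f₁, ← f₂] at hc'
    apply ((hu.1.pow n).mul ((hu.1.pow m).mul hu.2)).mul_left_cancel
    simp only [← map_pow]
    linear_combination hc'

end Groth.Agent.WLocal
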