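import Groth.Agent.Lib.WLocal.Colim
import Groth.Agent.Lib.WLocal.LocColim
import Groth.Agent.Lib.WLocal.Spec
import Mathlib.RingTheory.LocalIso

/-!
The w-localization of a ring: the colimit over finite subsets of the products of localizations at
the strata they cut out.
-/

open CategoryTheory Limits Set

universe u

namespace Groth.Agent.WLocal

set_option linter.style.haveILetI false
set_option linter.unusedSectionVars false

variable {A : Type u} [CommRing A]

/-- The stratum of a finite pattern. -/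
def stratum (E E'' : Finset A) : Set (PrimeSpectrum A) :=
  {z | ∀ f ∈ E, f ∈ z.asIdeal ↔ f ∈ E''}

/-- Elements vanishing nowhere on a stratum. -/
def stSub (E E'' : Finset A) : Submonoid A where
  carrier := {g | ∀ z ∈ stratum E E'', g ∉ z.asIdeal}
  one_mem' := fun z _ ↦ z.asIdeal.ne_top_iff_one.1 z.isPrime.ne_top
  mul_mem' := fun ha hb z hz hab ↦ (z.isPrime.mem_or_mem hab).elim (ha z hz) (hb z hz)

/-- Patterns on a finite set. -/
abbrev Pat (E : Finset A) := {E'' : Finset A // E'' ⊆ E}

instance (E : Finset A) : Finite (Pat E) :=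
  Finite.of_injective (fun P : Pat E ↦ (⟨P.1, Finset.mem_powerset.2 P.2⟩ : E.powerset))
    fun _ _ h ↦ Subtype.ext (congrArg (fun t : E.powerset ↦ t.1) h)

/-- One stage of the w-localization. -/
abbrev StageRing (E : Finset A) : Type u := ∀ P : Pat E, Localization (stSub E P.1)

open Classical in
/-- Restriction of patterns. -/
noncomputable def restrictPat {E F : Finset A} (_h : E ⊆ F) (P : Pat F) : Pat E :=
  ⟨P.1.filter (· ∈ E), fun _ hx ↦ (Finset.mem_filter.1 hx).2⟩

lemma stratum_mono {E F : Finset A} (h : E ⊆ F) (P : Pat F) :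
    stratum F P.1 ⊆ stratum E (restrictPat h P).1 := by
  classical
  intro z hz f hf
  rw [hz f (h hf), restrictPat, Finset.mem_filter]
  exact ⟨fun h' ↦ ⟨h', hf⟩, fun h' ↦ h'.1⟩

lemma stSub_mono {E F : Finset A} (h : E ⊆ F) (P : Pat F) :
    stSub E (restrictPat h P).1 ≤ stSub F P.1 := fun _ hg z hz ↦ hg z (stratum_mono h P hz)

/-- Transition maps. -/
noncomputable def stageMap {E F : Finset A} (h : E ⊆ F) : StageRing E →ₐ[A] StageRing F :=
  AlgHom.pi fun P : Pat F ↦
    (IsLocalization.liftAlgHom (M := stSub E (restrictPat h P).1)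
      (f := Algebra.ofId A (Localization (stSub F P.1)))
      fun s ↦ IsLocalization.map_units _ (⟨s.1, stSub_mono h P s.2⟩ : stSub F P.1)).comp
    (Pi.evalAlgHom A (fun Q : Pat E ↦ Localization (stSub E Q.1)) (restrictPat h P))

lemma stageMap_apply {E F : Finset A} (h : E ⊆ F) (x : StageRing E) (P : Pat F) :
    stageMap h x P = (IsLocalization.liftAlgHom (M := stSub E (restrictPat h P).1)
      (f := Algebra.ofId A (Localization (stSub F P.1)))
      fun s ↦ IsLocalization.map_units _ (⟨s.1, stSub_mono h P s.2⟩ : stSub F P.1))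
      (x (restrictPat h P)) := rfl

lemma locHom_ext {S : Submonoid A} {T : Type u} [CommRing T] [Algebra A T]
    (φ ψ : Localization S →ₐ[A] T) : φ = ψ :=
  AlgHom.coe_ringHom_injective (IsLocalization.ringHom_ext S
    ((φ.comp_algebraMap).trans (ψ.comp_algebraMap).symm))

lemma eval_congr {E : Finset A} {T : Type u} [CommRing T] [Algebra A T] {Q Q' : Pat E} (h : Q = Q')
    (φ : Localization (stSub E Q.1) →ₐ[A] T) (ψ : Localization (stSub E Q'.1) →ₐ[A] T)
    (x : StageRing E) : φ (x Q) = ψ (x Q') := by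
  subst h
  exact AlgHom.congr_fun (locHom_ext φ ψ) _

lemma stageMap_id (E : Finset A) : stageMap (subset_refl E) = AlgHom.id A (StageRing E) := by
  classical
  ext x P
  obtain ⟨P, hP⟩ := P
  have hr : restrictPat (subset_refl E) ⟨P, hP⟩ = ⟨P, hP⟩ := by
    ext1
    exact Finset.filter_true_of_mem fun a ha ↦ hP ha
  exact Eq.trans (stageMap_apply _ x ⟨P, hP⟩) (eval_congr hr _ (AlgHom.id A _) x)

lemma stageMap_comp {E F G : Finset A} (h : E ⊆ F) (h' : F ⊆ G) :
    (stageMap h').comp (stageMap h) = stageMap (h.trans h') := by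
  classical
  ext x P
  have hr : restrictPat h (restrictPat h' P) = restrictPat (h.trans h') P := by
    ext1
    ext a
    simp only [restrictPat, Finset.mem_filter]
    exact ⟨fun h1 ↦ ⟨h1.1.1, h1.2⟩, fun h1 ↦ ⟨⟨h1.1, h h1.2⟩, h1.2⟩⟩
  rw [AlgHom.comp_apply, stageMap_apply, stageMap_apply, stageMap_apply]
  rw [← AlgHom.comp_apply]
  exact eval_congr hr _ _ x

variable (A)

/-- The diagram of stages. -/
noncomputable def wDiag : Finset A ⥤ Under (CommRingCat.of A) where
  obj E := (CommRingCat.of A).mkUnder (StageRing E)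
  map h := AlgHom.toUnder (R := CommRingCat.of A) (stageMap (leOfHom h))
  map_id E := by
    rw [show stageMap (leOfHom (𝟙 E)) = AlgHom.id A _ from stageMap_id E]
    rfl
  map_comp f g := by
    rw [show stageMap (leOfHom (f ≫ g)) = (stageMap (leOfHom g)).comp (stageMap (leOfHom f)) from
      (stageMap_comp (leOfHom f) (leOfHom g)).symm]
    rfl

/-- The w-localization. -/
abbrev WLoc : Type u := (colimit.cocone (wDiag A)).pt.right

noncomputable instance : Algebra A (WLoc A) := (colimit.cocone (wDiag A)).pt.hom.hom.toAlgebra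

variable {A}

/-- The map from a stage. -/
noncomputable def ofStage (E : Finset A) : StageRing E →ₐ[A] WLoc A :=
  { ((colimit.cocone (wDiag A)).ι.app E).right.hom with
    commutes' := fun a ↦ RingHom.congr_fun
      (congrArg CommRingCat.Hom.hom (Under.w ((colimit.cocone (wDiag A)).ι.app E))) a }

lemma ofStage_stageMap {E F : Finset A} (h : E ⊆ F) (x : StageRing E) :
    ofStage F (stageMap h x) = ofStage E x :=
  app_map (D := wDiag A) (c := colimit.cocone (wDiag A)) (homOfLE h) x

lemma exists_ofStage (x : WLoc A) : ∃ (E : Finset A) (y : StageRing E), ofStage E y = x :=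
  exists_rep (colimit.isColimit (wDiag A)) x

lemma exists_hom_of_stages {T : Type u} [CommRing T] [Algebra A T]
    (f : ∀ E : Finset A, StageRing E →ₐ[A] T)
    (hf : ∀ {E F : Finset A} (h : E ⊆ F), (f F).comp (stageMap h) = f E) :
    ∃ φ : WLoc A →ₐ[A] T, ∀ E, φ.comp (ofStage E) = f E := by
  let c : Cocone (wDiag A) :=
    { pt := (CommRingCat.of A).mkUnder T
      ι := { app E := AlgHom.toUnder (R := CommRingCat.of A) (A := StageRing E) (B := T) (f E)
             naturality E F h := by
              refine Eq.trans ?_ (Category.comp_id _).symm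
              ext x
              exact AlgHom.congr_fun (hf (leOfHom h)) x } }
  let u := (colimit.isColimit (wDiag A)).desc c
  exact ⟨{ u.right.hom with
    commutes' := fun a ↦ RingHom.congr_fun (congrArg CommRingCat.Hom.hom (Under.w u)) a },
    fun E ↦ AlgHom.ext fun x ↦ RingHom.congr_fun
      (congrArg (fun t ↦ CommRingCat.Hom.hom (Under.Hom.right t))
        ((colimit.isColimit (wDiag A)).fac c E)) x⟩

open Classical in
/-- The pattern of a prime. -/
noncomputable def patOf (E : Finset A) (x : PrimeSpectrum A) : Pat E :=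
  ⟨E.filter (· ∈ x.asIdeal), Finset.filter_subset _ _⟩

lemma mem_stratum_patOf (E : Finset A) (x : PrimeSpectrum A) : x ∈ stratum E (patOf E x).1 := by
  classical
  intro f hf
  rw [patOf, Finset.mem_filter]
  exact ⟨fun h ↦ ⟨hf, h⟩, fun h ↦ h.2⟩

lemma restrictPat_patOf {E F : Finset A} (h : E ⊆ F) (x : PrimeSpectrum A) :
    restrictPat h (patOf F x) = patOf E x := by
  classical
  ext1
  ext a
  simp only [restrictPat, patOf, Finset.mem_filter]
  exact ⟨fun h1 ↦ ⟨h1.2, h1.1.2⟩, fun h1 ↦ ⟨⟨h h1.1, h1.2⟩, h1.1⟩⟩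

/-- The idempotent of a pattern. -/
noncomputable def stIdem {E : Finset A} (P : Pat E) : StageRing E := by
  classical exact Pi.single P 1

lemma exists_component {E : Finset A} (q : Ideal (StageRing E)) [q.IsPrime] :
    ∃ P : Pat E, stIdem P ∉ q := by
  classical
  haveI := Fintype.ofFinite (Pat E)
  by_contra h
  simp only [not_exists, not_not] at h
  refine Ideal.IsPrime.ne_top ‹_› ((Ideal.eq_top_iff_one _).2 ?_)
  rw [← Finset.univ_sum_single (1 : StageRing E)]
  exact Ideal.sum_mem _ fun P _ ↦ h P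

lemma component_unique {E : Finset A} (q : Ideal (StageRing E)) [q.IsPrime] {P Q : Pat E}
    (hP : stIdem P ∉ q) (hQ : stIdem Q ∉ q) : P = Q := by
  classical
  by_contra h
  have : stIdem P * stIdem Q ∈ q := by
    rw [show stIdem P * stIdem Q = 0 by
      ext R
      by_cases hR : R = P
      · subst hR; simp [stIdem, h]
      · simp [stIdem, hR]]
    exact q.zero_mem
  exact (‹q.IsPrime›.mem_or_mem this).elim hP hQ

/-- A prime of a stage avoids the submonoid of its component. -/
lemma not_mem_of_component {E : Finset A} (q : Ideal (StageRing E)) [q.IsPrime] {P : Pat E}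
    (hP : stIdem P ∉ q) {g : A} (hg : g ∈ stSub E P.1) :
    algebraMap A (StageRing E) g ∉ q := by
  classical
  intro hgq
  refine hP ?_
  obtain ⟨u, hu⟩ := (IsLocalization.map_units (Localization (stSub E P.1)) (⟨g, hg⟩ : stSub E P.1))
  rw [show stIdem P = (Pi.single P (↑u⁻¹ : Localization (stSub E P.1)) : StageRing E) *
      algebraMap A (StageRing E) g by
    ext R
    by_cases hR : R = P
    · subst hR; simp [stIdem, ← hu]
    · simp [stIdem, hR]]
  exact q.mul_mem_left _ hgq

lemma stratum_nonempty_of_component {E : Finset A} (q : Ideal (StageRing E)) [q.IsPrime]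
    {P : Pat E} (hP : stIdem P ∉ q) : ∃ z, z ∈ stratum E P.1 := by
  by_contra h
  simp only [not_exists] at h
  exact not_mem_of_component q hP (g := 0) (fun z hz ↦ (h z hz).elim) (by simp)

/-- The map to the localization at a point. -/
noncomputable def toPoint (x : PrimeSpectrum A) (E : Finset A) :
    StageRing E →ₐ[A] Localization.AtPrime x.asIdeal :=
  (IsLocalization.liftAlgHom (M := stSub E (patOf E x).1)
    (f := Algebra.ofId A (Localization.AtPrime x.asIdeal)) fun s ↦
      IsLocalization.map_units _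
        (⟨s.1, s.2 x (mem_stratum_patOf E x)⟩ : x.asIdeal.primeCompl)).comp
    (Pi.evalAlgHom A (fun P : Pat E ↦ Localization (stSub E P.1)) (patOf E x))

lemma exists_point (x : PrimeSpectrum A) :
    ∃ z : PrimeSpectrum (WLoc A), PrimeSpectrum.comap (algebraMap A (WLoc A)) z = x ∧
      ∀ (E : Finset A) (q : PrimeSpectrum (WLoc A)), q ≤ z →
        ofStage E (stIdem (patOf E x)) ∉ q.asIdeal := by
  classical
  obtain ⟨φ, hφ⟩ := exists_hom_of_stages (fun E ↦ toPoint x E) fun {E F} h ↦ by
    ext y
    rw [AlgHom.comp_apply]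
    simp only [toPoint, AlgHom.comp_apply, Pi.evalAlgHom_apply, stageMap_apply]
    rw [← AlgHom.comp_apply]
    exact eval_congr (restrictPat_patOf h x) _ _ y
  refine ⟨PrimeSpectrum.comap φ.toRingHom (IsLocalRing.closedPoint _), ?_, fun E q hq he ↦ ?_⟩
  · rw [← PrimeSpectrum.comap_comp_apply, AlgHom.toRingHom_eq_coe, φ.comp_algebraMap]
    ext1
    exact IsLocalization.AtPrime.under_maximalIdeal (Localization.AtPrime x.asIdeal) x.asIdeal
  · have h1 := hq he
    rw [PrimeSpectrum.comap_asIdeal, Ideal.mem_comap] at h1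
    refine (IsLocalRing.closedPoint (Localization.AtPrime x.asIdeal)).isPrime.ne_top
      ((Ideal.eq_top_iff_one _).2 ?_)
    have h2 : φ (ofStage E (stIdem (patOf E x))) = 1 := by
      rw [← AlgHom.comp_apply, hφ]
      simp [toPoint, stIdem]
    exact h2 ▸ h1

/-- The closed point over a point. -/
noncomputable def zPt (x : PrimeSpectrum A) : PrimeSpectrum (WLoc A) := (exists_point x).choose

lemma comap_zPt (x : PrimeSpectrum A) : PrimeSpectrum.comap (algebraMap A (WLoc A)) (zPt x) = x :=
  (exists_point x).choose_spec.1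

lemma not_mem_of_le_zPt (E : Finset A) {x : PrimeSpectrum A} {q : PrimeSpectrum (WLoc A)}
    (h : q ≤ zPt x) : ofStage E (stIdem (patOf E x)) ∉ q.asIdeal :=
  (exists_point x).choose_spec.2 E q h

/-- Every prime lies below the closed point over some point. -/
lemma exists_le_zPt (q : PrimeSpectrum (WLoc A)) : ∃ x, q ≤ zPt x := by
  classical
  let qE (E : Finset A) : Ideal (StageRing E) := q.asIdeal.comap (ofStage E)
  choose P hP using fun E ↦ exists_component (qE E)
  have hstr : ∀ E, ∃ z, z ∈ stratum E (P E).1 := fun E ↦ stratum_nonempty_of_component (qE E) (hP E)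
  have hcompat : ∀ {E F : Finset A} (h : E ⊆ F), restrictPat h (P F) = P E := by
    intro E F h
    refine component_unique (qE E) ?_ (hP E)
    intro hmem
    have hmem' : stageMap h (stIdem (restrictPat h (P F))) ∈ qE F := by
      change ofStage F _ ∈ q.asIdeal
      rw [ofStage_stageMap]
      exact hmem
    refine hP F ?_
    rw [show stIdem (P F) = stIdem (P F) * stageMap h (stIdem (restrictPat h (P F))) by
      ext R
      by_cases hR : R = P F
      · subst hR; simp [stIdem, stageMap_apply]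
      · simp [stIdem, hR]]
    exact (qE F).mul_mem_left _ hmem'
  let T : Set A := {a | a ∈ (P {a}).1}
  have hT : ∀ (E : Finset A) (z : PrimeSpectrum A), z ∈ stratum E (P E).1 →
      ∀ a ∈ E, (a ∈ T ↔ a ∈ z.asIdeal) := by
    intro E z hz a ha
    rw [hz a ha]
    change a ∈ (P {a}).1 ↔ _
    rw [← hcompat (Finset.singleton_subset_iff.2 ha), restrictPat, Finset.mem_filter]
    simp
  let I : Ideal A :=
    { carrier := T
      zero_mem' := by
        obtain ⟨z, hz⟩ := hstr {0}
        exact (hT _ z hz 0 (by simp)).2 z.asIdeal.zero_mem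
      add_mem' := fun {a b} ha hb ↦ by
        obtain ⟨z, hz⟩ := hstr {a, b, a + b}
        exact (hT _ z hz _ (by simp)).2 (z.asIdeal.add_mem ((hT _ z hz a (by simp)).1 ha)
          ((hT _ z hz b (by simp)).1 hb))
      smul_mem' := fun r a ha ↦ by
        obtain ⟨z, hz⟩ := hstr {a, r * a}
        exact (hT _ z hz _ (by simp)).2 (z.asIdeal.mul_mem_left r ((hT _ z hz a (by simp)).1 ha)) }
  have hI : I.IsPrime := by
    constructor
    · rw [Ideal.ne_top_iff_one]
      intro h1
      obtain ⟨z, hz⟩ := hstr {1}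
      exact z.isPrime.ne_top ((Ideal.eq_top_iff_one _).2 ((hT _ z hz 1 (by simp)).1 h1))
    · intro a b hab
      obtain ⟨z, hz⟩ := hstr {a, b, a * b}
      exact (z.isPrime.mem_or_mem ((hT _ z hz _ (by simp)).1 hab)).imp
        (hT _ z hz a (by simp)).2 (hT _ z hz b (by simp)).2
  let x : PrimeSpectrum A := ⟨I, hI⟩
  have hPx : ∀ E, P E = patOf E x := fun E ↦ by
    obtain ⟨z, hz⟩ := hstr E
    ext1
    ext a
    simp only [patOf, Finset.mem_filter]
    exact ⟨fun ha ↦ ⟨(P E).2 ha, (hT E z hz a ((P E).2 ha)).2 ((hz a ((P E).2 ha)).2 ha)⟩,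
      fun ha ↦ (hz a ha.1).1 ((hT E z hz a ha.1).1 ha.2)⟩
  refine ⟨x, fun w hw ↦ ?_⟩
  obtain ⟨E, y, rfl⟩ := exists_ofStage w
  obtain ⟨⟨a, s⟩, hs⟩ := IsLocalization.surj (stSub E (patOf E x).1) (y (patOf E x))
  have key : stIdem (patOf E x) * algebraMap A (StageRing E) a =
      stIdem (patOf E x) * algebraMap A (StageRing E) s * y := by
    ext R
    by_cases hR : R = patOf E x
    · subst hR; simp only [stIdem, Pi.mul_apply, Pi.single_eq_same, Pi.algebraMap_apply, one_mul]; rw [← hs, mul_comm]
    · simp [stIdem, hR]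
  have he : ofStage E (stIdem (patOf E x)) ∉ q.asIdeal := by
    rw [← hPx]; exact hP E
  have ha : algebraMap A (WLoc A) a ∈ q.asIdeal := by
    have h' := congrArg (ofStage E) key
    simp only [map_mul, AlgHom.commutes] at h'
    refine (q.isPrime.mem_or_mem ?_).resolve_left he
    rw [h']
    exact q.asIdeal.mul_mem_left _ hw
  have hax : a ∈ x.asIdeal := by
    change a ∈ (P {a}).1
    by_contra hna
    refine not_mem_of_component (qE {a}) (hP {a}) (g := a) ?_ ?_
    · intro z hz haz
      exact hna ((hz a (by simp)).1 haz)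
    · change ofStage {a} (algebraMap A (StageRing {a}) a) ∈ q.asIdeal
      rwa [AlgHom.commutes]
  have h' := congrArg (ofStage E) key
  simp only [map_mul, AlgHom.commutes] at h'
  have hz : ofStage E (stIdem (patOf E x)) * algebraMap A (WLoc A) a ∈ (zPt x).asIdeal := by
    refine Ideal.mul_mem_left _ _ ?_
    change a ∈ (PrimeSpectrum.comap (algebraMap A (WLoc A)) (zPt x)).asIdeal
    rwa [comap_zPt]
  rw [h'] at hz
  refine ((zPt x).isPrime.mem_or_mem hz).resolve_left fun h1 ↦
    ((zPt x).isPrime.mem_or_mem h1).elim (not_mem_of_le_zPt E le_rfl) fun h2 ↦ ?_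
  have h3 : (s : A) ∈ (PrimeSpectrum.comap (algebraMap A (WLoc A)) (zPt x)).asIdeal := h2
  rw [comap_zPt] at h3
  exact s.2 x (mem_stratum_patOf E x) h3

lemma zPt_unique {q : PrimeSpectrum (WLoc A)} {x x' : PrimeSpectrum A} (h : q ≤ zPt x)
    (h' : q ≤ zPt x') : x = x' := by
  classical
  have key : ∀ a, a ∈ x.asIdeal → a ∈ x'.asIdeal := by
    intro a ha
    have h1 : patOf {a} x = patOf {a} x' :=
      component_unique (q.asIdeal.comap (ofStage {a})) (not_mem_of_le_zPt {a} h)
        (not_mem_of_le_zPt {a} h')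
    exact (mem_stratum_patOf {a} x' a (by simp)).2
      (h1 ▸ (mem_stratum_patOf {a} x a (by simp)).1 ha)
  have key' : ∀ a, a ∈ x'.asIdeal → a ∈ x.asIdeal := by
    intro a ha
    have h1 : patOf {a} x = patOf {a} x' :=
      component_unique (q.asIdeal.comap (ofStage {a})) (not_mem_of_le_zPt {a} h)
        (not_mem_of_le_zPt {a} h')
    exact (mem_stratum_patOf {a} x a (by simp)).2
      (h1.symm ▸ (mem_stratum_patOf {a} x' a (by simp)).1 ha)
  exact PrimeSpectrum.ext (le_antisymm key key')

lemma isClosed_singleton_iff (q : PrimeSpectrum (WLoc A)) :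
    IsClosed ({q} : Set (PrimeSpectrum (WLoc A))) ↔ ∃ x, q = zPt x := by
  rw [PrimeSpectrum.isClosed_singleton_iff_isMaximal]
  constructor
  · intro hq
    obtain ⟨x, hx⟩ := exists_le_zPt q
    exact ⟨x, PrimeSpectrum.ext (hq.eq_of_le (zPt x).isPrime.ne_top hx)⟩
  · rintro ⟨x, rfl⟩
    obtain ⟨M, hM, hle⟩ := Ideal.exists_le_maximal _ (zPt x).isPrime.ne_top
    let m : PrimeSpectrum (WLoc A) := ⟨M, hM.isPrime⟩
    obtain ⟨x', hx'⟩ := exists_le_zPt m
    obtain rfl := zPt_unique (q := zPt x) le_rfl (hle.trans hx')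
    exact le_antisymm hle hx' ▸ hM

lemma exists_zPt_iff (q : PrimeSpectrum (WLoc A)) :
    (∃ x, q = zPt x) ↔ ∀ a : A,
      ofStage {a} (stIdem (⟨{a}, subset_rfl⟩ : Pat {a})) * algebraMap A (WLoc A) a ∈ q.asIdeal := by
  classical
  constructor
  · rintro ⟨x, rfl⟩ a
    by_cases ha : a ∈ x.asIdeal
    · refine Ideal.mul_mem_left _ _ ?_
      change a ∈ (PrimeSpectrum.comap (algebraMap A (WLoc A)) (zPt x)).asIdeal
      rwa [comap_zPt]
    · refine Ideal.mul_mem_right _ _ ?_
      by_contra h
      have h1 : (⟨{a}, subset_rfl⟩ : Pat {a}) = patOf {a} x :=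
        component_unique ((zPt x).asIdeal.comap (ofStage {a})) h (not_mem_of_le_zPt {a} le_rfl)
      exact ha ((mem_stratum_patOf {a} x a (by simp)).2 (h1 ▸ by simp))
  · intro h
    obtain ⟨x, hx⟩ := exists_le_zPt q
    refine ⟨x, le_antisymm hx fun w hw ↦ ?_⟩
    have hxq : ∀ a, a ∈ x.asIdeal → algebraMap A (WLoc A) a ∈ q.asIdeal := by
      intro a ha
      refine (q.isPrime.mem_or_mem (h a)).resolve_left ?_
      have h1 : (⟨{a}, subset_rfl⟩ : Pat {a}) = patOf {a} x := by
        ext1
        simp [patOf, Finset.filter_singleton, ha]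
      rw [h1]
      exact not_mem_of_le_zPt {a} hx
    obtain ⟨E, y, rfl⟩ := exists_ofStage w
    obtain ⟨⟨a, s⟩, hs⟩ := IsLocalization.surj (stSub E (patOf E x).1) (y (patOf E x))
    have key : stIdem (patOf E x) * algebraMap A (StageRing E) a =
        stIdem (patOf E x) * algebraMap A (StageRing E) s * y := by
      ext R
      by_cases hR : R = patOf E x
      · subst hR; simp only [stIdem, Pi.mul_apply, Pi.single_eq_same, Pi.algebraMap_apply, one_mul]; rw [← hs, mul_comm]
      · simp [stIdem, hR]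
    have h' := congrArg (ofStage E) key
    simp only [map_mul, AlgHom.commutes] at h'
    have hax : a ∈ x.asIdeal := by
      have : ofStage E (stIdem (patOf E x)) * algebraMap A (WLoc A) a ∈ (zPt x).asIdeal := by
        rw [h']; exact Ideal.mul_mem_left _ _ hw
      have h2 := ((zPt x).isPrime.mem_or_mem this).resolve_left (not_mem_of_le_zPt E le_rfl)
      have h3 : a ∈ (PrimeSpectrum.comap (algebraMap A (WLoc A)) (zPt x)).asIdeal := h2
      rwa [comap_zPt] at h3
    have hq : ofStage E (stIdem (patOf E x)) * algebraMap A (WLoc A) a ∈ q.asIdeal :=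
      Ideal.mul_mem_left _ _ (hxq a hax)
    rw [h'] at hq
    refine (q.isPrime.mem_or_mem hq).resolve_left fun h1 ↦
      (q.isPrime.mem_or_mem h1).elim (not_mem_of_le_zPt E hx) fun h2 ↦ ?_
    have h3 : (s : A) ∈ (PrimeSpectrum.comap (algebraMap A (WLoc A)) (zPt x)).asIdeal := hx h2
    rw [comap_zPt] at h3
    exact s.2 x (mem_stratum_patOf E x) h3

lemma isWLocal_wLoc : ProEtW.IsWLocal (PrimeSpectrum (WLoc A)) := by
  refine ⟨inferInstance, ?_, fun q ↦ ?_⟩
  · have : {q : PrimeSpectrum (WLoc A) | IsClosed ({q} : Set (PrimeSpectrum (WLoc A)))} =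
        ⋂ a : A, PrimeSpectrum.zeroLocus
          {ofStage {a} (stIdem (⟨{a}, subset_rfl⟩ : Pat {a})) * algebraMap A (WLoc A) a} := by
      ext q
      simp only [mem_ofPred_eq, isClosed_singleton_iff, exists_zPt_iff, mem_iInter,
        PrimeSpectrum.mem_zeroLocus, singleton_subset_iff, SetLike.mem_coe]
    rw [this]
    exact isClosed_iInter fun a ↦ PrimeSpectrum.isClosed_zeroLocus _
  · obtain ⟨x, hx⟩ := exists_le_zPt q
    refine ⟨zPt x, ⟨(isClosed_singleton_iff _).2 ⟨x, rfl⟩,
      (PrimeSpectrum.le_iff_specializes _ _).1 hx⟩, ?_⟩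
    rintro z ⟨hz, hqz⟩
    obtain ⟨x', rfl⟩ := (isClosed_singleton_iff _).1 hz
    rw [zPt_unique hx ((PrimeSpectrum.le_iff_specializes _ _).2 hqz)]

lemma bijOn_wLoc :
    Set.BijOn (PrimeSpectrum.comap (algebraMap A (WLoc A)))
      (ProEtW.closedPoints (PrimeSpectrum (WLoc A))) Set.univ := by
  refine ⟨mapsTo_univ _ _, ?_, fun x _ ↦ ⟨zPt x, (isClosed_singleton_iff _).2 ⟨x, rfl⟩, comap_zPt x⟩⟩
  intro p hp q hq hpq
  obtain ⟨x, rfl⟩ := (isClosed_singleton_iff _).1 hp
  obtain ⟨x', rfl⟩ := (isClosed_singleton_iff _).1 hq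
  rw [comap_zPt, comap_zPt] at hpq
  rw [hpq]

end Groth.Agent.WLocal
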