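import Groth.Agent.Lib.WLocal.Localize
import Groth.Agent.Lib.WLocal.SH
import Groth.Agent.Lib.Hens.Finite

/-!
The w-localization is faithfully flat and ind-Zariski.
-/

open CategoryTheory Limits Set

universe u

namespace Groth.Agent.WLocal

set_option linter.style.haveILetI false

variable {A : Type u} [CommRing A]

/-- Local isomorphisms as a morphism property. -/
abbrev lizMP : MorphismProperty CommRingCat.{u} :=
  fun X Y f ↦ letI := f.hom.toAlgebra; Algebra.IsLocalIso X Y

lemma lizMP_ofHom {B : Type u} [CommRing B] [Algebra A B] (h : Algebra.IsLocalIso A B) :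
    lizMP (CommRingCat.ofHom (algebraMap A B)) := by
  show @Algebra.IsLocalIso A B _ _ (algebraMap A B).toAlgebra
  convert h
  exact Algebra.algebra_ext _ _ fun r ↦ rfl

lemma isIndZariski_iff_objectProperty (B : Type u) [CommRing B] [Algebra A B] :
    EtPBC.IsIndZariski A B ↔ ObjectProperty.ind.{u} (lizMP.{u}).underObj
      (Under.mk (CommRingCat.ofHom (algebraMap A B))) := by
  constructor
  · rintro ⟨J, _, _, D, c, hc, hD, ⟨e⟩⟩
    exact ⟨J, inferInstance, inferInstance,
      (⟨D, c.ι, hc⟩ : ColimitPresentation J c.pt).ofIso e, hD⟩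
  · rintro ⟨J, _, _, pres, h⟩
    exact ⟨J, inferInstance, inferInstance, pres.diag, pres.cocone, pres.isColimit, h, ⟨Iso.refl _⟩⟩

lemma fp_of_lizMP {X : Under (CommRingCat.of A)} (h : (lizMP.{u}).underObj X) :
    IsFinitelyPresentable.{u} X := by
  refine CommRingCat.isFinitelyPresentable_under _ X ?_
  letI := X.hom.hom.toAlgebra
  haveI : Algebra.IsLocalIso A X.right := h
  refine RingHom.finitePresentation_algebraMap.2 ?_
  obtain ⟨s, hs, hs'⟩ : ∃ s : Set X.right, Ideal.span s = ⊤ ∧
      ∀ g ∈ s, Algebra.IsStandardOpenImmersion A (Localization.Away g) :=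
    ⟨_, Algebra.IsLocalIso.span_isStandardOpenImmersion_eq_top A X.right, fun g hg ↦ hg⟩
  refine (RingHom.finitePresentation_ofLocalizationSpanTarget
    (algebraMap A X.right) s hs fun g ↦ ?_)
  haveI := hs' g.1 g.2
  obtain ⟨r, hr⟩ := Algebra.IsStandardOpenImmersion.exists_away A (Localization.Away g.1)
  haveI := IsLocalization.Away.finitePresentation r (S := Localization.Away g.1)
  rw [← IsScalarTower.algebraMap_eq A X.right (Localization.Away g.1)]
  exact RingHom.finitePresentation_algebraMap.2 inferInstance

section PiLoc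

variable {ι : Type u} [Finite ι] (S : ι → Submonoid A)

/-- Index set of the product diagram. -/
def PiIdx : Type u := ∀ i, LocIdx (S i)

instance : Preorder (PiIdx S) := inferInstanceAs (Preorder (∀ i, LocIdx (S i)))

/-- A component. -/
abbrev PiIdx.app {S : ι → Submonoid A} (g : PiIdx S) (i : ι) : LocIdx (S i) := g i

/-- Diagram of products of `A_g`. -/
noncomputable def piDiag : PiIdx S ⥤ Under (CommRingCat.of A) where
  obj g := (CommRingCat.of A).mkUnder (∀ i, Localization.Away (el (g i)).1)
  map h := AlgHom.toUnder (R := CommRingCat.of A) (AlgHom.pi fun i ↦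
    (locMap (leOfHom h i)).comp (Pi.evalAlgHom A _ i))
  map_id g := by
    ext x
    funext i
    exact AlgHom.congr_fun (awayHom_ext (locMap (le_refl (g i))) (AlgHom.id A _)) (x i)
  map_comp {g h k} f f' := by
    ext x
    funext i
    exact AlgHom.congr_fun (awayHom_ext (locMap ((leOfHom f i).trans (leOfHom f' i)))
      ((locMap (leOfHom f' i)).comp (locMap (leOfHom f i)))) (x i)

/-- Cocone to the product of localizations. -/
noncomputable def piCocone : Cocone (piDiag S) where
  pt := (CommRingCat.of A).mkUnder (∀ i, Localization (S i))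
  ι :=
    { app g := AlgHom.toUnder (R := CommRingCat.of A) (A := ∀ i, Localization.Away (el (g i)).1)
        (B := ∀ i, Localization (S i)) (AlgHom.pi fun i ↦
        (locLeg (S i) (Localization (S i)) (g i)).comp (Pi.evalAlgHom A _ i))
      naturality g h f := by
        refine Eq.trans ?_ (Category.comp_id _).symm
        ext x
        funext i
        exact (AlgHom.congr_fun (awayHom_ext (locLeg (S i) (Localization (S i)) (g i))
          ((locLeg (S i) (Localization (S i)) (h i)).comp (locMap (leOfHom f i)))) (x i)).symm }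

lemma isIndZariski_piLoc : EtPBC.IsIndZariski A (∀ i, Localization (S i)) := by
  haveI : Nonempty (PiIdx S) := ⟨fun i ↦ Classical.arbitrary _⟩
  haveI : IsDirected (PiIdx S) (· ≤ ·) := ⟨fun g h ↦
    ⟨fun i ↦ IsFiltered.max (g i) (h i), fun i ↦ leOfHom (IsFiltered.leftToMax (g i) (h i)),
      fun i ↦ leOfHom (IsFiltered.rightToMax (g i) (h i))⟩⟩
  classical
  have hc : IsColimit (piCocone S) := by
    refine isColimitUnderOfExists _ (fun x ↦ ?_) (fun g y y' h ↦ ?_)
    · have : ∀ i, ∃ (g : LocIdx (S i)) (y : Localization.Away (el g).1),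
          locLeg (S i) (Localization (S i)) g y = (x : ∀ i, Localization (S i)) i :=
        fun i ↦ exists_rep (locIsColimit (S i) (Localization (S i))) _
      choose g y hy using this
      exact ⟨g, y, funext hy⟩
    · have : ∀ i, ∃ (k : LocIdx (S i)) (hk : g i ≤ k),
          locMap hk ((y : ∀ i, Localization.Away (el (g i)).1) i) =
            locMap hk ((y' : ∀ i, Localization.Away (el (g i)).1) i) := fun i ↦ by
        obtain ⟨k, a, b, hab⟩ := exists_eq_of_rep (locIsColimit (S i) (Localization (S i)))
          (i := g i) (j := g i) _ _ (congrFun h i)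
        exact ⟨k, leOfHom a, hab.trans (by rw [Subsingleton.elim b a]; rfl)⟩
      choose k hk hk' using this
      exact ⟨k, homOfLE hk, funext hk'⟩
  refine ⟨_, inferInstance, inferInstance, piDiag S, piCocone S, hc, fun g ↦ ?_, ⟨Iso.refl _⟩⟩
  exact lizMP_ofHom (Algebra.IsLocalIso.pi_of_finite A fun i ↦ Localization.Away (el (g i)).1)

end PiLoc

lemma isIndZariski_wLoc : EtPBC.IsIndZariski A (WLoc A) := by
  rw [isIndZariski_iff_objectProperty, ← ObjectProperty.ind_ind
    (P := (lizMP.{u}).underObj) (fun f hf ↦ fp_of_lizMP hf)]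
  let c := colimit.cocone (wDiag A)
  have e : c.pt ≅ Under.mk (CommRingCat.ofHom (algebraMap A (WLoc A))) :=
    Under.isoMk (Iso.refl _) (Category.comp_id _)
  refine ⟨_, inferInstance, inferInstance,
    (⟨wDiag A, c.ι, colimit.isColimit _⟩ : ColimitPresentation _ c.pt).ofIso e, fun E ↦ ?_⟩
  exact (isIndZariski_iff_objectProperty (StageRing E)).1 (isIndZariski_piLoc _)

lemma faithfullyFlat_wLoc : Module.FaithfullyFlat A (WLoc A) := by
  refine faithfullyFlat_of_isColimit (colimit.isColimit (wDiag A)) fun E ↦ ?_
  have h : Module.FaithfullyFlat A (StageRing E) := by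
    classical
    haveI : ∀ P : Pat E, Module.Flat A (Localization (stSub E P.1)) :=
      fun P ↦ IsLocalization.flat _ (stSub E P.1)
    haveI := Fintype.ofFinite (Pat E)
    haveI : Module.Flat A (StageRing E) := Module.Flat.of_linearEquiv
      (DirectSum.linearEquivFunOnFintype A (Pat E) fun P ↦ Localization (stSub E P.1)).symm
    refine Module.FaithfullyFlat.of_comap_surjective fun x ↦
      ⟨PrimeSpectrum.comap (toPoint x E).toRingHom (IsLocalRing.closedPoint _), ?_⟩
    rw [← PrimeSpectrum.comap_comp_apply, AlgHom.toRingHom_eq_coe, (toPoint x E).comp_algebraMap]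
    ext1
    exact IsLocalization.AtPrime.under_maximalIdeal (Localization.AtPrime x.asIdeal) x.asIdeal
  show RingHom.FaithfullyFlat (algebraMap A (StageRing E))
  exact RingHom.faithfullyFlat_algebraMap_iff.2 h

lemma exists_wLocalization (A : Type u) [CommRing A] :
    ∃ (Aw : Type u) (_ : CommRing Aw) (_ : Algebra A Aw),
      Module.FaithfullyFlat A Aw ∧ EtPBC.IsIndZariski A Aw ∧ ProEtW.IsWLocal (PrimeSpectrum Aw) ∧
      Set.BijOn (PrimeSpectrum.comap (algebraMap A Aw)) (ProEtW.closedPoints (PrimeSpectrum Aw))
        Set.univ :=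
  ⟨WLoc A, inferInstance, inferInstance, faithfullyFlat_wLoc, isIndZariski_wLoc, isWLocal_wLoc,
    bijOn_wLoc⟩

end Groth.Agent.WLocal
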