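import Groth.Agent.Lib.WLocal.Square
import Groth.Agent.Lib.WLocal.Spec
import Mathlib.RingTheory.QuasiFinite.Basic
import Mathlib.RingTheory.Spectrum.Prime.Chevalley
import Mathlib.FieldTheory.PurelyInseparable.Basic
import Mathlib.RingTheory.Kaehler.Basic
import Mathlib.Topology.ExtremallyDisconnected

/-!
Spectra of quasi-finite finitely presented algebras over extremally disconnected spectra with separably
closed residue fields.
-/

open Set Topology TensorProduct

universe u

namespace Groth.Agent.WLocal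

set_option linter.style.haveILetI false
set_option linter.unusedSectionVars false

lemma extremallyDisconnected_of_openMap {X S : Type u} [TopologicalSpace X] [TopologicalSpace S]
    [ExtremallyDisconnected S] (f : X → S) (hc : Continuous f) (ho : IsOpenMap f)
    (hinj : ∀ x, ∃ U, IsOpen U ∧ x ∈ U ∧ InjOn f U) : ExtremallyDisconnected X := by
  refine ⟨fun W hW ↦ isOpen_iff_forall_mem_open.2 fun x hx ↦ ?_⟩
  obtain ⟨U, hU, hxU, hUi⟩ := hinj x
  refine ⟨U ∩ f ⁻¹' closure (f '' (W ∩ U)), fun y hy ↦ ?_,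
    hU.inter ((ExtremallyDisconnected.open_closure _ (ho _ (hW.inter hU))).preimage hc), hxU, ?_⟩
  · refine mem_closure_iff.2 fun N hN hyN ↦ ?_
    obtain ⟨s, ⟨n, hn, rfl⟩, w, hw, hwn⟩ := mem_closure_iff.1 hy.2 (f '' (N ∩ U)) (ho _ (hN.inter hU))
      (mem_image_of_mem f ⟨hyN, hy.1⟩)
    exact ⟨n, hn.1, (hUi hw.2 hn.2 hwn) ▸ hw.1⟩
  · exact image_closure_subset_closure_image hc (mem_image_of_mem f
      (mem_closure_iff.2 fun N hN hxN ↦ by
        obtain ⟨z, hz, hzW⟩ := mem_closure_iff.1 hx (N ∩ U) (hN.inter hU) ⟨hxN, hxU⟩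
        exact ⟨z, hz.1, hzW, hz.2⟩))

lemma isClopen_of_isConstructible {X : Type u} [TopologicalSpace X] [T2Space X] [CompactSpace X]
    {s : Set X} (hs : IsConstructible s) : IsClopen s := by
  induction hs using IsConstructible.empty_union_induction with
  | open_retrocompact U hU hUc => exact ⟨hUc.isCompact.isClosed, hU⟩
  | union s _ t _ h1 h2 => exact h1.union h2
  | compl s _ h1 => exact h1.compl

section

variable {A B : Type u} [CommRing A] [CommRing B] [Algebra A B]

lemma mem_prime_of_purelyInseparable [Algebra.QuasiFinite A B] (q : PrimeSpectrum B)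
    (hsc : IsSepClosed (q.asIdeal.comap (algebraMap A B)).ResidueField)
    (Q : PrimeSpectrum (B ⊗[A] B))
    (h1 : Q.asIdeal.comap (Algebra.TensorProduct.includeLeftRingHom (R := A) (A := B) (B := B)) =
      q.asIdeal)
    (h2 : Q.asIdeal.comap
      (Algebra.TensorProduct.includeRight (R := A) (A := B) (B := B)).toRingHom = q.asIdeal)
    (b : B) : (1 : B) ⊗ₜ[A] b - b ⊗ₜ[A] (1 : B) ∈ Q.asIdeal := by
  haveI := hsc
  let p := q.asIdeal.comap (algebraMap A B)
  letI : Algebra (Localization.AtPrime p) (Localization.AtPrime q.asIdeal) :=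
    (Localization.localRingHom p q.asIdeal (algebraMap A B) rfl).toAlgebra
  haveI : Localization.AtPrime.IsLiesOverAlgebra p q.asIdeal := ⟨rfl⟩
  haveI : Module.Finite p.ResidueField q.asIdeal.ResidueField := inferInstance
  haveI : IsPurelyInseparable p.ResidueField q.asIdeal.ResidueField := inferInstance
  let g1 := Ideal.ResidueField.map q.asIdeal Q.asIdeal
    (Algebra.TensorProduct.includeLeftRingHom (R := A) (A := B) (B := B)) h1.symm
  let g2 := Ideal.ResidueField.map q.asIdeal Q.asIdeal
    (Algebra.TensorProduct.includeRight (R := A) (A := B) (B := B)).toRingHom h2.symm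
  have he : g1 = g2 := by
    refine IsPurelyInseparable.injective_comp_algebraMap p.ResidueField q.asIdeal.ResidueField
      Q.asIdeal.ResidueField ?_
    refine Ideal.ResidueField.ringHom_ext (RingHom.ext fun a ↦ ?_)
    simp only [RingHom.comp_apply]
    rw [← IsScalarTower.algebraMap_apply A p.ResidueField q.asIdeal.ResidueField,
      IsScalarTower.algebraMap_apply A B q.asIdeal.ResidueField]
    simp only [g1, g2, Ideal.ResidueField.map_algebraMap]
    exact congrArg _ (Algebra.TensorProduct.tmul_one_eq_one_tmul (R := A) (A := B) (B := B) a)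
  have := RingHom.congr_fun he (algebraMap B q.asIdeal.ResidueField b)
  simp only [g1, g2, Ideal.ResidueField.map_algebraMap] at this
  rw [← Ideal.algebraMap_residueField_eq_zero, map_sub, sub_eq_zero]
  exact this.symm

/-- The spectrum of a quasi-finite finitely presented algebra over an extremally disconnected spectrum
with separably closed residue fields is extremally disconnected. -/
theorem extremallyDisconnected_of_quasiFinite [Algebra.QuasiFinite A B]
    [Algebra.FinitePresentation A B]
    (hres : ∀ p : PrimeSpectrum A, IsSepClosed p.asIdeal.ResidueField)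
    [T2Space (PrimeSpectrum A)] [ExtremallyDisconnected (PrimeSpectrum A)] :
    ExtremallyDisconnected (PrimeSpectrum B) := by
  obtain ⟨_, _, _⟩ := profinite_of_incomparable (A := A) (B := B) fun q q' hc hle ↦
    PrimeSpectrum.ext (Algebra.QuasiFinite.eq_of_le_of_under_eq q.asIdeal q'.asIdeal hle hc)
  let f := PrimeSpectrum.comap (algebraMap A B)
  have hopen : IsOpenMap f := PrimeSpectrum.isTopologicalBasis_basic_opens.isOpenMap_iff.2
    fun s hs ↦ by
      obtain ⟨r, rfl⟩ := hs
      exact (isClopen_of_isConstructible (PrimeSpectrum.isConstructible_comap_image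
        (RingHom.finitePresentation_algebraMap.2 inferInstance)
        ((PrimeSpectrum.isCompact_basicOpen r).isConstructible
          (PrimeSpectrum.basicOpen r).isOpen))).isOpen
  refine extremallyDisconnected_of_openMap f (PrimeSpectrum.continuous_comap _) hopen fun q ↦ ?_
  let I : Ideal (B ⊗[A] B) := KaehlerDifferential.ideal A B
  let K : Set (PrimeSpectrum (B ⊗[A] B)) := (PrimeSpectrum.zeroLocus (I : Set (B ⊗[A] B)))ᶜ
  have hK : IsCompact K :=
    (PrimeSpectrum.isRetrocompact_zeroLocus_compl_of_fg (KaehlerDifferential.ideal_fg A B)).isCompact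
  let pr : PrimeSpectrum (B ⊗[A] B) → PrimeSpectrum B × PrimeSpectrum B := fun Q ↦
    (PrimeSpectrum.comap (Algebra.TensorProduct.includeLeftRingHom (R := A) (A := B) (B := B)) Q,
     PrimeSpectrum.comap (Algebra.TensorProduct.includeRight (R := A) (A := B) (B := B)).toRingHom Q)
  have hpr : Continuous pr :=
    (PrimeSpectrum.continuous_comap _).prodMk (PrimeSpectrum.continuous_comap _)
  have hmem : (q, q) ∈ (pr '' K)ᶜ := by
    rintro ⟨Q, hQ, hQq⟩
    refine hQ ?_
    rw [PrimeSpectrum.mem_zeroLocus, SetLike.coe_subset_coe]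
    show KaehlerDifferential.ideal A B ≤ _
    rw [← KaehlerDifferential.span_range_eq_ideal, Ideal.span_le]
    rintro _ ⟨b, rfl⟩
    exact mem_prime_of_purelyInseparable q (hres (PrimeSpectrum.comap (algebraMap A B) q)) Q
      (congrArg PrimeSpectrum.asIdeal (congrArg Prod.fst hQq))
      (congrArg PrimeSpectrum.asIdeal (congrArg Prod.snd hQq)) b
  obtain ⟨U, V, hU, hV, hqU, hqV, hUV⟩ :=
    isOpen_prod_iff.1 (hK.image hpr).isClosed.isOpen_compl q q hmem
  refine ⟨U ∩ V, hU.inter hV, ⟨hqU, hqV⟩, fun x hx y hy hxy ↦ ?_⟩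
  obtain ⟨Q, hQx, hQy⟩ := exists_prime_over_pair x y hxy
  have hQI : Q ∈ PrimeSpectrum.zeroLocus (I : Set (B ⊗[A] B)) := by
    by_contra hn
    exact hUV (mk_mem_prod hx.1 hy.2) ⟨Q, hn, Prod.ext hQx hQy⟩
  refine hQx.symm.trans (Eq.trans (PrimeSpectrum.ext (SetLike.ext fun b ↦ ?_)) hQy)
  have hb : (1 : B) ⊗ₜ[A] b - b ⊗ₜ[A] (1 : B) ∈ Q.asIdeal := hQI (by
    show (1 : B) ⊗ₜ[A] b - b ⊗ₜ[A] (1 : B) ∈ KaehlerDifferential.ideal A B
    simp [KaehlerDifferential.ideal])
  change b ⊗ₜ[A] (1 : B) ∈ Q.asIdeal ↔ (1 : B) ⊗ₜ[A] b ∈ Q.asIdeal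
  exact ⟨fun h ↦ by simpa using Q.asIdeal.add_mem hb h,
    fun h ↦ by simpa using Q.asIdeal.sub_mem h hb⟩

end

end Groth.Agent.WLocal
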