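import Groth.Prelude.Def_ProEtW
import Groth.Agent.Lib.PtSet.Spectral
import Mathlib.Topology.Separation.Profinite
import Groth.Agent.Lib.PtSet.Components

/-!
Point-set topology of w-local spaces: profinite spaces of connected components, closed subspaces,
pullbacks along profinite spaces over the space of components.
-/

open Set Topology TopologicalSpace

set_option linter.unusedSectionVars false
set_option linter.style.haveILetI false

universe u

namespace Groth.Agent.WLocal

variable {X : Type u} [TopologicalSpace X]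

lemma mk_eq_of_specializes {x y : X} (h : x ⤳ y) :
    ConnectedComponents.mk x = ConnectedComponents.mk y := by
  rw [eq_comm, ConnectedComponents.coe_eq_coe']
  exact h.mem_closed isClosed_connectedComponent mem_connectedComponent

/-- Distinct components of a qcqs prespectral space are separated by a clopen set. -/
lemma exists_isClopen_separating [CompactSpace X] [PrespectralSpace X] [QuasiSeparatedSpace X]
    {x y : X} (h : ConnectedComponents.mk x ≠ ConnectedComponents.mk y) :
    ∃ Z : Set X, IsClopen Z ∧ x ∈ Z ∧ y ∉ Z := by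
  have hy : y ∉ connectedComponent x := fun hy ↦ h (ConnectedComponents.coe_eq_coe'.2 hy).symm
  rw [PtSet.connectedComponent_eq_sInter_isClopen_qcqs x] at hy
  simp only [mem_sInter, mem_ofPred_eq, not_forall, exists_prop] at hy
  obtain ⟨Z, ⟨hZ, hxZ⟩, hyZ⟩ := hy
  exact ⟨Z, hZ, hxZ, hyZ⟩

lemma preimage_image_mk_of_isClopen {Z : Set X} (hZ : IsClopen Z) :
    ConnectedComponents.mk ⁻¹' (ConnectedComponents.mk '' Z) = Z := by
  refine subset_antisymm ?_ (subset_preimage_image _ _)
  rintro y ⟨x, hx, hxy⟩
  exact hZ.connectedComponent_subset hx (ConnectedComponents.coe_eq_coe'.1 hxy.symm)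

lemma isClopen_image_mk {Z : Set X} (hZ : IsClopen Z) :
    IsClopen (ConnectedComponents.mk '' Z) := by
  constructor
  · rw [← ConnectedComponents.isQuotientMap_coe.isClosed_preimage,
      preimage_image_mk_of_isClopen hZ]
    exact hZ.1
  · rw [← ConnectedComponents.isQuotientMap_coe.isOpen_preimage, preimage_image_mk_of_isClopen hZ]
    exact hZ.2

instance t2Space_components [CompactSpace X] [PrespectralSpace X] [QuasiSeparatedSpace X] :
    T2Space (ConnectedComponents X) := by
  refine ⟨fun a b hab ↦ ?_⟩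
  obtain ⟨x, rfl⟩ := ConnectedComponents.surjective_coe a
  obtain ⟨y, rfl⟩ := ConnectedComponents.surjective_coe b
  obtain ⟨Z, hZ, hx, hy⟩ := exists_isClopen_separating hab
  refine ⟨_, _, (isClopen_image_mk hZ).2, (isClopen_image_mk hZ).compl.2, mem_image_of_mem _ hx,
    ?_, disjoint_compl_right⟩
  rintro hmem
  exact hy ((preimage_image_mk_of_isClopen hZ).subset hmem)

lemma spectralSpace_of_isClosed [SpectralSpace X] {Y : Set X} (hY : IsClosed Y) :
    SpectralSpace Y :=
  PtSet.spectralSpace_of_isClosed_toPatch (hY.preimage PtSet.continuous_fromPatch)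

lemma isClosed_singleton_subtype {Y : Set X} (hY : IsClosed Y) (y : Y) :
    IsClosed ({y} : Set Y) ↔ IsClosed ({y.1} : Set X) := by
  constructor
  · intro h
    simpa using hY.isClosedEmbedding_subtypeVal.isClosedMap _ h
  · intro h
    convert h.preimage continuous_subtype_val using 1
    ext z
    simp [Subtype.ext_iff]

lemma isWLocal_of_isClosed (hX : ProEtW.IsWLocal X) {Y : Set X} (hY : IsClosed Y) :
    ProEtW.IsWLocal Y := by
  obtain ⟨hs, hcl, hu⟩ := hX
  refine ⟨spectralSpace_of_isClosed hY, ?_, fun x ↦ ?_⟩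
  · simp only [isClosed_singleton_subtype hY]
    exact hcl.preimage continuous_subtype_val
  · obtain ⟨y, ⟨hy, hxy⟩, huniq⟩ := hu x.1
    refine ⟨⟨y, hxy.mem_closed hY x.2⟩, ⟨(isClosed_singleton_subtype hY _).2 hy,
      (subtype_specializes_iff _ _).2 hxy⟩, ?_⟩
    rintro z ⟨hz, hxz⟩
    exact Subtype.ext (huniq _ ⟨(isClosed_singleton_subtype hY _).1 hz, (subtype_specializes_iff _ _).1 hxz⟩)

/-! Pullback along a map to the space of components. -/

section Pullback

variable {T : Type u} [TopologicalSpace T] [CompactSpace T] [T2Space T]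
  [TotallyDisconnectedSpace T] (g : C(T, ConnectedComponents X))

/-- The fibre product of `X` and `T` over the components of `X`. -/
abbrev Fib := {p : X × T // ConnectedComponents.mk p.1 = g p.2}

variable [SpectralSpace X]

/-- The patch model of the fibre product. -/
abbrev FibPatch :=
  {p : WithConstructibleTopology X × T // ConnectedComponents.mk p.1.ofTopology = g p.2}

/-- The comparison map. -/
def fromFibPatch (p : FibPatch g) : Fib g := ⟨(p.1.1.ofTopology, p.1.2), p.2⟩

lemma fromFibPatch_surjective : Function.Surjective (fromFibPatch g) := fun p ↦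
  ⟨⟨(WithTopology.toTopology _ p.1.1, p.1.2), p.2⟩, rfl⟩

lemma compactSpace_fibPatch : CompactSpace (FibPatch g) := by
  refine (isCompact_iff_compactSpace (s := {p : WithConstructibleTopology X × T |
    ConnectedComponents.mk p.1.ofTopology = g p.2})).1 ?_
  exact (isClosed_eq ((ConnectedComponents.continuous_coe.comp PtSet.continuous_fromPatch).comp
    continuous_fst) (g.continuous.comp continuous_snd)).isCompact

/-- The basis of the fibre product given by qc opens times clopens. -/
def fibBasis : Set (Set (Fib g)) :=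
  {W | ∃ U : Set X, ∃ V : Set T, (IsOpen U ∧ IsCompact U) ∧ IsClopen V ∧
    W = Subtype.val ⁻¹' (U ×ˢ V)}

lemma isTopologicalBasis_fibBasis : IsTopologicalBasis (fibBasis g) := by
  refine isTopologicalBasis_of_isOpen_of_nhds ?_ ?_
  · rintro _ ⟨U, V, hU, hV, rfl⟩
    exact (hU.1.prod hV.2).preimage continuous_subtype_val
  · intro p W hpW hW
    obtain ⟨W', hW', rfl⟩ := isOpen_induced_iff.1 hW
    obtain ⟨A, B, hA, hB, hpA, hpB, hAB⟩ := isOpen_prod_iff.1 hW' p.1.1 p.1.2 hpW
    obtain ⟨U, hU, hpU, hUA⟩ :=
      PrespectralSpace.isTopologicalBasis.exists_subset_of_mem_open hpA hA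
    obtain ⟨V, hV, hpV, hVB⟩ := (isTopologicalBasis_isClopen (X := T)).exists_subset_of_mem_open hpB hB
    exact ⟨_, ⟨U, V, hU, hV, rfl⟩, ⟨hpU, hpV⟩, fun q hq ↦ hAB ⟨hUA hq.1, hVB hq.2⟩⟩

lemma spectralSpace_fib : SpectralSpace (Fib g) := by
  haveI := compactSpace_fibPatch g
  refine PtSet.spectralSpace_of_patch (fromFibPatch_surjective g) (isTopologicalBasis_fibBasis g) ?_
  rintro _ ⟨U, V, hU, hV, rfl⟩
  exact ((PtSet.isClopen_toPatch hU.1 hU.2).prod hV).preimage continuous_subtype_val

lemma isPreconnected_fibre (t : T) : IsPreconnected {p : Fib g | p.1.2 = t} := by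
  obtain ⟨x, hx⟩ := ConnectedComponents.surjective_coe (g t)
  have hc : IsPreconnected (connectedComponent x) := isPreconnected_connectedComponent
  have hmem : ∀ z : connectedComponent x, ConnectedComponents.mk z.1 = g t := fun z ↦ by
    rw [← hx]; exact ConnectedComponents.coe_eq_coe'.2 z.2
  haveI := isPreconnected_iff_preconnectedSpace.1 hc
  have : {p : Fib g | p.1.2 = t} = Set.range fun z : connectedComponent x ↦
      (⟨(z.1, t), hmem z⟩ : Fib g) := by
    ext p
    refine ⟨fun hp ↦ ⟨⟨p.1.1, ?_⟩, ?_⟩, ?_⟩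
    · apply ConnectedComponents.coe_eq_coe'.1
      rw [p.2, hx]
      exact congrArg g hp
    · exact Subtype.ext (Prod.ext rfl hp.symm)
    · rintro ⟨z, rfl⟩; rfl
  rw [this]
  exact isPreconnected_range (by fun_prop)

/-- The components of the fibre product. -/
noncomputable def componentsEquiv : ConnectedComponents (Fib g) ≃ₜ T := by
  haveI := (spectralSpace_fib g)
  have hq : Continuous fun p : Fib g ↦ p.1.2 := by fun_prop
  refine Continuous.homeoOfEquivCompactToT2
    (f := Equiv.ofBijective hq.connectedComponentsLift ⟨?_, ?_⟩)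
    hq.connectedComponentsLift_continuous
  · intro a b hab
    obtain ⟨p, rfl⟩ := ConnectedComponents.surjective_coe a
    obtain ⟨q, rfl⟩ := ConnectedComponents.surjective_coe b
    rw [hq.connectedComponentsLift_apply_coe, hq.connectedComponentsLift_apply_coe] at hab
    exact ConnectedComponents.coe_eq_coe'.2
      ((isPreconnected_fibre g q.1.2).subset_connectedComponent rfl hab)
  · intro t
    obtain ⟨x, hx⟩ := ConnectedComponents.surjective_coe (g t)
    exact ⟨ConnectedComponents.mk ⟨(x, t), hx⟩, hq.connectedComponentsLift_apply_coe _⟩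

lemma componentsEquiv_mk (p : Fib g) : componentsEquiv g (ConnectedComponents.mk p) = p.1.2 :=
  rfl

lemma isClosed_singleton_fib (hX : ProEtW.IsWLocal X) (p : Fib g) :
    IsClosed ({p} : Set (Fib g)) ↔ IsClosed ({p.1.1} : Set X) := by
  constructor
  · intro h
    obtain ⟨c, ⟨hc, hxc⟩, -⟩ := hX.2.2 p.1.1
    have hmem : ConnectedComponents.mk (c, p.1.2).1 = g (c, p.1.2).2 := by
      rw [← p.2]; exact (mk_eq_of_specializes hxc).symm
    have hsp : p ⤳ (⟨(c, p.1.2), hmem⟩ : Fib g) :=
      (subtype_specializes_iff _ _).2 (hxc.prod specializes_rfl)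
    have := hsp.mem_closed h rfl
    rw [mem_singleton_iff] at this
    rw [← congrArg (fun q : Fib g ↦ q.1.1) this]
    exact hc
  · intro h
    convert (h.prod (isClosed_singleton (x := p.1.2))).preimage continuous_subtype_val using 1
    ext q
    simp [Subtype.ext_iff, Prod.ext_iff]

lemma wLocal_fib (hX : ProEtW.IsWLocal X) :
    ProEtW.IsWLocal (Fib g) ∧ ProEtW.IsWLocalMap (fun p : Fib g ↦ p.1.1) ∧
      ProEtW.closedPoints (Fib g) = (fun p : Fib g ↦ p.1.1) ⁻¹' ProEtW.closedPoints X := by
  haveI := spectralSpace_fib g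
  have hset : {p : Fib g | IsClosed ({p} : Set (Fib g))} =
      (fun p : Fib g ↦ p.1.1) ⁻¹' {x : X | IsClosed ({x} : Set X)} := by
    ext p; exact isClosed_singleton_fib g hX p
  refine ⟨⟨inferInstance, ?_, fun p ↦ ?_⟩, ⟨⟨by fun_prop, ?_⟩, fun p hp ↦
    (isClosed_singleton_fib g hX p).1 hp⟩, hset⟩
  · rw [hset]; exact hX.2.1.preimage (by fun_prop)
  · obtain ⟨c, ⟨hc, hxc⟩, huniq⟩ := hX.2.2 p.1.1
    have hmem : ConnectedComponents.mk (c, p.1.2).1 = g (c, p.1.2).2 := by
      rw [← p.2]; exact (mk_eq_of_specializes hxc).symm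
    refine ⟨⟨(c, p.1.2), hmem⟩, ⟨(isClosed_singleton_fib g hX _).2 hc,
      (subtype_specializes_iff _ _).2 (hxc.prod specializes_rfl)⟩, ?_⟩
    rintro q ⟨hq, hpq⟩
    have h1 : q.1.1 = c := huniq _ ⟨(isClosed_singleton_fib g hX _).1 hq,
      hpq.map (by fun_prop : Continuous fun p : Fib g ↦ p.1.1)⟩
    have h2 : p.1.2 = q.1.2 :=
      (hpq.map (by fun_prop : Continuous fun p : Fib g ↦ p.1.2)).eq
    exact Subtype.ext (Prod.ext h1 h2.symm)
  · intro U hU hUc
    haveI := compactSpace_fibPatch g
    have hc : Continuous (fromFibPatch g) := by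
      refine Continuous.subtype_mk ?_ _
      exact ((PtSet.continuous_fromPatch.comp continuous_fst).comp continuous_subtype_val).prodMk
        (continuous_snd.comp continuous_subtype_val)
    have hp : IsCompact (fromFibPatch g ⁻¹' ((fun p : Fib g ↦ p.1.1) ⁻¹' U)) :=
      (((PtSet.isClopen_toPatch hU hUc).1.preimage continuous_fst).preimage
        continuous_subtype_val).isCompact
    simpa [image_preimage_eq _ (fromFibPatch_surjective g)] using hp.image hc

end Pullback

end Groth.Agent.WLocal
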