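import Groth.Agent.Lib.WLocal.LocalizeProps
import Groth.Agent.Lib.WLocal.SH
import Groth.Agent.Lib.WLocal.Top
import Groth.Agent.Lib.WLocal.Spec
import Mathlib.Topology.LocallyConstant.Algebra
import Mathlib.Topology.DiscreteQuotient

/-!
Locally constant functions on a profinite space, localizations of ind-Zariski algebras, and
realization of profinite spaces over the components of a spectrum.
-/

open CategoryTheory Limits Set Topology

universe u

namespace Groth.Agent.WLocal

set_option linter.style.haveILetI false
set_option linter.unusedSectionVars false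

variable {A C : Type u} [CommRing A] [CommRing C] [Algebra A C]

lemma locHomA_ext (S : Submonoid C) {T : Type u} [CommRing T] [Algebra A T]
    {φ ψ : Localization S →ₐ[A] T}
    (h : ∀ x : C, φ (algebraMap C _ x) = ψ (algebraMap C _ x)) : φ = ψ :=
  AlgHom.coe_ringHom_injective (IsLocalization.ringHom_ext S (RingHom.ext h))

section LocalIsoLoc

variable (S : Submonoid C)

/-- The diagram of the `C_g`, over the base. -/
noncomputable def locDiagOver : LocIdx S ⥤ Under (CommRingCat.of A) where
  obj g := (CommRingCat.of A).mkUnder (Localization.Away (el g).1)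
  map h := ((locMap (leOfHom h)).restrictScalars A).toUnder
  map_id g := by
    rw [awayHom_ext (locMap (leOfHom (𝟙 g))) (AlgHom.id C _)]; rfl
  map_comp {g h i} f f' := by
    rw [awayHom_ext (locMap (leOfHom (f ≫ f')))
      ((locMap (leOfHom f')).comp (locMap (leOfHom f)))]; rfl

variable (B : Type u) [CommRing B] [Algebra C B] [Algebra A B] [IsScalarTower A C B]
  [IsLocalization S B]

/-- The cocone to the localization, over the base. -/
noncomputable def locCoconeOver : Cocone (locDiagOver (A := A) S) where
  pt := (CommRingCat.of A).mkUnder B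
  ι :=
    { app g := AlgHom.toUnder (R := CommRingCat.of A) (A := Localization.Away (el g).1) (B := B)
        ((locLeg S B g).restrictScalars A)
      naturality g h f := by
        refine Eq.trans ?_ (Category.comp_id _).symm
        ext x
        exact (AlgHom.congr_fun (awayHom_ext (locLeg S B g)
          ((locLeg S B h).comp (locMap (leOfHom f)))) x).symm }

include S in
lemma isIndZariski_localIso_loc [Algebra.IsLocalIso A C] : EtPBC.IsIndZariski A B := by
  refine ⟨LocIdx S, inferInstance, inferInstance, locDiagOver S, locCoconeOver S B,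
    isColimitUnderOfExists _ (fun x ↦ ?_) (fun g y y' h ↦ ?_), fun g ↦ ?_, ⟨Iso.refl _⟩⟩
  · obtain ⟨g, y, hy⟩ := exists_rep (locIsColimit S B) x
    exact ⟨g, y, hy⟩
  · obtain ⟨k, a, b, hab⟩ := exists_eq_of_rep (locIsColimit S B) (i := g) (j := g) y y' h
    refine ⟨k, a, hab.trans ?_⟩
    rw [Subsingleton.elim b a]; rfl
  · haveI : Algebra.IsLocalIso A (Localization.Away (el g).1) :=
      Algebra.IsLocalIso.trans A C _
    exact lizMP_ofHom (B := Localization.Away (el g).1) inferInstance

end LocalIsoLoc

lemma isIndZariski_trans_loc (h : EtPBC.IsIndZariski A C) (S : Submonoid C) (B : Type u)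
    [CommRing B] [Algebra C B] [Algebra A B] [IsScalarTower A C B] [IsLocalization S B] :
    EtPBC.IsIndZariski A B := by
  obtain ⟨J, _, _, pres, hD⟩ := (isIndZariski_iff_objectProperty C).1 h
  letI : ∀ j, Algebra A (pres.diag.obj j).right := fun j ↦ (pres.diag.obj j).hom.hom.toAlgebra
  let φ (j : J) : (pres.diag.obj j).right →ₐ[A] C :=
    { ((pres.ι.app j).right.hom : (pres.diag.obj j).right →+* C) with
      commutes' := fun r ↦
        RingHom.congr_fun (congrArg CommRingCat.Hom.hom (Under.w (pres.ι.app j))) r }
  let D' {p q : J} (f : p ⟶ q) : (pres.diag.obj p).right →ₐ[A] (pres.diag.obj q).right :=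
    { (pres.diag.map f).right.hom with
      commutes' := fun r ↦
        RingHom.congr_fun (congrArg CommRingCat.Hom.hom (Under.w (pres.diag.map f))) r }
  let Sj (j : J) : Submonoid (pres.diag.obj j).right := S.comap (φ j)
  have hφ : ∀ {i j : J} (f : i ⟶ j) (x : (pres.diag.obj i).right),
      φ j ((pres.diag.map f).right x) = φ i x := fun f x ↦ app_map (c := pres.cocone) f x
  let tr {i j : J} (f : i ⟶ j) : Localization (Sj i) →ₐ[A] Localization (Sj j) :=
    IsLocalization.liftAlgHom (M := Sj i)
      (f := (IsScalarTower.toAlgHom A (pres.diag.obj j).right (Localization (Sj j))).comp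
        (D' f))
      fun y ↦ IsLocalization.map_units (Localization (Sj j))
        (⟨D' f y, show φ j ((pres.diag.map f).right y) ∈ S by rw [hφ]; exact y.2⟩ : Sj j)
  have tr_apply : ∀ {i j : J} (f : i ⟶ j) (x : (pres.diag.obj i).right),
      tr f (algebraMap _ _ x) = algebraMap _ _ ((pres.diag.map f).right x) :=
    fun f x ↦ IsLocalization.lift_eq _ x
  let F : J ⥤ Under (CommRingCat.of A) :=
    { obj j := (CommRingCat.of A).mkUnder (Localization (Sj j))
      map f := AlgHom.toUnder (R := CommRingCat.of A) (tr f)
      map_id j := by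
        rw [show tr (𝟙 j) = AlgHom.id A _ from locHomA_ext _ fun x ↦ by
          rw [tr_apply, pres.diag.map_id]; rfl]
        rfl
      map_comp {i j k} f g := by
        rw [show tr (f ≫ g) = (tr g).comp (tr f) from locHomA_ext _ fun x ↦ by
          rw [AlgHom.comp_apply, tr_apply, tr_apply, tr_apply, pres.diag.map_comp]; rfl]
        rfl }
  let leg (j : J) : Localization (Sj j) →ₐ[A] B :=
    IsLocalization.liftAlgHom (M := Sj j) (f := (IsScalarTower.toAlgHom A C B).comp (φ j))
      fun y ↦ IsLocalization.map_units B ⟨φ j y, y.2⟩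
  have leg_apply : ∀ (j : J) (x : (pres.diag.obj j).right),
      leg j (algebraMap _ _ x) = algebraMap C B (φ j x) := fun j x ↦ IsLocalization.lift_eq _ x
  let c : Cocone F :=
    { pt := (CommRingCat.of A).mkUnder B
      ι :=
        { app j := AlgHom.toUnder (R := CommRingCat.of A) (A := Localization (Sj j)) (B := B) (leg j)
          naturality i j f := by
            refine Eq.trans ?_ (Category.comp_id _).symm
            ext x
            refine AlgHom.congr_fun (show (leg j).comp (tr f) = leg i from locHomA_ext _ fun y ↦ ?_) x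
            rw [AlgHom.comp_apply, tr_apply, leg_apply, leg_apply, hφ] } }
  have hc : IsColimit c := by
    refine isColimitUnderOfExists _ (fun x ↦ ?_) (fun j y y' hy ↦ ?_)
    · change B at x
      obtain ⟨⟨a, s⟩, rfl⟩ := IsLocalization.mk'_surjective S x
      obtain ⟨j, y, hy⟩ := exists_rep_fintype pres.isColimit (![a, s.1] : Fin 2 → C)
      refine ⟨j, IsLocalization.mk' (Localization (Sj j)) (y 0) (⟨y 1, show φ j (y 1) ∈ S by
        rw [show φ j (y 1) = s.1 from hy 1]; exact s.2⟩ : Sj j), ?_⟩
      change leg j _ = _
      rw [IsLocalization.liftAlgHom_apply, IsLocalization.lift_mk'_spec]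
      change algebraMap C B (φ j (y 0)) = algebraMap C B (φ j (y 1)) * _
      rw [show φ j (y 0) = a from hy 0, show φ j (y 1) = s.1 from hy 1, mul_comm,
        IsLocalization.mk'_spec]
    · change Localization (Sj j) at y y'
      obtain ⟨⟨a, s⟩, rfl⟩ := IsLocalization.mk'_surjective (Sj j) y
      obtain ⟨⟨b, t⟩, rfl⟩ := IsLocalization.mk'_surjective (Sj j) y'
      have e1 : algebraMap C B (φ j (a * t.1)) = algebraMap C B (φ j (b * s.1)) := by
        have h1 := congrArg (leg j) (IsLocalization.mk'_spec (Localization (Sj j)) a s)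
        have h2 := congrArg (leg j) (IsLocalization.mk'_spec (Localization (Sj j)) b t)
        rw [map_mul, leg_apply, leg_apply] at h1 h2
        change leg j _ = leg j _ at hy
        rw [map_mul, map_mul, map_mul, map_mul, ← h1, ← h2, hy]
        ring
      obtain ⟨w, hw⟩ := (IsLocalization.eq_iff_exists S B).1 e1
      obtain ⟨i, w', hw'⟩ := exists_rep pres.isColimit (w : C)
      let m := IsFiltered.max i j
      let W := D' (IsFiltered.leftToMax i j) w'
      have hW : φ m W = w := (hφ _ _).trans hw'
      obtain ⟨k₀, f₀, g₀, hfg⟩ := exists_eq_of_rep pres.isColimit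
        (W * D' (IsFiltered.rightToMax i j) (a * t.1))
        (W * D' (IsFiltered.rightToMax i j) (b * s.1)) (by
          change φ m _ = φ m _
          have hD'' : ∀ z, φ m (D' (IsFiltered.rightToMax i j) z) = φ j z := fun z ↦ hφ _ z
          rw [map_mul (φ m), map_mul (φ m), hW, hD'', hD'', hw])
      let k := IsFiltered.coeq f₀ g₀
      let f := f₀ ≫ IsFiltered.coeqHom f₀ g₀
      have key : D' f (W * D' (IsFiltered.rightToMax i j) (a * t.1)) =
          D' f (W * D' (IsFiltered.rightToMax i j) (b * s.1)) := by
        have := congrArg (D' (IsFiltered.coeqHom f₀ g₀)) hfg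
        simp only [D', pres.diag.map_comp, CommRingCat.toAlgHom_comp, AlgHom.comp_apply, f]
        refine this.trans ?_
        change _ = (pres.diag.map _).right ((pres.diag.map _).right _)
        have hcoeq := IsFiltered.coeq_condition f₀ g₀
        change (pres.diag.map _).right ((pres.diag.map g₀).right _) = _
        rw [← CommRingCat.comp_apply, ← CommRingCat.comp_apply, ← Under.comp_right, ← Under.comp_right,
          ← pres.diag.map_comp, ← pres.diag.map_comp, hcoeq]
      let g := IsFiltered.rightToMax i j ≫ f
      refine ⟨k, g, ?_⟩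
      change tr g _ = tr g _
      have hg : ∀ z, algebraMap _ (Localization (Sj k)) (D' f (D' (IsFiltered.rightToMax i j) z)) =
          tr g (algebraMap _ _ z) := fun z ↦ by
        rw [tr_apply]
        simp only [D', g, pres.diag.map_comp]
        rfl
      have hu : IsUnit (algebraMap _ (Localization (Sj k)) (D' f W)) :=
        IsLocalization.map_units (Localization (Sj k))
          (⟨D' f W, show φ k ((pres.diag.map f).right W) ∈ S by rw [hφ, hW]; exact w.2⟩ : Sj k)
      have hus : ∀ z : Sj j, IsUnit (tr g (algebraMap _ _ z.1)) :=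
        fun z ↦ (IsLocalization.map_units _ z).map (tr g)
      have key' := congrArg (algebraMap _ (Localization (Sj k))) key
      simp only [map_mul] at key'
      rw [hg, hg, hg, hg] at key'
      have h1 := congrArg (tr g) (IsLocalization.mk'_spec (Localization (Sj j)) a s)
      have h2 := congrArg (tr g) (IsLocalization.mk'_spec (Localization (Sj j)) b t)
      rw [map_mul] at h1 h2
      rw [← h1, ← h2] at key'
      apply ((hu.mul (hus s)).mul (hus t)).mul_left_cancel
      linear_combination key'
  rw [isIndZariski_iff_objectProperty, ← ObjectProperty.ind_ind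
    (P := (lizMP.{u}).underObj) (fun f hf ↦ fp_of_lizMP hf)]
  have e : c.pt ≅ Under.mk (CommRingCat.ofHom (algebraMap A B)) :=
    Under.isoMk (Iso.refl _) (Category.comp_id _)
  refine ⟨J, inferInstance, inferInstance, (⟨F, c.ι, hc⟩ : ColimitPresentation J c.pt).ofIso e,
    fun j ↦ ?_⟩
  haveI : Algebra.IsLocalIso A (pres.diag.obj j).right := hD j
  exact (isIndZariski_iff_objectProperty (Localization (Sj j))).1
    (isIndZariski_localIso_loc (Sj j) _)

lemma isIndZariski_refl : EtPBC.IsIndZariski A A :=
  haveI : IsLocalization (⊥ : Submonoid A) A :=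
    IsLocalization.self fun x hx ↦ by rw [Submonoid.mem_bot.1 hx]; exact isUnit_one
  isIndZariski_of_isLocalization (⊥ : Submonoid A) A

section LC

variable (T : Type u) [TopologicalSpace T] [CompactSpace T]

lemma isIndZariski_lc (h : EtPBC.IsIndZariski A C) :
    EtPBC.IsIndZariski A (LocallyConstant T C) := by
  obtain ⟨J, _, _, pres, hD⟩ := (isIndZariski_iff_objectProperty C).1 h
  letI : ∀ j, Algebra A (pres.diag.obj j).right := fun j ↦ (pres.diag.obj j).hom.hom.toAlgebra
  let φ (j : J) : (pres.diag.obj j).right →ₐ[A] C :=
    { ((pres.ι.app j).right.hom : (pres.diag.obj j).right →+* C) with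
      commutes' := fun r ↦
        RingHom.congr_fun (congrArg CommRingCat.Hom.hom (Under.w (pres.ι.app j))) r }
  let D' {p q : J} (f : p ⟶ q) : (pres.diag.obj p).right →ₐ[A] (pres.diag.obj q).right :=
    { (pres.diag.map f).right.hom with
      commutes' := fun r ↦
        RingHom.congr_fun (congrArg CommRingCat.Hom.hom (Under.w (pres.diag.map f))) r }
  let K := J × (DiscreteQuotient T)ᵒᵈ
  let q (k : K) : DiscreteQuotient T := OrderDual.ofDual k.2
  have hle : ∀ {k k' : K} (f : k ⟶ k'), q k' ≤ q k := fun f ↦ leOfHom f.2
  let tr {k k' : K} (f : k ⟶ k') :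
      (q k → (pres.diag.obj k.1).right) →ₐ[A] (q k' → (pres.diag.obj k'.1).right) :=
    AlgHom.pi fun d ↦ (D' f.1).comp
      (Pi.evalAlgHom A (fun _ : q k ↦ (pres.diag.obj k.1).right) (DiscreteQuotient.ofLE (hle f) d))
  let F : K ⥤ Under (CommRingCat.of A) :=
    { obj k := (CommRingCat.of A).mkUnder (q k → (pres.diag.obj k.1).right)
      map f := AlgHom.toUnder (R := CommRingCat.of A) (tr f)
      map_id k := by
        ext x
        funext d
        change (pres.diag.map (𝟙 k.1)).right ((x : q k → _) (DiscreteQuotient.ofLE (le_refl (q k)) d)) = _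
        rw [pres.diag.map_id, DiscreteQuotient.ofLE_refl_apply]
        rfl
      map_comp {k k' k''} f g := by
        ext x
        funext d
        change (pres.diag.map (f.1 ≫ g.1)).right
            ((x : q k → _) (DiscreteQuotient.ofLE ((hle g).trans (hle f)) d)) =
          (pres.diag.map g.1).right ((pres.diag.map f.1).right
            ((x : q k → _) (DiscreteQuotient.ofLE (hle f) (DiscreteQuotient.ofLE (hle g) d))))
        rw [pres.diag.map_comp, DiscreteQuotient.ofLE_ofLE]
        rfl }
  let leg (k : K) : (q k → (pres.diag.obj k.1).right) →ₐ[A] LocallyConstant T C :=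
    { toFun y := ⟨fun t ↦ φ k.1 (y ((q k).proj t)),
        ((q k).proj_isLocallyConstant).comp (fun d ↦ φ k.1 (y d))⟩
      map_one' := by ext t; simp
      map_mul' _ _ := by ext t; simp
      map_zero' := by ext t; simp
      map_add' _ _ := by ext t; simp
      commutes' r := by ext t; exact (φ k.1).commutes r }
  let c : Cocone F :=
    { pt := (CommRingCat.of A).mkUnder (LocallyConstant T C)
      ι :=
        { app k := AlgHom.toUnder (R := CommRingCat.of A) (B := LocallyConstant T C) (leg k)
          naturality k k' f := by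
            refine Eq.trans ?_ (Category.comp_id _).symm
            ext x
            refine LocallyConstant.ext fun t ↦ ?_
            change φ k'.1 ((pres.diag.map f.1).right ((x : q k → _) _)) = φ k.1 ((x : q k → _) _)
            refine (app_map (c := pres.cocone) f.1 _).trans ?_
            rw [DiscreteQuotient.ofLE_proj]
            rfl } }
  haveI : IsFiltered (DiscreteQuotient T)ᵒᵈ := inferInstance
  have hc : IsColimit c := by
    refine isColimitUnderOfExists _ (fun x ↦ ?_) (fun k y y' hy ↦ ?_)
    · change LocallyConstant T C at x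
      obtain ⟨j, y, hy⟩ := exists_rep_fintype pres.isColimit (x.lift : x.discreteQuotient → C)
      refine ⟨(j, OrderDual.toDual x.discreteQuotient), y, LocallyConstant.ext fun t ↦ ?_⟩
      change φ j (y (x.discreteQuotient.proj t)) = x t
      exact (hy (x.discreteQuotient.proj t)).trans rfl
    · change q k → (pres.diag.obj k.1).right at y y'
      have hd : ∀ d : q k, φ k.1 (y d) = φ k.1 (y' d) := fun d ↦ by
        obtain ⟨t, rfl⟩ := (q k).proj_surjective d
        exact LocallyConstant.congr_fun hy t
      have : ∀ d : q k, ∃ (i : J) (f : k.1 ⟶ i),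
          (pres.diag.map f).right (y d) = (pres.diag.map f).right (y' d) := fun d ↦ by
        obtain ⟨i, f, g, hfg⟩ := exists_eq_of_rep pres.isColimit (i := k.1) (j := k.1) (y d) (y' d) (hd d)
        refine ⟨IsFiltered.coeq f g, f ≫ IsFiltered.coeqHom f g, ?_⟩
        conv_rhs => rw [IsFiltered.coeq_condition f g]
        simp only [pres.diag.map_comp, Under.comp_right, CommRingCat.comp_apply]
        rw [hfg]
      choose i f hf using this
      classical
      haveI := Fintype.ofFinite (q k)
      obtain ⟨s, g, hs⟩ : ∃ (s : J) (g : k.1 ⟶ s), ∀ d,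
          (pres.diag.map g).right (y d) = (pres.diag.map g).right (y' d) := by
        obtain ⟨s, hs, hcomm⟩ := IsFiltered.sup_exists
          (insert k.1 (Finset.univ.image i))
          (Finset.univ.image fun d ↦ (⟨k.1, i d, Finset.mem_insert_self _ _,
            Finset.mem_insert_of_mem (Finset.mem_image_of_mem i (Finset.mem_univ d)), f d⟩ :
            Σ' (X Y : J) (_ : X ∈ insert k.1 (Finset.univ.image i))
              (_ : Y ∈ insert k.1 (Finset.univ.image i)), X ⟶ Y))
        refine ⟨s, hs (Finset.mem_insert_self _ _), fun d ↦ ?_⟩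
        rw [← hcomm (Finset.mem_insert_self _ _) _ (Finset.mem_image_of_mem _ (Finset.mem_univ d))]
        simp only [pres.diag.map_comp, Under.comp_right, CommRingCat.comp_apply]
        rw [hf]
      refine ⟨(s, k.2), (g, 𝟙 k.2), ?_⟩
      funext d
      exact hs _
  rw [isIndZariski_iff_objectProperty]
  have e : c.pt ≅ Under.mk (CommRingCat.ofHom (algebraMap A (LocallyConstant T C))) :=
    Under.isoMk (Iso.refl _) (Category.comp_id _)
  refine ⟨K, inferInstance, inferInstance, (⟨F, c.ι, hc⟩ : ColimitPresentation K c.pt).ofIso e,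
    fun k ↦ ?_⟩
  haveI : Algebra.IsLocalIso A (pres.diag.obj k.1).right := hD k.1
  exact lizMP_ofHom (B := q k → (pres.diag.obj k.1).right)
    (Algebra.IsLocalIso.pi_of_finite A fun _ : q k ↦ (pres.diag.obj k.1).right)

/-- The point given by a point of the spectrum and a point of the space. -/
def lcPt (p : PrimeSpectrum C × T) : PrimeSpectrum (LocallyConstant T C) :=
  PrimeSpectrum.comap (LocallyConstant.evalRingHom p.2) p.1

variable {T}

lemma mem_lcPt {p : PrimeSpectrum C × T} {f : LocallyConstant T C} :
    f ∈ (lcPt T p).asIdeal ↔ f p.2 ∈ p.1.asIdeal := Iff.rfl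

variable [T2Space T] [TotallyDisconnectedSpace T]

lemma bijective_lcPt : Function.Bijective (lcPt (C := C) T) := by
  classical
  constructor
  · rintro ⟨x, t⟩ ⟨x', t'⟩ h
    have key : ∀ f : LocallyConstant T C, f t ∈ x.asIdeal ↔ f t' ∈ x'.asIdeal := fun f ↦ by
      rw [← mem_lcPt (p := (x, t)), h, mem_lcPt]
    have hx : x = x' := PrimeSpectrum.ext (SetLike.ext fun a ↦ key (LocallyConstant.const T a))
    refine Prod.ext hx ?_
    by_contra hne
    obtain ⟨U, hU, htU, htU'⟩ := exists_isClopen_of_totally_separated hne
    have h2 := key (LocallyConstant.charFn C hU)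
    simp [LocallyConstant.coe_charFn, htU, (show t' ∉ U from htU')] at h2
    exact x.isPrime.ne_top ((Ideal.eq_top_iff_one _).2 h2)
  · intro q
    let K : Set T := ⋂ U ∈ {U : Set T | ∃ h : IsClopen U, LocallyConstant.charFn C h ∉ q.asIdeal}, U
    have hmul : ∀ {U V : Set T} (hU : IsClopen U) (hV : IsClopen V),
        LocallyConstant.charFn C (hU.inter hV) =
          LocallyConstant.charFn C hU * LocallyConstant.charFn C hV := fun hU hV ↦ by
      ext t
      simp only [LocallyConstant.coe_mul, Pi.mul_apply, LocallyConstant.coe_charFn, Set.indicator_apply,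
        mem_inter_iff, Pi.one_apply]
      split_ifs <;> simp_all
    obtain ⟨t, ht⟩ : K.Nonempty := by
      by_contra hK
      rw [not_nonempty_iff_eq_empty] at hK
      obtain ⟨s, hs⟩ := isCompact_univ.elim_finite_subfamily_closed
        (fun U : {U : Set T // ∃ h : IsClopen U, LocallyConstant.charFn C h ∉ q.asIdeal} ↦ U.1)
        (fun U ↦ U.2.1.1) (by
          rw [univ_inter, ← hK]
          ext; simp [K])
      have key : ∀ s : Finset {U : Set T // ∃ h : IsClopen U, LocallyConstant.charFn C h ∉ q.asIdeal},
          ∃ h : IsClopen (⋂ U ∈ s, U.1), LocallyConstant.charFn C h ∉ q.asIdeal := by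
        intro s
        induction s using Finset.induction with
        | empty =>
          refine ⟨by simp [isClopen_univ], fun h ↦ q.isPrime.ne_top ((Ideal.eq_top_iff_one _).2 ?_)⟩
          convert h using 1
          ext t; simp [LocallyConstant.coe_charFn]
        | insert U s _ ih =>
          obtain ⟨hU, hUq⟩ := U.2
          obtain ⟨h, hq⟩ := ih
          have e : (⋂ V ∈ insert U s, (V : Set T)) = U.1 ∩ ⋂ V ∈ s, (V : Set T) := by simp
          refine ⟨e ▸ hU.inter h, fun hc ↦ ?_⟩
          refine (q.isPrime.mem_or_mem ?_).elim hUq hq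
          rw [← hmul hU h]
          convert hc using 2 <;> rw [e]
      obtain ⟨h, hq⟩ := key s
      refine hq ?_
      convert q.asIdeal.zero_mem
      ext t
      simp only [univ_inter] at hs
      simp [LocallyConstant.coe_charFn, hs]
    refine ⟨(PrimeSpectrum.comap (LocallyConstant.constRingHom (X := T) (Y := C)) q, t),
      PrimeSpectrum.ext (SetLike.ext fun f ↦ ?_)⟩
    rw [mem_lcPt]
    change LocallyConstant.const T (f t) ∈ q.asIdeal ↔ f ∈ q.asIdeal
    have hU : IsClopen (f ⁻¹' {f t}) := f.isLocallyConstant.isClopen_fiber _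
    have hq : LocallyConstant.charFn C hU ∉ q.asIdeal := by
      intro hmem
      have hc : LocallyConstant.charFn C hU.compl ∉ q.asIdeal := by
        intro hmem'
        refine q.isPrime.ne_top ((Ideal.eq_top_iff_one _).2 ?_)
        convert q.asIdeal.add_mem hmem hmem' using 1
        ext s
        simp only [LocallyConstant.coe_add, Pi.add_apply, LocallyConstant.coe_charFn,
          LocallyConstant.coe_one, Pi.one_apply, Set.indicator_apply, mem_compl_iff]
        split_ifs <;> simp_all
      exact (mem_iInter₂.1 ht _ ⟨hU.compl, hc⟩) rfl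
    have h0 : (f - LocallyConstant.const T (f t)) * LocallyConstant.charFn C hU = 0 := by
      ext s
      simp only [LocallyConstant.coe_mul, Pi.mul_apply, LocallyConstant.coe_charFn, Set.indicator_apply,
        LocallyConstant.coe_sub, Pi.sub_apply, mem_preimage, mem_singleton_iff, Pi.one_apply]
      split_ifs with hs <;> simp [hs]
    have h1 := (q.isPrime.mem_or_mem (h0 ▸ q.asIdeal.zero_mem)).resolve_right hq
    exact (q.asIdeal.add_mem_iff_right h1).symm.trans (by rw [sub_add_cancel])

lemma continuous_lcPt : Continuous (lcPt (C := C) T) := by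
  refine PrimeSpectrum.isTopologicalBasis_basic_opens.continuous_iff.2 ?_
  rintro _ ⟨f, rfl⟩
  have : lcPt T ⁻¹' (PrimeSpectrum.basicOpen f : Set _) =
      ⋃ a : C, (PrimeSpectrum.basicOpen a : Set (PrimeSpectrum C)) ×ˢ (f ⁻¹' {a}) := by
    ext p
    simp [mem_lcPt]
  rw [this]
  exact isOpen_iUnion fun a ↦ (PrimeSpectrum.basicOpen a).2.prod (f.isLocallyConstant.isOpen_fiber a)

lemma continuous_lcPt_symm :
    Continuous (Equiv.ofBijective _ (bijective_lcPt (C := C) (T := T))).symm := by
  classical
  set e := Equiv.ofBijective _ (bijective_lcPt (C := C) (T := T))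
  refine Continuous.prodMk (f := fun q ↦ (e.symm q).1) (g := fun q ↦ (e.symm q).2) ?_ ?_
  · have : (fun q ↦ (e.symm q).1) =
        PrimeSpectrum.comap (LocallyConstant.constRingHom (X := T) (Y := C)) := by
      funext q
      obtain ⟨p, rfl⟩ := e.surjective q
      rw [e.symm_apply_apply]
      rfl
    rw [this]
    exact PrimeSpectrum.continuous_comap _
  · refine (isTopologicalBasis_isClopen (X := T)).continuous_iff.2 fun U hU ↦ ?_
    have : (fun q ↦ (e.symm q).2) ⁻¹' U =
        (PrimeSpectrum.basicOpen (LocallyConstant.charFn C hU) : Set _) := by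
      ext q
      obtain ⟨⟨x, t⟩, rfl⟩ := e.surjective q
      simp only [mem_preimage, e.symm_apply_apply, SetLike.mem_coe, PrimeSpectrum.mem_basicOpen]
      change t ∈ U ↔ LocallyConstant.charFn C hU t ∉ x.asIdeal
      by_cases ht : t ∈ U
      · simpa [LocallyConstant.coe_charFn, ht] using
          fun h ↦ x.isPrime.ne_top ((Ideal.eq_top_iff_one _).2 h)
      · simp [LocallyConstant.coe_charFn, ht]
    rw [this]
    exact (PrimeSpectrum.basicOpen _).2

variable (T) in
/-- The spectrum of locally constant functions. -/
noncomputable def lcHomeo : PrimeSpectrum C × T ≃ₜ PrimeSpectrum (LocallyConstant T C) where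
  toEquiv := Equiv.ofBijective _ bijective_lcPt
  continuous_toFun := continuous_lcPt
  continuous_invFun := continuous_lcPt_symm

end LC

lemma exists_localization_onto_closed (C : Type u) [CommRing C]
    (T : Set (_root_.ConnectedComponents (PrimeSpectrum C))) (hT : IsClosed T) :
    ∃ S : Submonoid C, range (PrimeSpectrum.comap (algebraMap C (Localization S))) =
      _root_.ConnectedComponents.mk ⁻¹' T := by
  let S : Submonoid C :=
    { carrier := {e | IsIdempotentElem e ∧ _root_.ConnectedComponents.mk ⁻¹' T ⊆
        (PrimeSpectrum.basicOpen e : Set (PrimeSpectrum C))}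
      one_mem' := ⟨IsIdempotentElem.one, by simp⟩
      mul_mem' := fun ha hb ↦ ⟨ha.1.mul hb.1, by
        rw [PrimeSpectrum.basicOpen_mul]
        exact subset_inter ha.2 hb.2⟩ }
  refine ⟨S, ?_⟩
  rw [PrimeSpectrum.localization_comap_range (Localization S) S]
  ext x
  simp only [mem_ofPred_eq, mem_preimage]
  refine ⟨fun hx ↦ ?_, fun hx ↦ disjoint_left.2 fun e he hex ↦ he.2 hx hex⟩
  by_contra hxT
  obtain ⟨V, hV, hTV, hVx⟩ := exists_clopen_of_closed_subset_open hT
    (isClosed_singleton (x := _root_.ConnectedComponents.mk x)).isOpen_compl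
    (fun t ht (h : t = _) ↦ hxT (h ▸ ht))
  obtain ⟨e, he, hVe⟩ := PrimeSpectrum.isClopen_iff.1
    (hV.preimage _root_.ConnectedComponents.continuous_coe)
  refine disjoint_left.1 hx (show e ∈ S from ⟨he, (preimage_mono hTV).trans hVe.le⟩) ?_
  by_contra hex
  exact hVx (hVe.ge hex) rfl

/-- A homeomorphism on the spaces of components. -/
noncomputable def congrComponents {X Y : Type u} [TopologicalSpace X] [TopologicalSpace Y]
    (h : X ≃ₜ Y) : _root_.ConnectedComponents X ≃ₜ _root_.ConnectedComponents Y where
  toFun := h.continuous.connectedComponentsMap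
  invFun := h.symm.continuous.connectedComponentsMap
  left_inv a := by
    obtain ⟨x, rfl⟩ := _root_.ConnectedComponents.surjective_coe a
    exact congrArg _root_.ConnectedComponents.mk (h.symm_apply_apply x)
  right_inv a := by
    obtain ⟨x, rfl⟩ := _root_.ConnectedComponents.surjective_coe a
    exact congrArg _root_.ConnectedComponents.mk (h.apply_symm_apply x)
  continuous_toFun := h.continuous.connectedComponentsMap_continuous
  continuous_invFun := h.symm.continuous.connectedComponentsMap_continuous

lemma exists_realization (A₀ : Type u) [CommRing A₀] [Algebra A₀ A]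
    (hA : EtPBC.IsIndZariski A₀ A) (T : Type u)
    [TopologicalSpace T] [CompactSpace T] [T2Space T] [TotallyDisconnectedSpace T]
    (g : C(T, _root_.ConnectedComponents (PrimeSpectrum A))) :
    ∃ (B : Type u) (_ : CommRing B) (_ : Algebra A B) (_ : Algebra A₀ B)
      (_ : IsScalarTower A₀ A B) (h : PrimeSpectrum B ≃ₜ Fib g),
      EtPBC.IsIndZariski A₀ B ∧
        ∀ y, (h y).1.1 = PrimeSpectrum.comap (algebraMap A B) y := by
  let e := lcHomeo (C := A) T
  let ψ : PrimeSpectrum (LocallyConstant T A) → _root_.ConnectedComponents (PrimeSpectrum A) × T :=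
    fun q ↦ (_root_.ConnectedComponents.mk (e.symm q).1, (e.symm q).2)
  have hψ : Continuous ψ :=
    (_root_.ConnectedComponents.continuous_coe.comp (continuous_fst.comp e.symm.continuous)).prodMk
      (continuous_snd.comp e.symm.continuous)
  let K := hψ.connectedComponentsLift ⁻¹'
    {p : _root_.ConnectedComponents (PrimeSpectrum A) × T | p.1 = g p.2}
  have hK : IsClosed K :=
    (isClosed_eq continuous_fst (g.continuous.comp continuous_snd)).preimage
      hψ.connectedComponentsLift_continuous
  obtain ⟨S, hS⟩ := exists_localization_onto_closed _ K hK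
  let ι : PrimeSpectrum (Localization S) → PrimeSpectrum A × T :=
    fun y ↦ e.symm (PrimeSpectrum.comap (algebraMap _ (Localization S)) y)
  have hι : IsEmbedding ι :=
    e.symm.isEmbedding.comp (PrimeSpectrum.localization_comap_isEmbedding _ S)
  have hr : range ι = {p : PrimeSpectrum A × T | _root_.ConnectedComponents.mk p.1 = g p.2} := by
    rw [show ι = e.symm ∘ PrimeSpectrum.comap (algebraMap _ (Localization S)) from rfl,
      range_comp, hS]
    ext p
    rw [e.symm.image_eq_preimage_symm]
    simp only [Homeomorph.symm_symm, mem_preimage, K]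
    change hψ.connectedComponentsLift (_root_.ConnectedComponents.mk (e p)) ∈ _ ↔ _
    rw [hψ.connectedComponentsLift_apply_coe]
    simp [ψ]
  haveI : IsScalarTower A₀ A (LocallyConstant T A) := IsScalarTower.of_algebraMap_eq fun r ↦ rfl
  haveI : IsScalarTower A₀ A (Localization S) := IsScalarTower.of_algebraMap_eq fun r ↦ by
    rw [IsScalarTower.algebraMap_apply A₀ (LocallyConstant T A) (Localization S),
      IsScalarTower.algebraMap_apply A₀ A (LocallyConstant T A),
      ← IsScalarTower.algebraMap_apply A (LocallyConstant T A) (Localization S)]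
  refine ⟨Localization S, inferInstance, inferInstance, inferInstance, inferInstance,
    hι.toHomeomorph.trans (Homeomorph.setCongr hr),
    isIndZariski_trans_loc (isIndZariski_lc T hA) S _, fun y ↦ ?_⟩
  change (e.symm _).1 = _
  set z := PrimeSpectrum.comap (algebraMap (LocallyConstant T A) (Localization S)) y with hz
  have hcomap : (e.symm z).1 = PrimeSpectrum.comap (algebraMap A (LocallyConstant T A)) z := by
    obtain ⟨p, hp⟩ := e.surjective z
    rw [← hp, e.symm_apply_apply]
    refine PrimeSpectrum.ext (SetLike.ext fun a ↦ ?_)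
    exact Iff.rfl
  rw [hcomap, hz, ← PrimeSpectrum.comap_comp_apply,
    ← IsScalarTower.algebraMap_eq A (LocallyConstant T A) (Localization S)]

lemma exists_realization_profinite (A : Type u) [CommRing A] (T : Type u)
    [TopologicalSpace T] [CompactSpace T] [T2Space T] [TotallyDisconnectedSpace T]
    (g : C(T, _root_.ConnectedComponents (PrimeSpectrum A))) :
    ∃ (B : Type u) (_ : CommRing B) (_ : Algebra A B) (e : _root_.ConnectedComponents (PrimeSpectrum B) ≃ₜ T),
      EtPBC.IsIndZariski A B ∧
      (∀ y : PrimeSpectrum B,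
        g (e (_root_.ConnectedComponents.mk y)) = _root_.ConnectedComponents.mk (PrimeSpectrum.comap (algebraMap A B) y)) ∧
      Topology.IsEmbedding (fun y : PrimeSpectrum B =>
        (PrimeSpectrum.comap (algebraMap A B) y, e (_root_.ConnectedComponents.mk y))) ∧
      Set.range (fun y : PrimeSpectrum B =>
        (PrimeSpectrum.comap (algebraMap A B) y, e (_root_.ConnectedComponents.mk y))) =
        {p : PrimeSpectrum A × T | _root_.ConnectedComponents.mk p.1 = g p.2} := by
  obtain ⟨B, _, iA, iA', hst, h, hB, hh⟩ := exists_realization A isIndZariski_refl T g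
  have hAA : iA' = iA := Algebra.algebra_ext iA' iA fun r ↦
    @IsScalarTower.algebraMap_apply A A B _ _ _ _ iA iA' hst r
  subst hAA
  have key : ∀ y, (h y).1.2 =
      (congrComponents h).trans (componentsEquiv g) (_root_.ConnectedComponents.mk y) := fun y ↦ rfl
  refine ⟨B, inferInstance, inferInstance, (congrComponents h).trans (componentsEquiv g), hB,
    fun y ↦ ?_, ?_, ?_⟩
  · rw [← key, ← hh]; exact (h y).2.symm
  all_goals rw [show (fun y : PrimeSpectrum B => (PrimeSpectrum.comap (algebraMap A B) y,
      (congrComponents h).trans (componentsEquiv g) (_root_.ConnectedComponents.mk y))) =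
    Subtype.val ∘ h from funext fun y ↦ Prod.ext (hh y).symm (key y).symm]
  · exact IsEmbedding.subtypeVal.comp h.isEmbedding
  · rw [range_comp, h.surjective.range_eq, image_univ, Subtype.range_coe_subtype]

end Groth.Agent.WLocal
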