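import Groth.Agent.Lib.WLocal.Retract
import Groth.Agent.Lib.WLocal.IndRing
import Groth.Agent.Lib.WLocal.LocColim
import Groth.Agent.Lib.WLocal.WEProd

/-!
Retraction properties pass to localizations onto specializations of closed sets.
-/

open CategoryTheory Limits Set TensorProduct

universe u

namespace Groth.Agent.WLocal

set_option linter.style.haveILetI false

variable {A B : Type u} [CommRing A] [CommRing B] [Algebra A B] (S : Submonoid A)
  [hS : IsLocalization S B]

include hS

/-- An `A`-algebra map between algebras over a localization is linear over the localization. -/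
def ofLocalization {C : Type u} [CommRing C] [Algebra B C] [Algebra A C] [IsScalarTower A B C]
    (φ : C →ₐ[A] B) : C →ₐ[B] B :=
  { φ with
    commutes' := fun b ↦ RingHom.congr_fun
      (IsLocalization.ringHom_ext S (R := A) (S := B)
        (j := φ.toRingHom.comp (algebraMap B C)) (k := RingHom.id B)
        (by rw [RingHom.comp_assoc, ← IsScalarTower.algebraMap_eq A B C]; exact φ.comp_algebraMap)) b }

lemma hasEtaleRetractions_localization (I : Ideal A)
    (hB : range (PrimeSpectrum.comap (algebraMap A B)) =
      {x | ∃ z : PrimeSpectrum A, z ∈ PrimeSpectrum.zeroLocus (I : Set A) ∧ x ⤳ z})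
    (hA : ProEtW.HasEtaleRetractions A) : ProEtW.HasEtaleRetractions B := by
  intro C _ _ hff hC
  letI : Algebra A C := ((algebraMap B C).comp (algebraMap A B)).toAlgebra
  haveI : IsScalarTower A B C := IsScalarTower.of_algebraMap_eq fun _ ↦ rfl
  let c := (Under.forget (CommRingCat.of A)).mapCocone (locCocone S B)
  haveI : IsConnected (LocIdx S) := IsFiltered.isConnected _
  have hc : IsColimit c := isColimitOfPreserves _ (locIsColimit S B)
  have hf : etaleMP (CommRingCat.ofHom (algebraMap B C)) := RingHom.etale_algebraMap.2 hC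
  obtain ⟨g, C₀, f₀, γ, hsq, hf₀⟩ := MorphismProperty.exists_isPushout_of_isFiltered
    (P := etaleMP.{u}) hc ((CommRingCat.ofHom (algebraMap B C) : CommRingCat.of B ⟶ CommRingCat.of C) :
      c.pt ⟶ CommRingCat.of C) hf
  let α : CommRingCat.of A ⟶ C₀ :=
    CommRingCat.ofHom (algebraMap A (Localization.Away (el g).1)) ≫ f₀
  have hα : etaleMP α := etaleMP.{u}.comp_mem _ _
    (RingHom.etale_algebraMap.2 (Algebra.Etale.of_isLocalizationAway (el g).1)) hf₀
  have hαγ : ∀ a : A, γ (α a) = algebraMap A C a := fun a ↦ by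
    have h1 := RingHom.congr_fun (congrArg CommRingCat.Hom.hom hsq.w)
      (algebraMap A (Localization.Away (el g).1) a)
    refine h1.symm.trans ?_
    change algebraMap B C (locLeg S B g (algebraMap A _ a)) = _
    rw [AlgHom.commutes]; rfl
  letI : Algebra A C₀ := α.hom.toAlgebra
  haveI : Algebra.Etale A C₀ := hα
  have hcov : PrimeSpectrum.zeroLocus (I : Set A) ⊆
      range (PrimeSpectrum.comap (algebraMap A C₀)) := by
    intro z hz
    obtain ⟨q, hq⟩ := hB.ge ⟨z, hz, specializes_rfl⟩
    obtain ⟨w, rfl⟩ := PrimeSpectrum.comap_surjective_of_faithfullyFlat (B := C) q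
    refine ⟨PrimeSpectrum.comap γ.hom w, ?_⟩
    rw [← hq, ← PrimeSpectrum.comap_comp_apply, ← PrimeSpectrum.comap_comp_apply]
    congr 1
    ext a
    exact hαγ a
  obtain ⟨e, heI, hei, hT⟩ := exists_retraction_of_cover hA I C₀ hcov
  obtain ⟨ψ⟩ := hT B (isUnit_one_sub_of_specializing (Z := (I : Set A)) hB.le
    (Ideal.subset_span heI) hei)
  let r : CommRingCat.of C ⟶ CommRingCat.of B :=
    hsq.desc (𝟙 _) (CommRingCat.ofHom ψ.toRingHom) (by
      refine CommRingCat.hom_ext (IsLocalization.ringHom_ext (R := A) (S := Localization.Away (el g).1) (Submonoid.powers (el g).1) ?_)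
      ext a
      exact ((locLeg S B g).commutes a).trans (ψ.commutes a).symm)
  exact ⟨{ r.hom with
    commutes' := fun b ↦ RingHom.congr_fun (congrArg CommRingCat.Hom.hom (hsq.inl_desc (𝟙 _) _ _)) b }⟩

lemma isWContractible_localization (E : Finset A)
    (hB : range (PrimeSpectrum.comap (algebraMap A B)) =
      {x | ∃ z : PrimeSpectrum A, z ∈ PrimeSpectrum.zeroLocus (E : Set A) ∧ x ⤳ z})
    (hA : EtPBC.IsWContractible A) : EtPBC.IsWContractible B := by
  intro C _ _ hff hC
  letI : Algebra A C := ((algebraMap B C).comp (algebraMap A B)).toAlgebra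
  haveI : IsScalarTower A B C := IsScalarTower.of_algebraMap_eq fun _ ↦ rfl
  haveI : Algebra.WeaklyEtale A B :=
    { flat := IsLocalization.flat B S
      flat_lmul' := by
        haveI := IsLocalization.tensorProduct_compatibleSMul S B B B
        exact RingHom.Flat.of_bijective (Algebra.TensorProduct.lmulEquiv A B).bijective }
  haveI : Algebra.WeaklyEtale A C := Algebra.WeaklyEtale.trans A B C
  let L := ∀ f : E, Localization.Away f.1
  haveI : ∀ f : E, Algebra.Etale A (Localization.Away f.1) :=
    fun f ↦ Algebra.Etale.of_isLocalizationAway f.1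
  haveI : Algebra.WeaklyEtale A (C × L) := weaklyEtale_prod
  haveI : Module.FaithfullyFlat A (C × L) := by
    haveI : Module.Flat A (C × L) := Algebra.WeaklyEtale.flat
    refine Module.FaithfullyFlat.of_comap_surjective fun x ↦ ?_
    by_cases hx : x ∈ PrimeSpectrum.zeroLocus (E : Set A)
    · obtain ⟨q, hq⟩ := hB.ge ⟨x, hx, specializes_rfl⟩
      obtain ⟨w, rfl⟩ := PrimeSpectrum.comap_surjective_of_faithfullyFlat (B := C) q
      exact ⟨PrimeSpectrum.comap (RingHom.fst C L) w, hq⟩
    · simp only [PrimeSpectrum.mem_zeroLocus, not_subset] at hx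
      obtain ⟨f, hf, hfx⟩ := hx
      obtain ⟨w, rfl⟩ : x ∈ range (PrimeSpectrum.comap (algebraMap A (Localization.Away f))) := by
        rw [PrimeSpectrum.localization_away_comap_range (Localization.Away f) f]; exact hfx
      exact ⟨PrimeSpectrum.comap
        ((Pi.evalRingHom (fun f : E ↦ Localization.Away f.1) ⟨f, hf⟩).comp (RingHom.snd C L)) w,
        rfl⟩
  obtain ⟨r⟩ := hA (C × L) inferInstance inferInstance
  have he : r (0, 1) ∈ Ideal.span (E : Set A) := by
    classical
    have : ((0, 1) : C × L) = ∑ f : E, f.1 • ((0, Pi.single f (IsLocalization.Away.invSelf f.1)) :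
        C × L) := by
      refine Prod.ext (by simp [Prod.fst_sum]) ?_
      ext f
      rw [Prod.snd_sum, Finset.sum_apply, Finset.sum_eq_single f
        (fun i _ hi ↦ by
          show i.1 • (Pi.single i (IsLocalization.Away.invSelf i.1) : ∀ f : E, Localization.Away f.1) f = 0
          rw [Pi.single_eq_of_ne (Ne.symm hi), smul_zero])
        (by simp)]
      change (1 : Localization.Away f.1) = f.1 • (Pi.single f (IsLocalization.Away.invSelf f.1) : ∀ f : E, Localization.Away f.1) f
      rw [Pi.single_eq_same, Algebra.smul_def,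
        IsLocalization.Away.mul_invSelf]
    rw [this, map_sum]
    refine Ideal.sum_mem _ fun f _ ↦ ?_
    rw [map_smul, smul_eq_mul]
    exact Ideal.mul_mem_right _ _ (Ideal.subset_span f.2)
  obtain ⟨ψ⟩ := nonempty_of_prod r (T := B) (isUnit_one_sub_of_specializing hB.le he
    (by rw [IsIdempotentElem, ← map_mul]; simp))
  exact ⟨ofLocalization S ψ⟩

end Groth.Agent.WLocal
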