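import Groth.Agent.Lib.WLocal.StrictWLoc
import Mathlib.RingTheory.LocalRing.ResidueField.Ideal
import Mathlib.RingTheory.Algebraic.Integral

/-!
W-local replacements along maps with algebraic residue extensions.
-/

open CategoryTheory Limits Set Topology TensorProduct

universe u

namespace Groth.Agent.WLocal

set_option linter.style.haveILetI false
set_option linter.unusedSectionVars false

variable {A B : Type u} [CommRing A] [CommRing B] [Algebra A B]

lemma incomparable_of_algebraic (h : ProEtW.AlgebraicResidueExtensions A B) {q q' : PrimeSpectrum B}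
    (he : PrimeSpectrum.comap (algebraMap A B) q = PrimeSpectrum.comap (algebraMap A B) q')
    (hle : q.asIdeal ≤ q'.asIdeal) : q = q' := by
  have hc : q.asIdeal.comap (algebraMap A B) = q'.asIdeal.comap (algebraMap A B) := by
    simpa [PrimeSpectrum.ext_iff] using congrArg PrimeSpectrum.asIdeal he
  haveI := h q.asIdeal
  refine PrimeSpectrum.ext (le_antisymm hle fun b hb ↦ ?_)
  by_contra hbq
  obtain ⟨r, hr, hr'⟩ :=
    (Algebra.IsAlgebraic.isAlgebraic (R := A ⧸ q.asIdeal.comap (algebraMap A B))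
      (Ideal.Quotient.mk q.asIdeal b)).exists_nonzero_dvd
      (mem_nonZeroDivisors_of_ne_zero (mt Ideal.Quotient.eq_zero_iff_mem.1 hbq))
  obtain ⟨a, rfl⟩ := Ideal.Quotient.mk_surjective r
  obtain ⟨c, hc'⟩ := hr'
  obtain ⟨c, rfl⟩ := Ideal.Quotient.mk_surjective c
  have : algebraMap A B a - b * c ∈ q.asIdeal := by
    rw [← Ideal.Quotient.eq_zero_iff_mem, map_sub, map_mul, ← hc']
    exact sub_self _
  refine hr (Ideal.Quotient.eq_zero_iff_mem.2 ?_)
  rw [hc]
  change algebraMap A B a ∈ q'.asIdeal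
  have := q'.asIdeal.add_mem (hle this) (q'.asIdeal.mul_mem_right c hb)
  simpa using this

lemma exists_prime_of_homs {C L : Type u} [CommRing C] [Algebra A C] [CommRing L] [IsDomain L]
    (fb : B →+* L) (fc : C →+* L) (hab : ∀ x : A, fb (algebraMap A B x) = fc (algebraMap A C x)) :
    ∃ q : PrimeSpectrum (B ⊗[A] C), (∀ x : B, x ⊗ₜ (1 : C) ∈ q.asIdeal ↔ fb x = 0) ∧
      ∀ x : C, (1 : B) ⊗ₜ x ∈ q.asIdeal ↔ fc x = 0 := by
  letI : Algebra A L := (fb.comp (algebraMap A B)).toAlgebra
  let gb : B →ₐ[A] L := { fb with commutes' := fun _ ↦ rfl }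
  let gc : C →ₐ[A] L := { fc with commutes' := fun x ↦ (hab x).symm }
  let ψ := Algebra.TensorProduct.lift gb gc fun _ _ ↦ Commute.all _ _
  refine ⟨⟨RingHom.ker ψ.toRingHom, RingHom.ker_isPrime _⟩, fun x ↦ ?_, fun x ↦ ?_⟩
  · change ψ (x ⊗ₜ 1) = 0 ↔ _
    simp [ψ, gb]
  · change ψ ((1 : B) ⊗ₜ x) = 0 ↔ _
    simp [ψ, gc]

lemma exists_prime_over_pair {C : Type u} [CommRing C] [Algebra A C] (b : PrimeSpectrum B)
    (c : PrimeSpectrum C)
    (h : PrimeSpectrum.comap (algebraMap A B) b = PrimeSpectrum.comap (algebraMap A C) c) :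
    ∃ q : PrimeSpectrum (B ⊗[A] C),
      PrimeSpectrum.comap (algebraMap B (B ⊗[A] C)) q = b ∧
      PrimeSpectrum.comap (Algebra.TensorProduct.includeRight (R := A) (A := B) (B := C)).toRingHom q
        = c := by
  let a := (PrimeSpectrum.comap (algebraMap A B) b).asIdeal
  let kb := Ideal.ResidueField.map a b.asIdeal (algebraMap A B) rfl
  let kc := Ideal.ResidueField.map a c.asIdeal (algebraMap A C) (congrArg PrimeSpectrum.asIdeal h)
  letI : Algebra a.ResidueField b.asIdeal.ResidueField := kb.toAlgebra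
  letI : Algebra a.ResidueField c.asIdeal.ResidueField := kc.toAlgebra
  let T := b.asIdeal.ResidueField ⊗[a.ResidueField] c.asIdeal.ResidueField
  haveI : Nontrivial T :=
    Algebra.TensorProduct.nontrivial_of_algebraMap_injective_of_flat_left _ _ _
      (algebraMap a.ResidueField c.asIdeal.ResidueField).injective
  obtain ⟨N, hN⟩ := Ideal.exists_maximal T
  letI := Ideal.Quotient.field N
  let fb : B →+* T ⧸ N := ((Ideal.Quotient.mk N).comp
    (Algebra.TensorProduct.includeLeftRingHom (R := a.ResidueField)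
      (A := b.asIdeal.ResidueField) (B := c.asIdeal.ResidueField))).comp (algebraMap B _)
  let fc : C →+* T ⧸ N := ((Ideal.Quotient.mk N).comp
    (Algebra.TensorProduct.includeRight (R := a.ResidueField)
      (A := b.asIdeal.ResidueField) (B := c.asIdeal.ResidueField)).toRingHom).comp (algebraMap C _)
  have hab : ∀ x : A, fb (algebraMap A B x) = fc (algebraMap A C x) := by
    intro x
    simp only [fb, fc, RingHom.comp_apply]
    refine congrArg (Ideal.Quotient.mk N) ?_
    rw [← Ideal.ResidueField.map_algebraMap a b.asIdeal (algebraMap A B) rfl x,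
      ← Ideal.ResidueField.map_algebraMap a c.asIdeal (algebraMap A C)
        (congrArg PrimeSpectrum.asIdeal h) x]
    change (algebraMap a.ResidueField b.asIdeal.ResidueField (algebraMap A a.ResidueField x)) ⊗ₜ 1 =
      1 ⊗ₜ (algebraMap a.ResidueField c.asIdeal.ResidueField (algebraMap A a.ResidueField x))
    exact Algebra.TensorProduct.tmul_one_eq_one_tmul _
  obtain ⟨q, hqb, hqc⟩ := exists_prime_of_homs fb fc hab
  refine ⟨q, PrimeSpectrum.ext (SetLike.ext fun x ↦ ?_), PrimeSpectrum.ext (SetLike.ext fun x ↦ ?_)⟩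
  · refine (hqb x).trans ?_
    rw [← Ideal.algebraMap_residueField_eq_zero]
    exact map_eq_zero_iff _ (RingHom.injective
      ((Ideal.Quotient.mk N).comp (Algebra.TensorProduct.includeLeftRingHom
        (R := a.ResidueField) (A := b.asIdeal.ResidueField) (B := c.asIdeal.ResidueField))))
  · refine (hqc x).trans ?_
    rw [← Ideal.algebraMap_residueField_eq_zero]
    exact map_eq_zero_iff _ (RingHom.injective
      ((Ideal.Quotient.mk N).comp (Algebra.TensorProduct.includeRight
        (R := a.ResidueField) (A := b.asIdeal.ResidueField)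
        (B := c.asIdeal.ResidueField)).toRingHom))

lemma wLocal_replacement (_hA : ProEtW.IsWLocal (PrimeSpectrum A)) (I : Ideal A)
    (hI0 : PrimeSpectrum.zeroLocus (R := A) I = ProEtW.closedPoints (PrimeSpectrum A))
    (h : ProEtW.AlgebraicResidueExtensions A B) :
    PrimeSpectrum.zeroLocus (R := B) (I.map (algebraMap A B)) ⊆ ProEtW.closedPoints (PrimeSpectrum B) ∧
    ∃ (C : Type u) (_ : CommRing C) (_ : Algebra B C) (_ : Algebra A C) (_ : IsScalarTower A B C),
      EtPBC.IsIndZariski B C ∧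
      Function.Bijective (Ideal.quotientMap ((I.map (algebraMap A B)).map (algebraMap B C))
        (algebraMap B C) Ideal.le_comap_map) ∧
      ProEtW.IsWLocal (PrimeSpectrum C) ∧
      ProEtW.IsWLocalMap (PrimeSpectrum.comap (algebraMap A C)) ∧
      ProEtW.closedPoints (PrimeSpectrum C) =
        PrimeSpectrum.comap (algebraMap A C) ⁻¹' ProEtW.closedPoints (PrimeSpectrum A) := by
  have hzl : ∀ (C : Type u) [CommRing C] [Algebra A C] (y : PrimeSpectrum C),
      y ∈ PrimeSpectrum.zeroLocus (I.map (algebraMap A C) : Set C) ↔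
        PrimeSpectrum.comap (algebraMap A C) y ∈ ProEtW.closedPoints (PrimeSpectrum A) := by
    intro C _ _ y
    rw [← hI0]
    simp only [PrimeSpectrum.mem_zeroLocus, SetLike.coe_subset_coe, PrimeSpectrum.comap_asIdeal]
    exact Ideal.map_le_iff_le_comap
  have hclV := PrimeSpectrum.isClosed_zeroLocus (R := B) (I.map (algebraMap A B) : Set B)
  haveI := spectralSpace_of_isClosed hclV
  haveI : T1Space (PrimeSpectrum.zeroLocus (I.map (algebraMap A B) : Set B)) := by
    refine t1Space_iff_specializes_imp_eq.2 fun q q' hsp ↦ Subtype.ext ?_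
    have hsp' := (subtype_specializes_iff _ _).1 hsp
    have h1 := (hzl B q.1).1 q.2
    exact incomparable_of_algebraic h
      ((hsp'.map (PrimeSpectrum.continuous_comap _)).mem_closed h1 rfl).symm
      ((PrimeSpectrum.le_iff_specializes _ _).2 hsp')
  refine ⟨fun q hq ↦ (isClosed_singleton_subtype hclV ⟨q, hq⟩).1 isClosed_singleton, ?_⟩
  obtain ⟨C, _, _, hC, hCw, hCcl, hbij⟩ :=
    exists_wLocal_closedPoints_eq B (I.map (algebraMap A B)) isProfinite_of_t1
  letI : Algebra A C := ((algebraMap B C).comp (algebraMap A B)).toAlgebra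
  haveI : IsScalarTower A B C := IsScalarTower.of_algebraMap_eq fun _ ↦ rfl
  have hpre : ProEtW.closedPoints (PrimeSpectrum C) =
      PrimeSpectrum.comap (algebraMap A C) ⁻¹' ProEtW.closedPoints (PrimeSpectrum A) := by
    ext y
    rw [hCcl, Ideal.map_map, ← IsScalarTower.algebraMap_eq A B C]
    exact hzl C y
  exact ⟨C, inferInstance, inferInstance, inferInstance, inferInstance, hC, hbij, hCw,
    ⟨isSpectralMap_comap _, fun y hy ↦ hpre.subset hy⟩, hpre⟩

lemma algebraicResidue_baseChange {C : Type u} [CommRing C] [Algebra A C]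
    (h : ProEtW.AlgebraicResidueExtensions A B) :
    letI : Algebra C (B ⊗[A] C) := Algebra.TensorProduct.rightAlgebra
    ProEtW.AlgebraicResidueExtensions C (B ⊗[A] C) := by
  letI : Algebra C (B ⊗[A] C) := Algebra.TensorProduct.rightAlgebra
  intro q hq
  let R₁ := C ⧸ q.comap (algebraMap C (B ⊗[A] C))
  haveI : IsDomain R₁ := Ideal.Quotient.isDomain _
  refine ⟨fun z ↦ ?_⟩
  obtain ⟨z, rfl⟩ := Ideal.Quotient.mk_surjective z
  induction z with
  | zero => rw [map_zero]; exact isAlgebraic_zero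
  | add x y hx hy => rw [map_add]; exact hx.add hy
  | tmul b c =>
    rw [show b ⊗ₜ[A] c = (b ⊗ₜ[A] (1 : C)) * algebraMap C (B ⊗[A] C) c by
      rw [show algebraMap C (B ⊗[A] C) c = (1 : B) ⊗ₜ[A] c from rfl,
        Algebra.TensorProduct.tmul_mul_tmul, mul_one, one_mul], map_mul]
    refine IsAlgebraic.mul ?_ (isAlgebraic_algebraMap (R := R₁) (Ideal.Quotient.mk _ c))
    let p : Ideal B := q.comap (algebraMap B (B ⊗[A] C))
    haveI : p.IsPrime := Ideal.comap_isPrime _ q
    haveI := h p
    have hle : p.comap (algebraMap A B) ≤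
        (q.comap (algebraMap C (B ⊗[A] C))).comap (algebraMap A C) := by
      intro x hx
      change algebraMap B (B ⊗[A] C) (algebraMap A B x) ∈ q at hx
      change (1 : B) ⊗ₜ[A] algebraMap A C x ∈ q
      rw [Algebra.algebraMap_eq_smul_one, ← smul_tmul, ← Algebra.algebraMap_eq_smul_one]
      exact hx
    let f : A ⧸ p.comap (algebraMap A B) →+* R₁ := Ideal.quotientMap _ (algebraMap A C) hle
    have hf : Function.Injective f := by
      refine Ideal.quotientMap_injective' fun x hx ↦ ?_
      change algebraMap B (B ⊗[A] C) (algebraMap A B x) ∈ q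
      have hx' : (1 : B) ⊗ₜ[A] algebraMap A C x ∈ q := hx
      rw [Algebra.algebraMap_eq_smul_one, ← smul_tmul, ← Algebra.algebraMap_eq_smul_one] at hx'
      exact hx'
    let g : B ⧸ p →+* (B ⊗[A] C) ⧸ q := Ideal.quotientMap _ (algebraMap B (B ⊗[A] C)) le_rfl
    obtain ⟨P, hP, hPb⟩ := Algebra.IsAlgebraic.isAlgebraic
      (R := A ⧸ p.comap (algebraMap A B)) (Ideal.Quotient.mk p b)
    refine ⟨P.map f, (Polynomial.map_ne_zero_iff hf).2 hP, ?_⟩
    have hcomp : (algebraMap R₁ ((B ⊗[A] C) ⧸ q)).comp f =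
        g.comp (algebraMap (A ⧸ p.comap (algebraMap A B)) (B ⧸ p)) := by
      refine Ideal.Quotient.ringHom_ext (RingHom.ext fun x ↦ ?_)
      change Ideal.Quotient.mk q ((1 : B) ⊗ₜ[A] algebraMap A C x) =
        Ideal.Quotient.mk q (algebraMap A B x ⊗ₜ[A] (1 : C))
      rw [Algebra.algebraMap_eq_smul_one, Algebra.algebraMap_eq_smul_one, smul_tmul]
    rw [Polynomial.aeval_def, Polynomial.eval₂_map, hcomp,
      show Ideal.Quotient.mk q (b ⊗ₜ[A] (1 : C)) = g (Ideal.Quotient.mk p b) from rfl,
      ← Polynomial.hom_eval₂, ← Polynomial.aeval_def, hPb, map_zero]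

lemma exists_wLocal_square (h : ProEtW.AlgebraicResidueExtensions A B) :
    ∃ (C D : Type u) (_ : CommRing C) (_ : CommRing D) (_ : Algebra A C) (_ : Algebra B D)
      (_ : Algebra C D) (_ : Algebra A D) (_ : IsScalarTower A C D) (_ : IsScalarTower A B D),
      Module.FaithfullyFlat A C ∧ EtPBC.IsIndEtale A C ∧ Module.FaithfullyFlat B D ∧
      EtPBC.IsIndEtale B D ∧ ProEtW.IsWLocal (PrimeSpectrum C) ∧ ProEtW.IsWLocal (PrimeSpectrum D) ∧
      ProEtW.IsWLocalMap (PrimeSpectrum.comap (algebraMap C D)) ∧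
      ProEtW.closedPoints (PrimeSpectrum D) =
        PrimeSpectrum.comap (algebraMap C D) ⁻¹' ProEtW.closedPoints (PrimeSpectrum C) ∧
      PrimeSpectrum.comap (algebraMap A C) '' ProEtW.closedPoints (PrimeSpectrum C) = Set.univ ∧
      PrimeSpectrum.comap (algebraMap B D) '' ProEtW.closedPoints (PrimeSpectrum D) = Set.univ ∧
      ∀ (m : Ideal C) [m.IsMaximal],
        EtCoh.IsStrictlyHenselianLocalRing (Localization.AtPrime m) := by
  obtain ⟨C, _, _, hffC, hC, hW, himg, hsh⟩ := exists_strict_wLocal A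
  obtain ⟨I, hI⟩ := (PrimeSpectrum.isClosed_iff_zeroLocus_ideal _).1
    (show IsClosed (ProEtW.closedPoints (PrimeSpectrum C)) from hW.2.1)
  letI algCB' : Algebra C (B ⊗[A] C) := Algebra.TensorProduct.rightAlgebra
  obtain ⟨-, D, _, _, _, _, hD, hbij, hDw, hDmap, hDcl⟩ :=
    wLocal_replacement (B := B ⊗[A] C) hW I hI.symm (algebraicResidue_baseChange h)
  letI : Algebra B D := ((algebraMap (B ⊗[A] C) D).comp (algebraMap B (B ⊗[A] C))).toAlgebra
  haveI : IsScalarTower B (B ⊗[A] C) D := IsScalarTower.of_algebraMap_eq fun _ ↦ rfl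
  letI : Algebra A D := ((algebraMap B D).comp (algebraMap A B)).toAlgebra
  haveI : IsScalarTower A B D := IsScalarTower.of_algebraMap_eq fun _ ↦ rfl
  haveI : IsScalarTower A C D := IsScalarTower.of_algebraMap_eq fun x ↦ by
    rw [IsScalarTower.algebraMap_apply C (B ⊗[A] C) D]
    change algebraMap (B ⊗[A] C) D (algebraMap A B x ⊗ₜ[A] (1 : C)) =
      algebraMap (B ⊗[A] C) D ((1 : B) ⊗ₜ[A] algebraMap A C x)
    exact congrArg _ (Algebra.TensorProduct.tmul_one_eq_one_tmul x)
  have hind : EtPBC.IsIndEtale B D :=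
    isIndEtale_trans (isIndEtale_baseChange B hC) (isIndEtale_of_isIndZariski hD)
  haveI : Module.Flat B D := by
    haveI := WEtaleH7.weaklyEtale_of_isIndEtale hind
    exact Algebra.WeaklyEtale.flat
  have hpre : ∀ b : PrimeSpectrum B, ∃ y ∈ ProEtW.closedPoints (PrimeSpectrum D),
      PrimeSpectrum.comap (algebraMap B D) y = b := by
    intro b
    obtain ⟨c, hc, hcb⟩ := himg.ge (mem_univ (PrimeSpectrum.comap (algebraMap A B) b))
    obtain ⟨q, hqb, hqc⟩ := exists_prime_over_pair b c hcb.symm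
    have hqI : q ∈ PrimeSpectrum.zeroLocus (I.map (algebraMap C (B ⊗[A] C)) : Set (B ⊗[A] C)) := by
      rw [hI] at hc
      simp only [PrimeSpectrum.mem_zeroLocus, SetLike.coe_subset_coe] at hc ⊢
      refine Ideal.map_le_iff_le_comap.2 ?_
      have : I ≤ (PrimeSpectrum.comap (algebraMap C (B ⊗[A] C)) q).asIdeal :=
        le_of_le_of_eq hc (congrArg PrimeSpectrum.asIdeal hqc).symm
      exact this
    let J := I.map (algebraMap C (B ⊗[A] C))
    obtain ⟨q', hq'⟩ : q ∈ range (PrimeSpectrum.comap (Ideal.Quotient.mk J)) := by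
      rw [_root_.range_comap_of_surjective _ _ Ideal.Quotient.mk_surjective, Ideal.mk_ker]
      exact hqI
    let φ := RingEquiv.ofBijective _ hbij
    let y := PrimeSpectrum.comap (Ideal.Quotient.mk (J.map (algebraMap (B ⊗[A] C) D)))
      (PrimeSpectrum.comap φ.symm.toRingHom q')
    have hy : PrimeSpectrum.comap (algebraMap (B ⊗[A] C) D) y = q := by
      rw [← hq']
      simp only [y, ← PrimeSpectrum.comap_comp_apply]
      congr 1
      refine RingHom.ext fun r ↦ ?_
      exact φ.symm_apply_apply (Ideal.Quotient.mk J r)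
    refine ⟨y, ?_, ?_⟩
    · rw [hDcl, mem_preimage, IsScalarTower.algebraMap_eq C (B ⊗[A] C) D,
        PrimeSpectrum.comap_comp_apply, hy]
      exact (congrArg (· ∈ ProEtW.closedPoints (PrimeSpectrum C)) hqc).mpr hc
    · rw [IsScalarTower.algebraMap_eq B (B ⊗[A] C) D, PrimeSpectrum.comap_comp_apply, hy, hqb]
  refine ⟨C, D, inferInstance, inferInstance, inferInstance, inferInstance, inferInstance,
    inferInstance, inferInstance, inferInstance, hffC, hC,
    Module.FaithfullyFlat.of_comap_surjective fun b ↦ ?_, hind, hW, hDw, hDmap, hDcl, himg, ?_, hsh⟩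
  · obtain ⟨y, -, hy⟩ := hpre b
    exact ⟨y, hy⟩
  · exact eq_univ_of_forall fun b ↦ by
      obtain ⟨y, hy, hyb⟩ := hpre b
      exact ⟨y, hy, hyb⟩

end Groth.Agent.WLocal
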